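import Cfsg.Agent.Lib.LocalBalance.PlusEight

/-!
# Local balance of `PΩ⁺_{2m}(q)`, `m ≥ 4`

* `par_class`, `par_trip` : parity and classes
* `TriCrit` : what is needed for triality automorphisms
* `plus_local_balance`
-/

set_option autoImplicit false
set_option linter.unusedSectionVars false

namespace Cfsg.Agent.LocalBalance

open Cfsg Matrix Cfsg.Agent.Orth Cfsg.Agent.AutPOmega Cfsg.Agent.Triality
open Cfsg.Agent.OrthEven (par baseU)
open Cfsg.Agent.OrthOuter (Sim sap toSim conjAut)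

variable {F : Type*} [Field F] [Fintype F]

set_option quotPrecheck false in
local notation "P8" => POmega F ⇑(Q4 F)

variable (F) in
/-- What is needed of the automorphisms in the triality coset. -/
def TriCrit : Prop :=
  ∀ (a : Sim (Q4 F)) (σ : F ≃+* F), a ∈ Trip F →
    orderOf (conjAut (Q4 F) a * triality F * galHom 4 F σ) = 3 →
    Crit 3 (conjAut (Q4 F) a * triality F * galHom 4 F σ) ∧
      3 ∣ Nat.card (fixK (conjAut (Q4 F) a * triality F * galHom 4 F σ))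

theorem hS4 : OrthEven.Split (quadPlus 4 F) 4 (baseU 4 F) := OrthEven.splitPlus (by norm_num)

theorem sim_mem (g : Sim (Q4 F)) : (g : GL IJ F) ∈ Geo.quadSimilarityGroup (F := F) ⇑(Q4 F) := g.2

theorem par_mulS (g h : Sim (Q4 F)) : par (baseU 4 F) ((g * h : Sim (Q4 F)) : GL IJ F) =
    par (baseU 4 F) (g : GL IJ F) * par (baseU 4 F) (h : GL IJ F) :=
  hS4.par_mul (sim_mem g) (sim_mem h)

theorem par_scalS (t : Fˣ) : par (baseU 4 F) ((OrthOuter.scal (Q4 F) t : Sim (Q4 F)) : GL IJ F) = 1 := by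
  have h : ((OrthOuter.scal (Q4 F) t : Sim (Q4 F)) : GL IJ F) = FieldAut.scal t := by
    refine Units.ext (Matrix.ext_of_mulVec_single fun i => ?_)
    show sap (OrthOuter.scal (Q4 F) t) _ = _
    rw [OrthOuter.sap_scal, FieldAut.scal_coe, Matrix.smul_mulVec, Matrix.one_mulVec]
  rw [h, hS4.par_scalar]

theorem oc_eq_par {g h : Sim (Q4 F)} (e : oc (Q4 F) g = oc (Q4 F) h) :
    par (baseU 4 F) (g : GL IJ F) = par (baseU 4 F) (h : GL IJ F) := by
  have e' : (QuotientGroup.mk (conjAut (Q4 F) g) : Out P8) = QuotientGroup.mk (conjAut (Q4 F) h) := e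
  rw [QuotientGroup.eq, OrthOuter.inn_eq] at e'
  obtain ⟨_, ⟨o, ho, rfl⟩, he⟩ := e'
  have h1 : conjAut (Q4 F) ((g * toSim (Q4 F) o)⁻¹ * h) = 1 := by
    rw [map_mul, map_inv, map_mul, he, mul_inv_cancel_left, inv_mul_cancel]
  have H : AutPOmega.Base (Q4 F) := base4
  obtain ⟨h2, e2⟩ := conjAut_eq_semiAut ((g * toSim (Q4 F) o)⁻¹ * h)
  obtain ⟨-, t, ht⟩ := semi_eq_one H h2 (e2.symm.trans h1)
  have h3 : (g * toSim (Q4 F) o)⁻¹ * h = OrthOuter.scal (Q4 F) t := OrthOuter.ext_sap fun x => by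
    rw [OrthOuter.sap_scal]
    show (((((g * toSim (Q4 F) o)⁻¹ * h : Sim (Q4 F)) : GL IJ F)) : Matrix IJ IJ F) *ᵥ x = _
    rw [← ht]
    show Matrix.scalar IJ (t : F) *ᵥ x = _
    rw [Matrix.scalar_apply, ← Matrix.smul_one_eq_diagonal, Matrix.smul_mulVec, Matrix.one_mulVec]
  rw [inv_mul_eq_iff_eq_mul] at h3
  rw [h3, par_mulS, par_mulS, par_scalS, mul_one]
  rw [show par (baseU 4 F) ((toSim (Q4 F) o : Sim (Q4 F)) : GL IJ F) = 1 from ?_, mul_one]
  rw [OrthOuter.toSim_coe, hS4.par_iso, ((mem_omega_iff hS4.good o).1 ho).1]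

theorem par_pd (p : Fˣ × (Fin 4 → Fˣ)) : par (baseU 4 F) ((pd 4 F p : Sim (Q4 F)) : GL IJ F) = 1 := by
  classical
  have hU : (baseU 4 F).map (Matrix.toLin' ((pd 4 F p : Sim (Q4 F)) : GL IJ F).1) = baseU 4 F := by
    refine Submodule.eq_of_le_of_finrank_le ?_ (le_of_eq (OrthEven.finrank_map_toLin' _ _).symm)
    rintro _ ⟨v, hv, rfl⟩
    refine OrthEven.mem_baseU.2 fun i => ?_
    rw [Matrix.toLin'_apply, show (((pd 4 F p : Sim (Q4 F)) : GL IJ F) : Matrix IJ IJ F) *ᵥ v =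
      sap (pd 4 F p) v from rfl, sap_pd]
    show _ * v (.inr i) = 0
    rw [OrthEven.mem_baseU.1 hv i, mul_zero]
  have h1 := hS4.par_one (F := F)
  unfold par at h1 ⊢
  rw [hU]
  rwa [Units.val_one, Matrix.toLin'_one, Submodule.map_id] at h1

theorem oc_swap : oc (Q4 F) (toSim (Q4 F) (swapAt (m := 4) 0)) = iOut F * sOut (-1 : Fˣ) := by
  rw [swap_eq, map_mul, map_mul, toSim_pdIso, oc_cIso]
  congr 1
  show dg F _ = dg F _
  refine dg_congr (-1) (by simp) ⟨1, ?_⟩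
  simp [Fin.prod_univ_four, Pi.mulSingle_apply]

theorem par_class (g : Sim (Q4 F)) : ∃ l : ℕ,
    par (baseU 4 F) (g : GL IJ F) = (-1) ^ l ∧ oc (Q4 F) g * (iOut F ^ l)⁻¹ ∈ DGrp F := by
  obtain ⟨ν, hν⟩ := exists_nu (F := F)
  obtain ⟨j, k, l, h⟩ := exists_oc_eq (m := 4) le_rfl 0 hν g
  refine ⟨l, ?_, ?_⟩
  · rw [oc_eq_par (h.trans (by rw [← map_pow, ← map_mul])), par_mulS, par_pd, one_mul]
    clear h
    induction l with
    | zero => rw [pow_zero, pow_zero]; exact hS4.par_one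
    | succ l ih =>
      rw [pow_succ, par_mulS, ih, pow_succ]
      congr 1
      rw [OrthOuter.toSim_coe, hS4.par_iso, dick_swapAt le_rfl]
  · have hpd : oc (Q4 F) (pd 4 F (ν ^ j, Pi.mulSingle 0 (ν ^ k))) ∈ DGrp F := by
      rw [show ((ν ^ j, Pi.mulSingle 0 (ν ^ k)) : Fˣ × (Fin 4 → Fˣ)) =
        (ν, 1) ^ j * (1, Pi.mulSingle 0 ν) ^ k by simp [Prod.pow_mk, ← Pi.mulSingle_pow],
        map_mul, map_mul, map_pow, map_pow, map_pow, map_pow]
      exact mul_mem (pow_mem (sd_mem ν).2 j) (pow_mem (sd_mem ν).1 k)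
    rw [h, oc_swap, mul_assoc]
    refine mul_mem hpd ?_
    clear h
    induction l with
    | zero => simp
    | succ l ih =>
      rw [pow_succ, pow_succ', show (iOut F * sOut (-1 : Fˣ)) ^ l * (iOut F * sOut (-1)) * (iOut F * iOut F ^ l)⁻¹ =
        ((iOut F * sOut (-1 : Fˣ)) ^ l * (iOut F ^ l)⁻¹) *
          (iOut F ^ l * (iOut F * sOut (-1) * (iOut F)⁻¹) * (iOut F ^ l)⁻¹) by
          rw [show iOut F * iOut F ^ l = iOut F ^ l * iOut F by rw [← pow_succ, pow_succ']]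
          group]
      exact mul_mem ih (pow_conj_D _ (fun _ => i_conj_D) l (i_conj_D (sd_mem _).1))

theorem iOut_not_mem : iOut F ∉ DGrp F := fun h => by
  have h2 : SemiCls (tOut F ^ 2 * iOut F) := by
    rw [sq, ← iOut_tOut]
    have h3 := (DGrp.semi (t_conj_D h))
    rw [← eq_mul_inv_of_mul_eq (show (tOut F * iOut F * (tOut F)⁻¹) * (tOut F) = tOut F * iOut F by group)]
      at h3
    rwa [show iOut F * tOut F = tOut F * iOut F * (tOut F)⁻¹ from ?_]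
    rw [eq_mul_inv_iff_mul_eq, mul_assoc, show iOut F * (tOut F * tOut F) = tOut F * iOut F from ?_]
    rw [← mul_assoc, iOut_tOut, mul_assoc _ (iOut F), iOut_tOut]
    simp only [← mul_assoc]
    rw [tOut_cube, one_mul]
  exact absurd (semiCls_t_of_ti (F := F) h2) (by decide)

theorem mem_D_par {g : Sim (Q4 F)} : oc (Q4 F) g ∈ DGrp F ↔ par (baseU 4 F) (g : GL IJ F) = 1 := by
  obtain ⟨l, hl, hd⟩ := par_class g
  rw [hl]
  have hi2 : iOut F ^ 2 = 1 := by rw [sq, iOut_sq]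
  rw [pow_eq_pow_mod l hi2] at hd
  rcases Nat.mod_two_eq_zero_or_one l with he | he <;> rw [he] at hd
  · rw [pow_zero, inv_one, mul_one] at hd
    rw [(Nat.even_iff.2 he).neg_one_pow]
    exact iff_of_true hd rfl
  · rw [(Nat.odd_iff.2 he).neg_one_pow]
    refine iff_of_false (fun h => iOut_not_mem (F := F) ?_) (by norm_num)
    rw [pow_one] at hd
    have := mul_mem (inv_mem hd) h
    rwa [_root_.mul_inv_rev, inv_inv, inv_mul_cancel_right] at this

theorem innerDiag_mem_D {x : MulAut P8} (h : Cfsg.IsInnerDiagonalAutPOmegaPlus 4 x) :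
    (QuotientGroup.mk x : Out P8) ∈ DGrp F := by
  obtain ⟨g, hg, hp, hi⟩ := h
  rw [(OrthOuter.induced_iff (Q := Q4 F) ⟨g, hg⟩ x).1 hi]
  exact (mem_D_par (g := ⟨g, hg⟩)).2 ((hS4.preserves_iff hg).1 hp)

theorem semi_of_commute (g : Sim (Q4 F)) (hg : par (baseU 4 F) (g : GL IJ F) ≠ 1) (β : MulAut P8)
    (hβ : β * conjAut (Q4 F) g = conjAut (Q4 F) g * β) :
    ∃ (h : GL IJ F) (τ : F ≃+* F) (hs : IsSemisimilarityPair ⇑(Q4 F) h τ), β = semiAut (Q4 F) hs := by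
  refine SemiCls.exists_semi ?_
  obtain ⟨c, e, hd⟩ := exists_coset (QuotientGroup.mk β : Out P8)
  obtain ⟨l, hl, hdg⟩ := par_class g
  have hi2 : iOut F ^ 2 = 1 := by rw [sq, iOut_sq]
  have hlo : l % 2 = 1 := (Nat.mod_two_eq_zero_or_one l).resolve_left fun h0 => hg (by
    rw [hl, (Nat.even_iff.2 h0).neg_one_pow])
  rw [pow_eq_pow_mod l hi2, hlo, pow_one] at hdg
  set y : Out P8 := QuotientGroup.mk β
  set w := tOut F ^ c * iOut F ^ e with hw
  have hcomm : y * oc (Q4 F) g = oc (Q4 F) g * y := by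
    show y * QuotientGroup.mk (conjAut (Q4 F) g) = QuotientGroup.mk (conjAut (Q4 F) g) * y
    rw [← QuotientGroup.mk_mul, ← QuotientGroup.mk_mul, hβ]
  set d := y * w⁻¹
  set d₁ := oc (Q4 F) g * (iOut F)⁻¹
  have hwD : ∀ z ∈ DGrp F, w * z * w⁻¹ ∈ DGrp F := fun z hz => by
    rw [hw, show tOut F ^ c * iOut F ^ e * z * (tOut F ^ c * iOut F ^ e)⁻¹ =
      tOut F ^ c * (iOut F ^ e * z * (iOut F ^ e)⁻¹) * (tOut F ^ c)⁻¹ by group]
    exact pow_conj_D _ (fun _ => t_conj_D) c (pow_conj_D _ (fun _ => i_conj_D) e hz)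
  have h1 : w * iOut F * w⁻¹ * (iOut F)⁻¹ =
      (w * d₁ * w⁻¹)⁻¹ * d⁻¹ * d₁ * (iOut F * d * (iOut F)⁻¹) := by
    have h2 : d * w * (d₁ * iOut F) = d₁ * iOut F * (d * w) := by
      simpa [d, d₁, mul_assoc] using hcomm
    calc w * iOut F * w⁻¹ * (iOut F)⁻¹
        = (w * d₁ * w⁻¹)⁻¹ * d⁻¹ * (d * w * (d₁ * iOut F)) * w⁻¹ * (iOut F)⁻¹ := by group
      _ = (w * d₁ * w⁻¹)⁻¹ * d⁻¹ * d₁ * (iOut F * d * (iOut F)⁻¹) := by rw [h2]; group
  have hmem : w * iOut F * w⁻¹ * (iOut F)⁻¹ ∈ DGrp F := by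
    rw [h1]
    exact mul_mem (mul_mem (mul_mem (inv_mem (hwD _ hdg)) (inv_mem hd)) hdg) (i_conj_D hd)
  have hwi : w * iOut F * w⁻¹ * (iOut F)⁻¹ = tOut F ^ (2 * c) := by
    have hci : iOut F * (tOut F ^ c)⁻¹ = tOut F ^ c * iOut F := by
      rw [mul_inv_eq_iff_eq_mul, conj_i, mul_assoc, ← pow_add, show 2 * c + c = 3 * c by ring, pow_mul,
        pow_succ, sq, tOut_cube, one_pow, mul_one]
    rw [hw, _root_.mul_inv_rev, show tOut F ^ c * iOut F ^ e * iOut F * ((iOut F ^ e)⁻¹ * (tOut F ^ c)⁻¹) =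
      tOut F ^ c * (iOut F ^ e * iOut F * (iOut F ^ e)⁻¹) * (tOut F ^ c)⁻¹ by group,
      (Commute.self_pow (iOut F) e).eq.symm, mul_inv_cancel_right, mul_assoc (tOut F ^ c), hci,
      ← mul_assoc, mul_inv_cancel_right, ← pow_add, two_mul]
  obtain ⟨m, hm⟩ : 3 ∣ c := (Nat.Coprime.dvd_of_dvd_mul_left (by norm_num)
    (semiCls_tOut_pow (F := F) (hwi ▸ DGrp.semi hmem)))
  have hy : y = d * iOut F ^ e := by
    show y = y * w⁻¹ * _
    rw [hw, hm, pow_mul, pow_succ (tOut F) 2, sq, tOut_cube, one_pow, one_mul, inv_mul_cancel_right]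
  rw [hy, ← oc_cIso, ← map_pow]
  exact (DGrp.semi hd).mul (semiCls_oc _)

theorem omega_mem_trip {o : IsoGrp (Q4 F)} (ho : o ∈ Omega F ⇑(Q4 F)) : toSim (Q4 F) o ∈ Trip F := by
  obtain ⟨⟨⟨o', b, c⟩, h⟩, e⟩ := fstHom_surjective (F := F) (om o)
  obtain ⟨s, hs, hx⟩ := (om_eq_iff base4 h.1.1 ho).1 e
  have hs0 : s ≠ 0 := left_ne_zero_of_mul_eq_one hs
  refine ⟨toSim _ b, toSim _ c, s, hs0, fun x y z => ?_⟩
  rw [OrthOuter.sap_toSim, OrthOuter.sap_toSim, OrthOuter.sap_toSim, hx]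
  have h1 : tri (s • ap o' x) (ap b y) (ap c z) = s * tri (ap o' x) (ap b y) (ap c z) := by
    simp [tri]; ring
  rw [h1]
  exact congrArg (s * ·) (h.2 x y z)

/-- `Crit` in the triality coset. -/
theorem crit_triality (hT : TriCrit F) {x : MulAut P8} (hord : orderOf x = 3) {c : ℕ} (hc : ¬ 3 ∣ c)
    (h : (QuotientGroup.mk x : Out P8) * (tOut F ^ c)⁻¹ ∈ DGrp F) :
    Crit 3 x ∧ 3 ∣ Nat.card (fixK x) := by
  have key : ∀ z : MulAut P8, orderOf z = 3 → (QuotientGroup.mk z : Out P8) * (tOut F)⁻¹ ∈ DGrp F →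
      Crit 3 z ∧ 3 ∣ Nat.card (fixK z) := by
    intro z hz hd
    obtain ⟨a, ha, σ, he⟩ := hd
    rw [mul_inv_eq_iff_eq_mul, mul_assoc, (galOut_tOut σ).eq] at he
    have he' : (QuotientGroup.mk z : Out P8) =
        QuotientGroup.mk (conjAut (Q4 F) a * (triality F * galHom 4 F σ)) := by
      rw [he, QuotientGroup.mk_mul, QuotientGroup.mk_mul]; rfl
    set z₀ := conjAut (Q4 F) a * (triality F * galHom 4 F σ) with hz₀
    obtain ⟨_, ⟨o, ho, rfl⟩, hoe⟩ : z * z₀⁻¹ ∈ (OrthOuter.omegaS (Q4 F)).map (conjAut (Q4 F)) := by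
      rw [← OrthOuter.inn_eq, ← QuotientGroup.eq_one_iff, QuotientGroup.mk_mul, QuotientGroup.mk_inv]
      show (QuotientGroup.mk z : Out P8) * _ = 1
      rw [he', mul_inv_cancel]
    have hzz : z = conjAut (Q4 F) (toSim (Q4 F) o * a) * triality F * galHom 4 F σ := by
      rw [map_mul, hoe, hz₀]; group
    rw [hzz] at hz ⊢
    exact hT _ σ (mul_mem (omega_mem_trip ho) ha) hz
  have hmod := Nat.mod_lt c (show 0 < 3 by norm_num)
  have h3 : tOut F ^ 3 = 1 := by rw [pow_succ, sq, tOut_cube]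
  rw [pow_eq_pow_mod c h3] at h
  interval_cases hm : c % 3
  · exact absurd (Nat.dvd_of_mod_eq_zero hm) hc
  · exact key x hord (by rwa [pow_one] at h)
  · have h1 : (QuotientGroup.mk x⁻¹ : Out P8) * (tOut F)⁻¹ ∈ DGrp F := by
      have h2 := inv_mem h
      have h4 := t_conj_D h2
      rw [_root_.mul_inv_rev, inv_inv, ← mul_assoc (tOut F), ← pow_succ', h3, one_mul] at h4
      exact h4
    obtain ⟨hcr, hd⟩ := key x⁻¹ (by rw [orderOf_inv]; exact hord) h1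
    have hfix : fixK x⁻¹ = fixK x := by
      ext k
      rw [mem_fixK, mem_fixK]
      constructor <;> intro hk
      · conv_lhs => rw [← hk, MulAut.apply_inv_self]
      · conv_lhs => rw [← hk, MulAut.inv_apply_self]
    rw [hfix] at hd
    refine ⟨⟨hfix ▸ hcr.ne, hcr.inj, fun hd' N hN hn => hcr.core (hfix.symm ▸ hd') N (hfix.symm ▸ hN)
      (hfix.symm ▸ hn), fun hd' β hβ hk => hcr.rigid (hfix.symm ▸ hd') β ?_ (hfix.symm ▸ hk)⟩, hd⟩
    exact (Commute.inv_right hβ).eq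

theorem finish {m : ℕ} [NeZero m] {p : ℕ} {q : MulAut (POmega F (quadFormPlus m F))}
    (h : Crit p q ∧ (p = 2 → ¬ Nat.Coprime p (Nat.card (fixK q))) ∧
      (p ≠ 2 → Cfsg.IsFieldAutClassPOmega (quadFormPlus m F) q)) :
    Crit p q ∧ (Cfsg.IsFieldAutClassPOmega (quadFormPlus m F) q ∨
      ¬ Nat.Coprime p (Nat.card (fixK q))) :=
  ⟨h.1, (eq_or_ne p 2).elim (fun e => .inr (h.2.1 e)) fun e => .inl (h.2.2 e)⟩

theorem plus_eight {r : ℕ} [Fact r.Prime] [CharP F r] (hT : r ≠ 3 → TriCrit F)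
    {p : ℕ} [Fact p.Prime] (hpr : p ≠ r) (x : MulAut P8) (hord : orderOf x = p)
    (hnot : ¬ Cfsg.IsInnerDiagonalAutPOmegaPlus 4 x) :
    Crit p x ∧ (Cfsg.IsFieldAutClassPOmega (quadFormPlus 4 F) x ∨
      ¬ Nat.Coprime p (Nat.card (fixK x))) := by
  classical
  have hxp : x ^ p = 1 := hord ▸ pow_orderOf_eq_one x
  rcases semi_or_triality (p := p) x hxp with hsemi | ⟨hp2, j, hsemi, hD⟩ | ⟨hp3, c, hc, hD⟩
  · obtain ⟨g, σ, hs, hx⟩ := hsemi.exists_semi
    refine finish (crit_semi le_rfl hpr hs hx hord hnot fun _ g' hg' β hβ => ?_)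
    refine semi_of_commute g' (fun hpar => hnot ?_) β (hg' ▸ hβ)
    exact ⟨g'.1, g'.2, (hS4.preserves_iff g'.2).2 hpar, (OrthOuter.induced_iff g' x).2 hg'⟩
  · subst hp2
    set T := triality F ^ j with hT'
    set y := T * x * T⁻¹ with hy
    have hyord : orderOf y = 2 := by rw [hy, ← MulAut.conj_apply, MulEquiv.orderOf_eq, hord]
    have hnoty : ¬ Cfsg.IsInnerDiagonalAutPOmegaPlus 4 y := fun h => by
      have h1 := innerDiag_mem_D h
      have hTD : ∀ z ∈ DGrp F, tOut F ^ (2 * j) * z * (tOut F ^ (2 * j))⁻¹ ∈ DGrp F :=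
        fun z => pow_conj_D _ (fun _ => t_conj_D) _
      have h2 := hTD _ h1
      refine hD ?_
      have e : tOut F ^ (2 * j) * (QuotientGroup.mk y : Out P8) * (tOut F ^ (2 * j))⁻¹ =
          QuotientGroup.mk x := by
        rw [hy, hT', QuotientGroup.mk_mul, QuotientGroup.mk_mul, QuotientGroup.mk_inv, QuotientGroup.mk_pow]
        show tOut F ^ (2 * j) * (tOut F ^ j * _ * (tOut F ^ j)⁻¹) * _ = _
        rw [show tOut F ^ (2 * j) * (tOut F ^ j * (QuotientGroup.mk x : Out P8) * (tOut F ^ j)⁻¹) *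
          (tOut F ^ (2 * j))⁻¹ = tOut F ^ (2 * j) * tOut F ^ j * (QuotientGroup.mk x : Out P8) *
            (tOut F ^ (2 * j) * tOut F ^ j)⁻¹ by group, ← pow_add, show 2 * j + j = 3 * j by ring,
          pow_mul, pow_succ (tOut F) 2, sq, tOut_cube, one_pow, one_mul, inv_one, mul_one]
      exact e ▸ h2
    obtain ⟨g, σ, hs, hx⟩ := hsemi.exists_semi
    obtain ⟨hc, hev, -⟩ := crit_semi le_rfl hpr hs hx hyord hnoty fun _ g' hg' β hβ => by
      refine semi_of_commute g' (fun hpar => hnoty ?_) β (hg' ▸ hβ)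
      exact ⟨g'.1, g'.2, (hS4.preserves_iff g'.2).2 hpar, (OrthOuter.induced_iff g' y).2 hg'⟩
    refine ⟨Crit.of_conj (α := T) hc, .inr fun h => hev rfl ?_⟩
    have h3 : (fixK x).map T.toMonoidHom = fixK y := map_fixK T x
    have h4 : Nat.card (fixK x) = Nat.card (fixK y) :=
      h3 ▸ Nat.card_congr ((fixK x).equivMapOfInjective _ T.injective).toEquiv
    rwa [h4] at h
  · subst hp3
    obtain ⟨hcr, hd⟩ := crit_triality (hT fun e => hpr e.symm) hord hc hD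
    exact ⟨hcr, .inr fun h => absurd (Nat.Coprime.eq_one_of_dvd h hd) (by norm_num)⟩

theorem plus_local_balance {m : ℕ} (hm : 4 ≤ m) {r : ℕ} [Fact r.Prime] [CharP F r] (hT : r ≠ 3 → TriCrit F)
    (A : Subgroup (MulAut (POmega F (quadFormPlus m F))))
    (hinn : ∀ k : POmega F (quadFormPlus m F), MulAut.conj k ∈ A) {p : ℕ} [Fact p.Prime] (hpr : p ≠ r)
    (x : MulAut (POmega F (quadFormPlus m F))) (hord : orderOf x = p)
    (hnot : ¬ Cfsg.IsInnerDiagonalAutPOmegaPlus m x) :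
    Cfsg.pPrimeCore p ↥(A ⊓ Subgroup.centralizer {x}) ≠ ⊥ ↔
      (Cfsg.IsFieldAutClassPOmega (quadFormPlus m F) x ∧ Nat.Coprime p (Nat.card (fixK x))) := by
  classical
  suffices h : Crit p x ∧ (Cfsg.IsFieldAutClassPOmega (quadFormPlus m F) x ∨
      ¬ Nat.Coprime p (Nat.card (fixK x))) by
    rw [core_ne_bot_iff h.1 A hinn]
    exact ⟨fun hc => ⟨h.2.resolve_right (fun hn => hn hc), hc⟩, And.right⟩
  obtain ⟨k, rfl⟩ : ∃ k, m = k + 1 := ⟨m - 1, by omega⟩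
  rcases eq_or_lt_of_le hm with he | hlt
  · obtain rfl : k = 3 := by omega
    exact plus_eight hT hpr x hord hnot
  · have H := AutPOmega.hypPlus (F := F) (show 5 ≤ k + 1 by omega)
    obtain ⟨g, σ, hs, hx⟩ := AutPOmega.exists_semi_eq H x
    exact finish (crit_semi (by omega) hpr hs hx hord hnot fun _ _ _ β _ => AutPOmega.exists_semi_eq H β)

end Cfsg.Agent.LocalBalance
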