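import Cfsg.Agent.Lib.LocalBalance.Abstract
import Cfsg.Agent.Lib.AutPOmega.OutOdd
import Cfsg.Agent.Lib.Orth.Simple

/-!
# Local balance for `Ω_{2m+1}(q)`

* `fix_unipotent` : an induced automorphism fixing the class of a unipotent element fixes the element
* `exists_conj_std_odd`, `crit_std_odd`, `omega_odd_local_balance`
-/

set_option autoImplicit false

open Matrix

namespace Cfsg.Agent.LocalBalance

open Cfsg Cfsg.Agent.FieldAut Cfsg.Agent.Orth
open QuadraticMap (polar)

theorem fix_unipotent {ι : Type} [Fintype ι] [DecidableEq ι] [Nonempty ι] {F : Type*} [Field F]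
    {H : Type*} [Group H] {mat : H →* GL ι F} (hr : Rigid mat) {ψ : keep mat}
    {R : Matrix ι ι F ≃+* Matrix ι ι F}
    (hψ : ∀ x : GL ι F, ((ψ.1 x : GL ι F) : Matrix ι ι F) = R x) {h : H}
    (hu : IsNilpotent ((mat h : Matrix ι ι F) - 1))
    (hfix : indAut hr.inj ψ (QuotientGroup.mk h) = QuotientGroup.mk h) : ψ.1 (mat h) = mat h := by
  rw [indAut_mk, QuotientGroup.eq] at hfix
  obtain ⟨c, hc⟩ := center_scalar hr (Subgroup.inv_mem _ hfix)
  rw [_root_.mul_inv_rev, inv_inv, map_mul, map_inv, mat_liftAut hr.inj] at hc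
  have h2 : ψ.1 (mat h) = scal c * mat h := by
    rw [show (scal c : GL ι F) * mat h = mat h * scal c from scal_comm c (mat h),
      show (scal c : GL ι F) = (mat h)⁻¹ * ψ.1 (mat h) from hc, mul_inv_cancel_left]
  have hv := congrArg Units.val h2
  rw [Units.val_mul, scal_coe, smul_mul_assoc, one_mul, hψ] at hv
  rw [h2, (Units.ext (eq_one_of_smul_unipotent hu hv) : c = 1), map_one, one_mul]

theorem omMat_coe {ι : Type} [Fintype ι] [DecidableEq ι] {K : Type*} [Field K] {f : (ι → K) → K}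
    (a : Cfsg.isometryGroup K f) (ha : a ∈ Cfsg.Omega K f) : omMat f ⟨a, ha⟩ = (a : GL ι K) := rfl

variable {m : ℕ} {F : Type*} [Field F]

local notation "Idx" => Unit ⊕ (Fin m ⊕ Fin m)
local notation "QO" => quadOdd m F
local notation "PO" => Cfsg.POmega F (Cfsg.quadFormOdd m F)

/-- The standard field automorphism of `Ω_{2m+1}`. -/
noncomputable def stdAutOdd (m : ℕ) {F : Type*} [Field F] :
    (F ≃+* F) →* MulAut (Cfsg.POmega F (Cfsg.quadFormOdd m F)) :=
  (indAut (omMat_injective (Qf := Cfsg.quadFormOdd m F))).comp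
    (galGL.codRestrict (keep (omMat (Cfsg.quadFormOdd m F))) fun σ => keep_gal_om (coeffFixed_odd σ))

variable [Fintype F]

theorem semiAut_one_odd (τ : F ≃+* F) :
    AutPOmega.semiAut QO (AutPOmega.semisim_gal_odd τ) = stdAutOdd m τ := by
  show indAut _ _ = indAut _ _
  congr 1
  refine Subtype.ext ?_
  show OrthOuter.psi (1 : GL Idx F) τ = galGL τ
  rw [OrthOuter.psi, map_one, one_mul]

theorem gamma_transport {ι : Type} [Fintype ι] [DecidableEq ι] {K : Type*} [Field K]
    {f g : (ι → K) → K} (e : f = g) (h : Cfsg.gammaPOmega K f = ⊤) : Cfsg.gammaPOmega K g = ⊤ := by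
  subst e; exact h

theorem exists_conj_std_odd (hodd : Odd (Fintype.card F)) (hm : 3 ≤ m) {p : ℕ} (hp : p.Prime)
    {x : MulAut PO} (hord : orderOf x = p) (hnot : ¬ Cfsg.IsInnerDiagonalAutPOmegaOdd m x) :
    ∃ (α : MulAut PO) (σ : F ≃+* F), orderOf σ = p ∧ α * x * α⁻¹ = stdAutOdd m σ := by
  have H := AutPOmega.hypOdd hodd hm
  obtain ⟨g, σ, hs, hx⟩ := AutPOmega.exists_semi_eq H x
  have hσ : σ ≠ 1 := by
    rintro rfl
    refine hnot ⟨g, sim_of_semisimilarity (coeffFixed_odd _) hs, ?_⟩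
    exact (isInd_semilinear_om (Qf := Cfsg.quadFormOdd m F) g _ x).2
      ((isInd_iff (mat := omMat ⇑QO) omMat_injective (OrthOuter.semi_keep (Q := QO) hs)).2 hx)
  have hf : AutPOmega.fieldPart H x = σ := by rw [hx]; exact AutPOmega.fieldPart_semi H hs
  have hσp : σ ^ p = 1 := by
    have h1 : AutPOmega.fieldPart H x ^ p = 1 :=
      (map_pow (AutPOmega.fieldPart H) x p).symm.trans
        ((congrArg _ (hord ▸ pow_orderOf_eq_one x)).trans (map_one _))
    exact hf ▸ h1
  have hoσ : orderOf σ = p := @orderOf_eq_prime _ _ σ p ⟨hp⟩ hσp hσ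
  have hfφ : AutPOmega.fieldPart H (stdAutOdd m σ) = σ := by
    rw [← semiAut_one_odd]; exact AutPOmega.fieldPart_semi H _
  have hφ : orderOf (stdAutOdd m σ) = p :=
    @orderOf_eq_prime _ _ _ p ⟨hp⟩ (by rw [← map_pow, hσp, map_one])
      (fun h => hσ <| by rw [← hfφ, h]; exact map_one _)
  have hfc : Cfsg.IsFieldAutClassPOmega (Cfsg.quadFormOdd m F) (stdAutOdd m σ) := by
    refine ⟨1, stdAutOdd m σ, σ, hσ, ?_, by rw [one_mul, inv_one, mul_one]⟩
    exact (isInd_fieldAut_om σ _).2 ((isInd_iff omMat_injective (keep_gal_om (coeffFixed_odd σ))).2 rfl)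
  have hg := sim_of_semisimilarity (Qf := Cfsg.quadFormOdd m F) (coeffFixed_odd σ) hs
  set δ := conjAut (omMat_injective (Qf := Cfsg.quadFormOdd m F))
    (Cfsg.Geo.quadSimilarityGroup (F := F) (Cfsg.quadFormOdd m F)) (fun _ => keep_conj_sim) ⟨g, hg⟩ with hδ
  have hδG : δ ∈ Cfsg.inndiagPOmegaOdd m F := by
    rw [inndiagOdd_eq]; exact ⟨_, rfl⟩
  have hxe : x = δ * stdAutOdd m σ := by
    rw [hx, hδ, conjAut_apply]
    show _ = indAut _ _ * indAut _ _
    rw [← map_mul]
    rfl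
  have hA : OmegaOddAutHyp m F := gamma_transport (Orth.coe_quadOdd m) (AutPOmega.gammaPOmega_eq_top H)
  obtain ⟨h, -, e⟩ := (omega_odd_coset_conj hodd (by omega) hA hfc hp hφ hδG).1
    (hxe ▸ hord)
  refine ⟨h⁻¹, σ, hoσ, ?_⟩
  rw [hxe, e]
  group

theorem center_omega_odd (hodd : Odd (Fintype.card F)) (hm : 2 ≤ m) :
    Subgroup.center ↥(Omega F ⇑QO) = ⊥ := by
  refine (Subgroup.eq_bot_iff_forall _).2 fun z hz => ?_
  obtain ⟨c, hc⟩ := center_scalar (omRigid_odd hodd hm) hz
  have hv : ∀ v : Idx → F, ap (z : IsoGrp QO) v = (c : F) • v := fun v => by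
    rw [ap_apply, show ((z : IsoGrp QO) : GL Idx F) = scal c from hc.symm, scal_coe,
      Matrix.smul_mulVec, Matrix.one_mulVec]
  have h2 : (c : F) * c = 1 := by
    have h := Q_ap (z : IsoGrp QO) (v₁ m F)
    rw [hv, QuadraticMap.map_smul, quadOdd_v₁, smul_eq_mul, mul_one] at h
    exact h
  have hdet : ((z : IsoGrp QO) : GL Idx F).val.det = 1 := by
    have h := Abelianization.commutator_subset_ker
      ((Matrix.GeneralLinearGroup.det (n := Idx) (R := F)).comp
        (Cfsg.isometryGroup F ⇑QO).subtype) z.2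
    rw [MonoidHom.mem_ker] at h
    exact congrArg Units.val h
  rw [show ((z : IsoGrp QO) : GL Idx F) = scal c from hc.symm, scal_coe, Matrix.det_smul, Matrix.det_one,
    mul_one] at hdet
  have hc1 : (c : F) = 1 := by
    rw [show Fintype.card Idx = 2 * m + 1 by simp; omega, pow_succ, pow_mul, sq, h2, one_pow,
      one_mul] at hdet
    exact hdet
  refine Subtype.ext (Subtype.ext ?_)
  rw [show ((z : IsoGrp QO) : GL Idx F) = scal c from hc.symm,
    show c = 1 from Units.ext hc1, map_one]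
  rfl

/-! ### The fixed points of a standard field automorphism -/

section Fixed

variable (σ : F ≃+* F)

set_option quotPrecheck false in
local notation "F₀" => ↥(fixF σ)
set_option quotPrecheck false in
local notation "Q₀" => quadOdd m ↥(fixF σ)

/-- The fixed field is finite. -/
noncomputable local instance fixFintype : Fintype (fixF σ) := Fintype.ofFinite _

theorem fix_vec {ι : Type} (v : ι → F₀) : σ ∘ ((fixF σ).subtype ∘ v) = (fixF σ).subtype ∘ v :=
  funext fun i => (mem_fixF σ).1 (v i).2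

/-- Isometries over the fixed field, as isometries. -/
noncomputable def embIso (m : ℕ) : IsoGrp (quadOdd m F₀) →* IsoGrp (quadOdd m F) :=
  isoEmb (fixF σ).subtype

theorem embIso_omega {g : IsoGrp Q₀} (hg : g ∈ Omega F₀ ⇑Q₀) : embIso σ m g ∈ Omega F ⇑QO := by
  have h : (commutator (IsoGrp Q₀)).map (embIso σ m) ≤ commutator (IsoGrp QO) := by
    rw [commutator_def, commutator_def, Subgroup.map_commutator]
    exact Subgroup.commutator_mono le_top le_top
  exact h ⟨g, hg, rfl⟩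

/-- The map from `Ω` over the fixed field to `PΩ`. -/
noncomputable def baseHom (m : ℕ) :
    ↥(Omega F₀ ⇑(quadOdd m F₀)) →* Cfsg.POmega F (Cfsg.quadFormOdd m F) :=
  (QuotientGroup.mk' _).comp (((embIso σ m).comp (Omega F₀ ⇑(quadOdd m F₀)).subtype).codRestrict
    (Omega F ⇑(quadOdd m F)) fun g => embIso_omega σ g.2)

theorem galGL_embIso (g : IsoGrp Q₀) :
    galGL σ ((embIso σ m g : IsoGrp QO) : GL Idx F) = (embIso σ m g : GL Idx F) :=
  galGL_mapGL _ (fun a => (mem_fixF σ).1 a.2) _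

theorem baseHom_fix (g : ↥(Omega F₀ ⇑Q₀)) : stdAutOdd m σ (baseHom σ m g) = baseHom σ m g := by
  show indAut _ _ (QuotientGroup.mk _) = QuotientGroup.mk _
  rw [indAut_mk]
  congr 1
  refine omMat_injective ?_
  rw [mat_liftAut]
  exact galGL_embIso σ g.1

theorem exists_emb_of_fix {a : GL Idx F} (ha : a ∈ Cfsg.isometryGroup F ⇑QO) (hfix : galGL σ a = a) :
    ∃ g : IsoGrp Q₀, (embIso σ m g : IsoGrp QO) = ⟨a, ha⟩ := by
  have hinv : galGL σ a⁻¹ = a⁻¹ := by rw [map_inv, hfix]
  have hm1 : ∀ i j, a.1 i j ∈ fixF σ := fun i j => (mem_fixF σ).2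
    (by conv_rhs => rw [← hfix, galGL_apply])
  have hm2 : ∀ i j, (a⁻¹ : GL Idx F).1 i j ∈ fixF σ := fun i j => (mem_fixF σ).2
    (by conv_rhs => rw [← hinv, galGL_apply])
  let M : Matrix Idx Idx F₀ := fun i j => ⟨a.1 i j, hm1 i j⟩
  let N : Matrix Idx Idx F₀ := fun i j => ⟨(a⁻¹ : GL Idx F).1 i j, hm2 i j⟩
  have hMN : M * N = 1 := by
    refine Matrix.map_injective (fixF σ).subtype_injective ?_
    show (fixF σ).subtype.mapMatrix _ = (fixF σ).subtype.mapMatrix _
    rw [map_mul, map_one]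
    exact a.mul_inv
  let u : GL Idx F₀ := ⟨M, N, hMN, mul_eq_one_comm.1 hMN⟩
  have hu : u ∈ Cfsg.isometryGroup F₀ ⇑Q₀ := mem_iso_iff.2 fun v => by
    refine (fixF σ).subtype_injective ?_
    rw [← quadOdd_embed, ← quadOdd_embed, ← map_mulVec_embed]
    exact mem_iso_iff.1 ha _
  refine ⟨⟨u, hu⟩, Subtype.ext (Units.ext ?_)⟩
  rfl

theorem mem_fix_exists (hodd : Odd (Fintype.card F)) (hm : 2 ≤ m) {k : PO}
    (hk : k ∈ fixK (stdAutOdd m σ)) :
    ∃ (g : IsoGrp Q₀) (h : embIso σ m g ∈ Omega F ⇑QO), k = QuotientGroup.mk ⟨_, h⟩ := by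
  obtain ⟨a, rfl⟩ := QuotientGroup.mk_surjective k
  have hk' : indAut (omMat_injective (Qf := Cfsg.quadFormOdd m F)) _ (QuotientGroup.mk a) = QuotientGroup.mk a := hk
  rw [indAut_mk, QuotientGroup.eq] at hk'
  have h1 : _ ∈ Subgroup.center ↥(Omega F ⇑QO) := hk'
  rw [center_omega_odd hodd hm] at h1
  have h2 := congrArg (omMat (Cfsg.quadFormOdd m F)) (inv_mul_eq_one.1 (Subgroup.mem_bot.1 h1))
  rw [mat_liftAut] at h2
  obtain ⟨g, hg⟩ := exists_emb_of_fix σ (a := omMat (Cfsg.quadFormOdd m F) a) a.1.2 h2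
  have hg' : embIso σ m g = a.1 := hg
  exact ⟨g, hg' ▸ a.2, congrArg _ (Subtype.ext hg'.symm)⟩

theorem baseHom_range_normalized (hodd : Odd (Fintype.card F)) (hm : 2 ≤ m) {g : PO}
    (hg : g ∈ fixK (stdAutOdd m σ)) {s : PO} (hs : s ∈ (baseHom σ m).range) :
    g * s * g⁻¹ ∈ (baseHom σ m).range := by
  obtain ⟨g₀, hmem, rfl⟩ := mem_fix_exists σ hodd hm hg
  obtain ⟨t, rfl⟩ := hs
  refine ⟨⟨g₀ * t.1 * g₀⁻¹, (inferInstance : (commutator (IsoGrp Q₀)).Normal).conj_mem _ t.2 _⟩, ?_⟩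
  show QuotientGroup.mk _ = QuotientGroup.mk _ * QuotientGroup.mk _ * (QuotientGroup.mk _)⁻¹
  rw [← QuotientGroup.mk_inv, ← QuotientGroup.mk_mul, ← QuotientGroup.mk_mul]
  congr 1
  refine Subtype.ext ?_
  show embIso σ m (g₀ * t.1 * g₀⁻¹) = _
  rw [map_mul, map_mul, map_inv]
  rfl

theorem isoEmb_eich {u w : Idx → F₀} (hu : Q₀ u = 0) (huw : polar ⇑Q₀ u w = 0) :
    embIso σ m (eich Q₀ u w) = eich QO ((fixF σ).subtype ∘ u) ((fixF σ).subtype ∘ w) := by
  set e := (fixF σ).subtype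
  have hpol : ∀ x y : Idx → F₀, polar ⇑QO (e ∘ x) (e ∘ y) = e (polar ⇑Q₀ x y) := fun x y => by
    simp only [polar, map_sub, ← quadOdd_embed]
    congr 2
  refine Subtype.ext (Units.ext (Matrix.ext_of_mulVec_single fun i => ?_))
  have hs : e ∘ (Pi.single i (1 : F₀)) = (Pi.single i (1 : F) : Idx → F) := by
    funext j; simp [Pi.single_apply, apply_ite e]
  show (mapGL e (eich Q₀ u w).1).1 *ᵥ Pi.single i 1 = ap (eich QO _ _) (Pi.single i 1)
  rw [← hs, mapGL_coe, map_mulVec_embed, ← Orth.ap_apply, eich_ap hu huw,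
    eich_ap (by rw [quadOdd_embed, hu, map_zero]) (by rw [hpol, huw, map_zero]), hpol, hpol, quadOdd_embed]
  funext j
  simp

theorem eich_mem_base (hodd₀ : Odd (Fintype.card F₀)) (hm : 2 ≤ m) {u w : Idx → F₀}
    (hu : Q₀ u = 0) (huw : polar ⇑Q₀ u w = 0) {u' w' : Idx → F} (eu : (fixF σ).subtype ∘ u = u')
    (ew : (fixF σ).subtype ∘ w = w') :
    AutPOmega.E QO u' w' ∈ (baseHom σ m).range := by
  subst eu ew
  have hmem : eich Q₀ u w ∈ Omega F₀ ⇑Q₀ :=
    eichGen_le_omega (quadOdd_nondeg m (two_ne_zero_of_odd hodd₀)) (by simp; omega)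
      (.inr (by simp; omega)) (eich_mem_eichGen u w)
  refine ⟨⟨_, hmem⟩, ?_⟩
  have h := embIso_omega σ hmem
  rw [isoEmb_eich σ hu huw] at h
  rw [AutPOmega.E, AutPOmega.om_of_mem h]
  exact congrArg QuotientGroup.mk (Subtype.ext (isoEmb_eich σ hu huw))

theorem odd_card_fix (hodd : Odd (Fintype.card F)) : Odd (Fintype.card F₀) := by
  by_contra h
  rw [Nat.not_odd_iff_even] at h
  have h2 : ringChar F₀ = 2 := FiniteField.even_card_iff_char_two.2 (Nat.even_iff.1 h)
  have : (2 : F₀) = 0 := by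
    haveI : CharP F₀ 2 := ringChar.of_eq h2
    exact CharTwo.two_eq_zero
  exact two_ne_zero_of_odd hodd (by simpa [map_ofNat] using congrArg (fixF σ).subtype this)

/-- The standard singular basis vectors. -/
def bb {K : Type*} [Field K] (a : Fin m ⊕ Fin m) : Unit ⊕ (Fin m ⊕ Fin m) → K := Pi.single (.inr a) 1

/-- The coordinate index. -/
def idx (a : Fin m ⊕ Fin m) : Fin m := Sum.elim id id a

theorem bb_facts {K : Type*} [Field K] (a b : Fin m ⊕ Fin m) :
    quadOdd m K (bb a) = 0 ∧ polar ⇑(quadOdd m K) (bb a) (bb b) = (if b = a.swap then 1 else 0) ∧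
    polar ⇑(quadOdd m K) (v₁ m K) (bb a) = 0 ∧ polar ⇑(quadOdd m K) (bb a) (v₁ m K) = 0 := by
  refine ⟨?_, ?_, ?_, ?_⟩
  · rcases a with i | i <;> simp [bb, Orth.coe_quadOdd, Cfsg.quadFormOdd, Pi.single_apply]
  · rcases a with i | i <;> rcases b with j | j <;>
      simp [bb, Orth.coe_quadOdd, Orth.polar_quadOdd, Pi.single_apply, eq_comm]
  · rcases a with i | i <;> simp [bb, v₁, Orth.coe_quadOdd, Orth.polar_quadOdd, Pi.single_apply]
  · rcases a with i | i <;> simp [bb, v₁, Orth.coe_quadOdd, Orth.polar_quadOdd, Pi.single_apply]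

theorem swap_ne {a b : Fin m ⊕ Fin m} (h : idx a ≠ idx b) :
    a ≠ b ∧ b ≠ a.swap ∧ a ≠ b.swap ∧ a.swap ≠ a := by
  rcases a with i | i <;> rcases b with j | j <;> simp_all [idx, eq_comm]

theorem comp_single {f : F ≃+* F} (i : Idx) :
    f ∘ (Pi.single i 1 : Idx → F) = Pi.single i 1 := by
  funext j; by_cases h : j = i <;> simp [Pi.single_apply, h]

theorem sub_single (i : Idx) :
    (fixF σ).subtype ∘ (Pi.single i 1 : Idx → F₀) = Pi.single i 1 := by
  funext j; by_cases h : j = i <;> simp [Pi.single_apply, h]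

/-- The commutant of the standard root elements. -/
theorem scalar_of_commute (hm : 3 ≤ m) {g : GL Idx F}
    (hb : ∀ a b : Fin m ⊕ Fin m, idx a ≠ idx b → Commute g (eich QO (bb a) (bb b) : GL Idx F))
    (hv : ∀ a : Fin m ⊕ Fin m, Commute g (eich QO (bb a) (v₁ m F) : GL Idx F)) :
    g ∈ Cfsg.Geo.scalars Idx F := by
  set N : (Idx → F) → (Idx → F) → (Idx → F) → (Idx → F) := fun u w x =>
    polar ⇑QO u x • w - (polar ⇑QO w x + QO w * polar ⇑QO u x) • u
  have hN : ∀ u w, QO u = 0 → polar ⇑QO u w = 0 → Commute g (eich QO u w : GL Idx F) →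
      ∀ x, g.1 *ᵥ N u w x = N u w (g.1 *ᵥ x) := fun u w hu huw hc x => by
    have h1 := congrArg (fun k : GL Idx F => (k : Matrix Idx Idx F) *ᵥ x) hc.eq
    simp only [Units.val_mul, ← Matrix.mulVec_mulVec, ← Orth.ap_apply, eich_ap hu huw,
      Matrix.mulVec_add, Matrix.mulVec_sub, Matrix.mulVec_smul] at h1
    simp only [N, Matrix.mulVec_sub, Matrix.mulVec_smul]
    linear_combination (norm := module) h1
  have hbb : ∀ a b, idx a ≠ idx b → g.1 *ᵥ bb b =
      polar ⇑QO (bb a) (g.1 *ᵥ bb a.swap) • bb b - polar ⇑QO (bb b) (g.1 *ᵥ bb a.swap) • bb a := by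
    intro a b hab
    obtain ⟨hn1, hn2, hn3, hn4⟩ := swap_ne hab
    have h := hN (bb a) (bb b) (bb_facts a b).1 (by rw [(bb_facts a b).2.1, if_neg hn2]) (hb a b hab)
      (bb a.swap)
    simp only [N, (bb_facts a a.swap).2.1, (bb_facts b a.swap).2.1, (bb_facts b b).1, if_pos,
      zero_mul, add_zero, one_smul] at h
    rw [if_neg (fun e => hn1 (by simpa using congrArg Sum.swap e)), zero_smul, sub_zero] at h
    exact h
  have h3 : ∀ i j : Fin m, ∃ k, k ≠ i ∧ k ≠ j := fun i j => by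
    by_contra! h
    have h3 : (Finset.univ : Finset (Fin m)) ⊆ {i, j} := fun k _ => by
      by_cases h4 : k = i
      · simp [h4]
      · simp [h k h4]
    have h5 := (Finset.card_le_card h3).trans Finset.card_le_two
    simp at h5
    omega
  set d : Fin m ⊕ Fin m → F := fun b => (g.1 *ᵥ bb b) (.inr b)
  have heig : ∀ b, g.1 *ᵥ bb b = d b • bb b := fun b => by
    funext i
    by_cases hi : i = .inr b
    · subst hi; simp [bb, d]
    · obtain ⟨k, hk1, hk2⟩ := h3 (idx b) (Sum.elim (fun _ => idx b) idx i)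
      have hne : idx (.inl k : Fin m ⊕ Fin m) ≠ idx b := hk1
      rw [hbb (.inl k) b hne]
      have : i ≠ .inr (.inl k) := by
        rintro rfl
        exact hk2 rfl
      simp [bb, hi, this]
  have hd : ∀ a b, idx a ≠ idx b → d b = d a.swap := fun a b hab => by
    obtain ⟨hn1, hn2, hn3, hn4⟩ := swap_ne hab
    have h := hbb a b hab
    rw [heig, heig, QuadraticMap.polar_smul_right, QuadraticMap.polar_smul_right,
      (bb_facts a a.swap).2.1, (bb_facts b a.swap).2.1, if_pos rfl,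
      if_neg (fun e => hn1 (by simpa using congrArg Sum.swap e)), smul_eq_mul, smul_eq_mul, mul_one,
      mul_zero, zero_smul, sub_zero] at h
    simpa [bb] using congrFun h (.inr b)
  let a0 : Fin m ⊕ Fin m := .inl ⟨0, by omega⟩
  have hall : ∀ b, d b = d a0 := fun b => by
    obtain ⟨k, hk1, hk2⟩ := h3 (idx b) (idx a0)
    rw [hd (.inl k) b hk1, hd (.inl k) a0 hk2]
  have hv1 : g.1 *ᵥ v₁ m F = d a0 • v₁ m F := by
    have h := hN (bb a0) (v₁ m F) (bb_facts a0 a0).1 (bb_facts a0 a0).2.2.2 (hv a0) (bb a0.swap)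
    simp only [N, (bb_facts a0 a0.swap).2.1, (bb_facts a0.swap a0).2.2.1, quadOdd_v₁, if_pos,
      zero_add, one_mul, one_smul, heig, QuadraticMap.polar_smul_right, smul_eq_mul, mul_one,
      mul_zero, Matrix.mulVec_sub] at h
    rw [hall a0.swap] at h
    exact sub_left_inj.1 h
  have hd0 : d a0 ≠ 0 := fun h0 => by
    have := congrArg (fun v => (g⁻¹ : GL Idx F).1 *ᵥ v) hv1
    rw [Matrix.mulVec_mulVec, ← Units.val_mul, inv_mul_cancel, Units.val_one, Matrix.one_mulVec, h0,
      zero_smul, Matrix.mulVec_zero] at this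
    simpa [v₁] using congrFun this (.inl ())
  refine ⟨Units.mk0 (d a0) hd0, Units.ext (Matrix.ext_of_mulVec_single fun i => ?_)⟩
  show (scal (Units.mk0 (d a0) hd0) : GL Idx F).1 *ᵥ _ = _
  rw [scal_coe, Matrix.smul_mulVec, Matrix.one_mulVec, Units.val_mk0]
  rcases i with ⟨⟩ | b
  · exact hv1.symm
  · show d a0 • (bb b : Idx → F) = _
    rw [← hall b]
    exact (heig b).symm

theorem rigid_base_odd (hodd : Odd (Fintype.card F)) (hm : 3 ≤ m) {p : ℕ} (hσp : σ ^ p = 1)
    {β : MulAut PO} (hk : ∀ k ∈ (baseHom σ m).range, β k = k) : β ^ p = 1 := by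
  have H := AutPOmega.hypOdd hodd hm
  have hr := omRigid_odd (m := m) hodd (by omega : 2 ≤ m)
  haveI : Nonempty Idx := ⟨.inl ()⟩
  have hodd₀ := odd_card_fix σ hodd
  obtain ⟨g, τ, hs, rfl⟩ := AutPOmega.exists_semi_eq H β
  have key : ∀ {u w : Idx → F}, QO u = 0 → polar ⇑QO u w = 0 →
      AutPOmega.E QO u w ∈ (baseHom σ m).range →
      g * galGL τ (eich QO u w : GL Idx F) * g⁻¹ = eich QO u w := by
    intro u w hu huw hmem
    have hΩ := H.toBase.eich_mem u w
    have h1 := hk _ hmem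
    rw [AutPOmega.E, AutPOmega.om_of_mem hΩ] at h1
    have hnil : IsNilpotent (((omMat ⇑QO ⟨eich QO u w, hΩ⟩ : GL Idx F) : Matrix Idx Idx F) - 1) :=
      eich_unipotent hu huw
    have h3 := fix_unipotent (mat := omMat ⇑QO) (omRigid (Q := QO) H.nd (by have := H.seven; omega))
      (ψ := ⟨OrthOuter.psi g τ, OrthOuter.semi_keep (Q := QO) hs⟩)
      (R := τ.mapMatrix.trans (conjRing g)) (fun x => by
        simp [OrthOuter.psi, MulAut.mul_apply, MulAut.conj_apply, conjRing, galGL_apply_coe])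
      (h := ⟨eich QO u w, hΩ⟩) hnil h1
    simp only [OrthOuter.psi, MulAut.mul_apply, MulAut.conj_apply, omMat_coe] at h3
    exact h3
  have hcom : ∀ {u w : Idx → F}, τ ∘ u = u → τ ∘ w = w → QO u = 0 → polar ⇑QO u w = 0 →
      AutPOmega.E QO u w ∈ (baseHom σ m).range → Commute g (eich QO u w : GL Idx F) := by
    intro u w hu' hw' hu huw hmem
    have h := key hu huw hmem
    have e : galGL τ (eich QO u w : GL Idx F) = eich QO u w := by
      have := galGL_mulVec τ (eich QO u w : GL Idx F)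
      refine Units.ext (Matrix.mulVec_injective (funext fun x => ?_))
      obtain ⟨y, rfl⟩ : ∃ y, x = τ ∘ y := ⟨τ.symm ∘ x, funext fun i => (τ.apply_symm_apply _).symm⟩
      rw [this, ← Orth.ap_apply, ← Orth.ap_apply, eich_ap hu huw, eich_ap hu huw]
      have h1 := coeffFixed_odd (m := m) τ w
      have h2 : ∀ a b : Idx → F, polar ⇑QO (τ ∘ a) (τ ∘ b) = τ (polar ⇑QO a b) := fun a b => by
        simp only [polar, map_sub]
        rw [show τ ∘ a + τ ∘ b = τ ∘ (a + b) from funext fun i => by simp]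
        simp only [Orth.coe_quadOdd, coeffFixed_odd τ _]
      rw [hw'] at h1
      have h3 := h2 u y
      rw [hu'] at h3
      have h4 := h2 w y
      rw [hw'] at h4
      funext i
      have h5 : τ (u i) = u i := congrFun hu' i
      have h6 : τ (w i) = w i := congrFun hw' i
      have h7 : τ (QO w) = QO w := h1.symm
      simp [h3, h4, h5, h6, h7]
    rw [e] at h
    exact mul_inv_eq_iff_eq_mul.1 h
  have hmem : ∀ a b : Fin m ⊕ Fin m, idx a ≠ idx b →
      AutPOmega.E QO (bb a) (bb b) ∈ (baseHom σ m).range := fun a b hab =>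
    eich_mem_base σ hodd₀ (by omega) (u := bb a) (w := bb b) (bb_facts a b).1
      (by rw [(bb_facts a b).2.1, if_neg (swap_ne hab).2.1]) (sub_single σ _) (sub_single σ _)
  have hgs : g ∈ Cfsg.Geo.scalars Idx F := by
    refine scalar_of_commute hm (fun a b hab => hcom (comp_single _) (comp_single _)
      (bb_facts a b).1 (by rw [(bb_facts a b).2.1, if_neg (swap_ne hab).2.1]) (hmem a b hab))
      fun a => hcom (comp_single _) (comp_single _) (bb_facts a a).1 (bb_facts a a).2.2.2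
        (eich_mem_base σ hodd₀ (by omega) (bb_facts a a).1 (bb_facts a a).2.2.2 (sub_single σ _) (sub_single σ _))
  obtain ⟨c, hc⟩ := hgs
  have hgc : ∀ x : GL Idx F, g * x * g⁻¹ = x := fun x => by
    rw [← hc]
    show (scal c : GL Idx F) * x * (scal c)⁻¹ = x
    rw [scal_comm, mul_inv_cancel_right]
  have hβ : AutPOmega.semiAut QO hs = stdAutOdd m τ := by
    show indAut _ _ = indAut _ _
    congr 1
    refine Subtype.ext (MulEquiv.ext fun x => ?_)
    exact hgc (galGL τ x)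
  have hτ : τ ∈ Subgroup.zpowers σ := by
    refine mem_zpowers_of_fix fun c hc' => ?_
    let i : Fin m := ⟨0, by omega⟩
    let j : Fin m := ⟨1, by omega⟩
    have hij : i ≠ j := by simp [i, j, Fin.ext_iff]
    let c₀ : F₀ := ⟨c, (mem_fixF σ).2 hc'⟩
    have hu : QO (bb (.inl i)) = 0 := (bb_facts _ (.inl i)).1
    have huw : polar ⇑QO (bb (.inl i)) (c • bb (.inl j)) = 0 := by
      rw [QuadraticMap.polar_smul_right, (bb_facts _ _).2.1, if_neg (by simp), smul_zero]
    have hm' : AutPOmega.E QO (bb (.inl i)) (c • bb (.inl j)) ∈ (baseHom σ m).range := by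
      refine eich_mem_base σ hodd₀ (by omega) (u := bb (.inl i)) (w := c₀ • bb (.inl j))
        (bb_facts _ (.inl i)).1 ?_ (sub_single σ _) ?_
      · rw [QuadraticMap.polar_smul_right, (bb_facts _ _).2.1, if_neg (by simp), smul_zero]
      · funext x
        by_cases h : x = .inr (.inl j) <;> simp [bb, c₀, Pi.single_apply, h]
    have h1 := key hu huw hm'
    rw [hgc] at h1
    have h2 := congrArg (fun k : GL Idx F => (k : Matrix Idx Idx F) (.inr (.inl j)) (.inr (.inr i))) h1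
    have hentry : ((eich QO (bb (.inl i)) (c • bb (.inl j)) : GL Idx F) : Matrix Idx Idx F)
        (.inr (.inl j)) (.inr (.inr i)) = c := by
      have h3 := congrFun (eich_ap hu huw (Pi.single (.inr (.inr i)) 1)) (.inr (.inl j))
      rw [Orth.ap_apply, Matrix.mulVec_single_one] at h3
      refine h3.trans ?_
      have hp : polar ⇑QO (bb (.inl i)) (Pi.single (.inr (.inr i)) 1) = 1 := by
        have := (bb_facts (K := F) (m := m) (.inl i) (.inr i)).2.1
        simpa [bb] using this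
      simp only [Pi.add_apply, Pi.sub_apply, Pi.smul_apply, smul_eq_mul, hp]
      simp [bb, hij.symm, Pi.single_apply]
    rw [galGL_apply] at h2
    change τ (((eich QO _ _ : GL Idx F) : Matrix Idx Idx F) _ _) = _ at h2
    rw [hentry] at h2
    exact h2
  obtain ⟨k, rfl⟩ := Subgroup.mem_zpowers_iff.1 hτ
  rw [hβ, ← map_pow, ← zpow_natCast, ← _root_.zpow_mul, mul_comm, _root_.zpow_mul, zpow_natCast, hσp,
    _root_.one_zpow, map_one]

theorem two_dvd_card_base (hodd : Odd (Fintype.card F)) (hm : 2 ≤ m) :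
    2 ∣ Nat.card (baseHom σ m).range := by
  have h20 : (2 : F₀) ≠ 0 := two_ne_zero_of_odd (odd_card_fix σ hodd)
  set a : Idx → F₀ := bb (.inl ⟨0, by omega⟩) + bb (.inr ⟨0, by omega⟩)
  set b : Idx → F₀ := bb (.inl ⟨1, by omega⟩) + bb (.inr ⟨1, by omega⟩)
  have hQa : Q₀ a = 1 := by simp [a, bb, Orth.coe_quadOdd, Cfsg.quadFormOdd, Pi.single_apply]
  have hQb : Q₀ b = 1 := by simp [b, bb, Orth.coe_quadOdd, Cfsg.quadFormOdd, Pi.single_apply]
  have hab : polar ⇑Q₀ b a = 0 := by
    simp [a, b, bb, Orth.coe_quadOdd, Orth.polar_quadOdd, Pi.single_apply, Finset.sum_add_distrib, Fin.ext_iff]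
    rw [Finset.sum_eq_zero, Finset.sum_eq_zero, add_zero] <;> intro x _ <;> split_ifs <;>
      first | rfl | omega
  have hG : Good Q₀ := quadOdd_good (odd_card_fix σ hodd)
  have hmem : refl Q₀ a * refl Q₀ b ∈ Omega F₀ ⇑Q₀ := by
    rw [mem_omega_iff hG, dick_mul hG, spin_mul hG, dick_refl hG.nd (by rw [hQa]; exact one_ne_zero),
      dick_refl hG.nd (by rw [hQb]; exact one_ne_zero), spin_refl hG.nd (by rw [hQa]; exact one_ne_zero),
      spin_refl hG.nd (by rw [hQb]; exact one_ne_zero), hQa, hQb]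
    simp
  set s : ↥(Omega F₀ ⇑Q₀) := ⟨_, hmem⟩
  have hcomm : refl Q₀ b * refl Q₀ a = refl Q₀ a * refl Q₀ b := by
    refine ext_ap fun x => ?_
    rw [ap_mul, ap_mul, refl_ap, refl_ap, refl_ap, refl_ap, hQa, hQb]
    simp only [inv_one, one_mul, QuadraticMap.polar_sub_right, QuadraticMap.polar_smul_right, hab,
      QuadraticMap.polar_comm (⇑Q₀) a b, smul_zero, sub_zero, smul_eq_mul, mul_zero]
    module
  have hs2 : s ^ 2 = 1 := Subtype.ext (by
    show (refl Q₀ a * refl Q₀ b) ^ 2 = 1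
    rw [pow_two, mul_assoc, ← mul_assoc (refl Q₀ b), hcomm, mul_assoc, refl_mul_self, mul_one,
      refl_mul_self])
  have hne : baseHom σ m s ≠ 1 := by
    intro h
    have h1 : _ ∈ Subgroup.center ↥(Omega F ⇑QO) := (QuotientGroup.eq_one_iff _).1 h
    rw [center_omega_odd hodd hm] at h1
    replace h1 := Subgroup.mem_bot.1 h1
    have h2 : embIso σ m (refl Q₀ a * refl Q₀ b) = 1 := congrArg Subtype.val h1
    have h3 : ap (refl Q₀ a * refl Q₀ b) a = a := by
      have h4 := congrArg (fun g : IsoGrp QO => ap g ((fixF σ).subtype ∘ a)) h2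
      rw [ap_one, Orth.ap_apply] at h4
      change (mapGL (fixF σ).subtype _).1 *ᵥ _ = _ at h4
      rw [mapGL_coe, map_mulVec_embed] at h4
      exact funext fun i => (fixF σ).subtype_injective (congrFun h4 i)
    rw [ap_mul, refl_ap_of_orth Q₀ hab, refl_ap_self Q₀ (by rw [hQa]; exact one_ne_zero)] at h3
    have h5 := congrFun h3 (.inr (.inl ⟨0, by omega⟩))
    simp [a, bb, Pi.single_apply] at h5
    exact h20 (by linear_combination -h5)
  have ho : orderOf (baseHom σ m s) = 2 := orderOf_eq_prime (by rw [← map_pow, hs2, map_one]) hne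
  rw [← ho]
  exact Subgroup.orderOf_dvd_natCard _ ⟨s, rfl⟩

theorem isSimpleGroup_base (hodd : Odd (Fintype.card F)) (hm : 3 ≤ m) :
    IsSimpleGroup (baseHom σ m).range := by
  have hodd₀ := odd_card_fix σ hodd
  haveI : IsSimpleGroup (POmega F₀ ⇑Q₀) :=
    isSimpleGroup_pomega (quadOdd_nondeg m (two_ne_zero_of_odd hodd₀)) (by simp; omega)
  have hker : Subgroup.center ↥(Omega F₀ ⇑Q₀) ≤ (baseHom σ m).ker := fun z hz => by
    rw [center_omega_odd hodd₀ (by omega), Subgroup.mem_bot] at hz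
    rw [hz]; exact map_one _
  set ψ := QuotientGroup.lift (Subgroup.center ↥(Omega F₀ ⇑Q₀)) (baseHom σ m) hker
  have hr : ψ.range = (baseHom σ m).range := by
    ext y
    exact ⟨fun ⟨x, hx⟩ => by obtain ⟨x, rfl⟩ := QuotientGroup.mk_surjective x; exact ⟨x, hx⟩,
      fun ⟨x, hx⟩ => ⟨QuotientGroup.mk x, hx⟩⟩
  have hinj : Function.Injective ψ := by
    rcases (Subgroup.Normal.eq_bot_or_eq_top (H := ψ.ker) inferInstance) with h | h
    · exact (MonoidHom.ker_eq_bot_iff ψ).1 h
    · exfalso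
      have h2 := two_dvd_card_base σ hodd (by omega : 2 ≤ m)
      rw [← hr, MonoidHom.range_eq_bot_iff.2 (MonoidHom.ker_eq_top_iff.1 h), Subgroup.card_bot] at h2
      omega
  exact ((MonoidHom.ofInjective hinj).trans (MulEquiv.subgroupCongr hr)).symm.isSimpleGroup

theorem sq_mem_omega {ι : Type} [Fintype ι] [DecidableEq ι] {K : Type*} [Field K] [Fintype K]
    {Q : QuadraticForm K (ι → K)} (hG : Good Q) (g : IsoGrp Q) : g * g ∈ Omega K ⇑Q := by
  rw [mem_omega_iff hG, dick_mul hG, spin_mul hG]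
  constructor
  · rcases dick_eq_or g with h | h <;> rw [h] <;> norm_num
  · rcases spin_eq_or hG g with h | h <;> rw [h] <;> norm_num

theorem crit_std_odd (hodd : Odd (Fintype.card F)) (hm : 3 ≤ m) {p : ℕ} [Fact p.Prime]
    (hσ : orderOf σ = p) : Crit p (stdAutOdd m σ) := by
  have hσp : σ ^ p = 1 := hσ ▸ pow_orderOf_eq_one σ
  haveI := isSimpleGroup_base σ hodd hm
  have hr := omRigid_odd (m := m) hodd (by omega : 2 ≤ m)
  haveI : Nonempty Idx := ⟨.inl ()⟩
  have hinj : Function.Injective (MulAut.conj : PO →* MulAut PO) := by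
    refine (injective_iff_map_eq_one _).2 fun k hk => ?_
    obtain ⟨a, rfl⟩ := QuotientGroup.mk_surjective k
    rw [← inn_eq_conjAut omMat_injective (Cfsg.Geo.quadSimilarityGroup (F := F) (Cfsg.quadFormOdd m F))
      (fun _ => keep_conj_sim) a (omMat_mem_sim a), conjAut_apply] at hk
    exact (QuotientGroup.eq_one_iff a).2 (center_of_scalar hr ((conjAut_eq_one_iff hr _).1 hk))
  refine crit_of_simple hinj (baseHom σ m).range (fun k hk => ?_)
    (fun g hg s hs => baseHom_range_normalized σ hodd (by omega) hg hs) (fun hd => ?_)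
    (fun β _ hk => rigid_base_odd σ hodd hm hσp hk)
  · obtain ⟨t, rfl⟩ := hk
    exact baseHom_fix σ t
  · rcases (Fact.out : p.Prime).eq_two_or_odd' with h2 | ho
    · subst h2; exact two_dvd_card_base σ hodd (by omega)
    · obtain ⟨⟨k, hk⟩, hko⟩ := exists_prime_orderOf_dvd_card' p hd
      rw [Subgroup.orderOf_mk] at hko
      obtain ⟨g₀, hmem, rfl⟩ := mem_fix_exists σ hodd (by omega) hk
      have hsq : QuotientGroup.mk ⟨embIso σ m g₀, hmem⟩ ^ 2 ∈ (baseHom σ m).range := by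
        refine ⟨⟨g₀ * g₀, sq_mem_omega (quadOdd_good (odd_card_fix σ hodd)) g₀⟩, ?_⟩
        show QuotientGroup.mk _ = _
        rw [pow_two, ← QuotientGroup.mk_mul]
        congr 1
        refine Subtype.ext ?_
        show embIso σ m (g₀ * g₀) = _
        rw [map_mul]
        rfl
      obtain ⟨j, hj⟩ := ho
      have hmemS : (QuotientGroup.mk ⟨embIso σ m g₀, hmem⟩ : PO) ∈ (baseHom σ m).range := by
        have h := pow_mem hsq (j + 1)
        have hp1 : (QuotientGroup.mk ⟨embIso σ m g₀, hmem⟩ : PO) ^ p = 1 := by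
          rw [← hko]; exact pow_orderOf_eq_one _
        rwa [← pow_mul, show 2 * (j + 1) = p + 1 by omega, pow_succ, hp1, one_mul] at h
      rw [← hko]
      exact Subgroup.orderOf_dvd_natCard _ hmemS

end Fixed

theorem omega_odd_local_balance (hodd : Odd (Fintype.card F)) (hm : 3 ≤ m) (A : Subgroup (MulAut PO))
    (hinn : ∀ k : PO, MulAut.conj k ∈ A) {p : ℕ} [Fact p.Prime] (x : MulAut PO) (hord : orderOf x = p)
    (hnot : ¬ Cfsg.IsInnerDiagonalAutPOmegaOdd m x) :
    Cfsg.pPrimeCore p ↥(A ⊓ Subgroup.centralizer {x}) ≠ ⊥ ↔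
      (Cfsg.IsFieldAutClassPOmega (Cfsg.quadFormOdd m F) x ∧ Nat.Coprime p (Nat.card (fixK x))) := by
  obtain ⟨α, σ, hσ, hα⟩ := exists_conj_std_odd hodd hm (Fact.out) hord hnot
  have hcrit : Crit p x := Crit.of_conj (α := α) (hα ▸ crit_std_odd σ hodd hm hσ)
  rw [core_ne_bot_iff hcrit A hinn]
  refine ⟨fun h => ⟨⟨α, stdAutOdd m σ, σ, ?_, ?_, hα⟩, h⟩, And.right⟩
  · intro h
    rw [h] at hσ
    exact (Fact.out : p.Prime).ne_one (hσ ▸ orderOf_one)
  · exact (isInd_fieldAut_om σ _).2 ((isInd_iff omMat_injective (keep_gal_om (coeffFixed_odd σ))).2 rfl)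

end Cfsg.Agent.LocalBalance
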