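import Cfsg.Agent.Lib.LocalBalance.Commutant
import Cfsg.Agent.Lib.LocalBalance.Orth
import Cfsg.Agent.Lib.OrthEven.Field
import Cfsg.Agent.Lib.Triality.Stars

/-!
# Standard field automorphisms of odd order of even-dimensional orthogonal groups

* `embQ` : isometries over a subfield as isometries
* `crit_field_std` : `Crit` for `phiP`
-/

set_option autoImplicit false
set_option linter.unusedSectionVars false

namespace Cfsg.Agent.LocalBalance

open Cfsg Matrix Module Cfsg.Agent.Orth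
open Cfsg.Agent.FieldAut (galGL mapGL fixF mem_fixF omMat omMat_injective CoeffFixed indAut)
open QuadraticMap (polar)

variable {ι : Type} [Fintype ι] [DecidableEq ι] {F : Type*} [Field F] [Fintype F]
variable {F₀ : Type*} [Field F₀] [Fintype F₀] {e : F₀ →+* F}
variable {Q : QuadraticForm F (ι → F)} {Q₀ : QuadraticForm F₀ (ι → F₀)}

/-- Isometries over a subfield as isometries. -/
noncomputable def embQ (hem : ∀ v, Q (e ∘ v) = e (Q₀ v)) : IsoGrp Q₀ →* IsoGrp Q :=
  ((mapGL e).comp (Cfsg.isometryGroup F₀ ⇑Q₀).subtype).codRestrict _ fun g => by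
    refine FieldAut.mem_iso_iff.2 fun v => ?_
    have key : Q.comp (Matrix.mulVecLin (mapGL e g.1).1) = Q := by
      refine FieldAut.quadForm_ext_of_subfield e _ _ fun w => ?_
      show Q ((mapGL e g.1).1 *ᵥ (e ∘ w)) = Q (e ∘ w)
      rw [FieldAut.mapGL_coe, FieldAut.map_mulVec_embed, hem, hem]
      exact congrArg e (g.2 w w)
    exact QuadraticMap.congr_fun key v

variable (hem : ∀ v, Q (e ∘ v) = e (Q₀ v))
include hem

theorem embQ_ap (g : IsoGrp Q₀) (v : ι → F₀) : ap (embQ hem g) (e ∘ v) = e ∘ ap g v := by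
  rw [Orth.ap_apply, Orth.ap_apply]
  show (mapGL e g.1).1 *ᵥ (e ∘ v) = _
  rw [FieldAut.mapGL_coe, FieldAut.map_mulVec_embed]

theorem polar_embed (x y : ι → F₀) : polar ⇑Q (e ∘ x) (e ∘ y) = e (polar ⇑Q₀ x y) := by
  simp only [polar, map_sub, ← hem]
  congr 2
  congr 1
  funext i
  simp

theorem embQ_eich {u w : ι → F₀} (hu : Q₀ u = 0) (huw : polar ⇑Q₀ u w = 0) :
    embQ hem (eich Q₀ u w) = eich Q (e ∘ u) (e ∘ w) := by
  refine Subtype.ext (Units.ext (Matrix.ext_of_mulVec_single fun i => ?_))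
  have hs : e ∘ (Pi.single i (1 : F₀)) = (Pi.single i (1 : F) : ι → F) := by
    funext j; simp [Pi.single_apply, apply_ite e]
  show ap (embQ hem (eich Q₀ u w)) (Pi.single i 1) = ap (eich Q _ _) (Pi.single i 1)
  rw [← hs, embQ_ap, eich_ap hu huw, eich_ap (by rw [hem, hu, map_zero])
    (by rw [polar_embed hem, huw, map_zero]), polar_embed hem, polar_embed hem, hem]
  funext j
  simp

theorem embQ_omega {g : IsoGrp Q₀} (hg : g ∈ Omega F₀ ⇑Q₀) : embQ hem g ∈ Omega F ⇑Q := by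
  have h : (commutator (IsoGrp Q₀)).map (embQ hem) ≤ commutator (IsoGrp Q) := by
    rw [commutator_def, commutator_def, Subgroup.map_commutator]
    exact Subgroup.commutator_mono le_top le_top
  exact h ⟨g, hg, rfl⟩

/-- `Ω` over the subfield mapped to `PΩ`. -/
noncomputable def embP : ↥(Omega F₀ ⇑Q₀) →* POmega F ⇑Q :=
  (QuotientGroup.mk' _).comp (((embQ hem).comp (Omega F₀ ⇑Q₀).subtype).codRestrict
    (Omega F ⇑Q) fun g => embQ_omega hem g.2)

variable {σ : F ≃+* F}

theorem exists_embQ_of_fix (hrange : ∀ x, σ x = x → x ∈ Set.range e) {a : GL ι F}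
    (ha : a ∈ Cfsg.isometryGroup F ⇑Q) (hfix : galGL σ a = a) :
    ∃ g : IsoGrp Q₀, embQ hem g = ⟨a, ha⟩ := by
  have hinv : galGL σ a⁻¹ = a⁻¹ := by rw [map_inv, hfix]
  have hm1 : ∀ i j, a.1 i j ∈ Set.range e := fun i j => hrange _
    (by conv_rhs => rw [← hfix, FieldAut.galGL_apply])
  have hm2 : ∀ i j, (a⁻¹ : GL ι F).1 i j ∈ Set.range e := fun i j => hrange _
    (by conv_rhs => rw [← hinv, FieldAut.galGL_apply])
  choose f1 hf1 using hm1
  choose f2 hf2 using hm2
  let M : Matrix ι ι F₀ := Matrix.of f1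
  let N : Matrix ι ι F₀ := Matrix.of f2
  have hM : M.map e = a.1 := Matrix.ext hf1
  have hN : N.map e = (a⁻¹ : GL ι F).1 := Matrix.ext hf2
  have hMN : M * N = 1 := by
    refine Matrix.map_injective e.injective ?_
    show e.mapMatrix _ = e.mapMatrix _
    rw [map_mul, map_one]
    show M.map e * N.map e = 1
    rw [hM, hN]
    exact a.mul_inv
  let u : GL ι F₀ := ⟨M, N, hMN, mul_eq_one_comm.1 hMN⟩
  have hu : u ∈ Cfsg.isometryGroup F₀ ⇑Q₀ := FieldAut.mem_iso_iff.2 fun v => by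
    refine e.injective ?_
    rw [← hem, ← hem, ← FieldAut.map_mulVec_embed, show (u : Matrix ι ι F₀).map e = a.1 from hM]
    exact FieldAut.mem_iso_iff.1 ha _
  exact ⟨⟨u, hu⟩, Subtype.ext (Units.ext hM)⟩

theorem semi_of_fix (H : AutPOmega.Base Q) (hnd₀ : Q₀.polarBilin.Nondegenerate)
    (β : MulAut (POmega F ⇑Q)) (hk : ∀ t, β (embP hem t) = embP hem t) :
    ∃ (g : GL ι F) (τ : F ≃+* F) (hs : IsSemisimilarityPair ⇑Q g τ), β = AutPOmega.semiAut Q hs := by
  have H₀ : AutPOmega.Base Q₀ := ⟨hnd₀, H.seven⟩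
  have h7 := H.seven
  obtain ⟨u, f, huf⟩ := exists_hpair hnd₀ (by omega)
  obtain ⟨a, b, hab, ha, hb, -, -⟩ := AutPOmega.exists_two_hpairs H₀ huf
  obtain ⟨hua, hfa⟩ := mem_perp.1 ha
  obtain ⟨hub, hfb⟩ := mem_perp.1 hb
  have hp : HPair Q (e ∘ u) (e ∘ f) := ⟨by rw [hem, huf.qe, map_zero], by rw [hem, huf.qf, map_zero],
    by rw [polar_embed hem, huf.pf, map_one]⟩
  have hfr : Triality.Frame Q (e ∘ u) (e ∘ f) (e ∘ a) (e ∘ b) :=
    { hp := hp
      ha := mem_perp.2 ⟨by rw [polar_embed hem, hua, map_zero], by rw [polar_embed hem, hfa, map_zero]⟩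
      hb := mem_perp.2 ⟨by rw [polar_embed hem, hub, map_zero], by rw [polar_embed hem, hfb, map_zero]⟩
      qa := by rw [hem, hab.qe, map_zero]
      qb := by rw [hem, hab.qf, map_zero]
      ab := by rw [polar_embed hem, hab.pf, map_one]; exact one_ne_zero }
  have hE₀ : eichGen Q₀ ≤ Omega F₀ ⇑Q₀ := eichGen_le_omega hnd₀ (by omega) (.inr (by omega))
  have hfixE : ∀ w, polar ⇑Q₀ u w = 0 →
      β (AutPOmega.E Q (e ∘ u) (e ∘ w)) = AutPOmega.E Q (e ∘ u) (e ∘ w) := by
    intro w hw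
    have h1 := hk ⟨eich Q₀ u w, hE₀ (eich_mem_eichGen _ _)⟩
    have h2 : AutPOmega.E Q (e ∘ u) (e ∘ w) = embP hem ⟨eich Q₀ u w, hE₀ (eich_mem_eichGen _ _)⟩ := by
      rw [AutPOmega.E, AutPOmega.om_of_mem (H.eich_mem _ _)]
      refine congrArg QuotientGroup.mk (Subtype.ext ?_)
      exact (embQ_eich hem huf.qe hw).symm
    rw [h2]
    exact h1
  have hpt : AutPOmega.Pt Q β (e ∘ u) := Triality.pt_of_meet H β hfr hfr.sa hfr.sb (hfixE a hua)
    (hfixE b hub) ⟨_, hfr.sa.nu, AutPOmega.left_mem_ln _ _, AutPOmega.left_mem_ln _ _⟩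
  exact AutPOmega.exists_semi_eq_of H (fun γ _ h0 h1 h2 => Triality.pt_all H γ h0 h1 h2) β
    fun _ hv hv0 => Triality.pt_all H β hp.qe hp.ne_zero hpt _ hv hv0

/-- An automorphism fixing the rational elements is a power of the field automorphism. -/
theorem rigid_std (H : AutPOmega.Base Q) (hnd₀ : Q₀.polarBilin.Nondegenerate)
    (hrange : ∀ x, σ x = x → x ∈ Set.range e)
    (hσQ : CoeffFixed ⇑Q σ) {p : ℕ} (hσ : σ ^ p = 1) (β : MulAut (POmega F ⇑Q))
    (hk : ∀ t, β (embP hem t) = embP hem t) : β ^ p = 1 := by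
  classical
  have hn5 : 5 ≤ Fintype.card ι := by have := H.seven; omega
  have hn : 3 ≤ Fintype.card ι := by omega
  haveI : Nonempty ι := Fintype.card_pos_iff.1 (by omega)
  have hr := OrthEven.rigid_of_base H
  have hE₀ : eichGen Q₀ ≤ Omega F₀ ⇑Q₀ := eichGen_le_omega hnd₀ hn (.inr hn5)
  obtain ⟨g, τ, hs, rfl⟩ := semi_of_fix hem H hnd₀ β hk
  let D : Emb Q₀ F (ι → F) :=
    { e := e
      j := { toFun := fun v => e ∘ v
             map_zero' := funext fun i => map_zero e
             map_add' := fun v v' => funext fun i => map_add e _ _ }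
      B := fun u' => Q.polarBilin (e ∘ u')
      j_smul := fun c v => funext fun i => map_mul e c (v i)
      B_j := fun u' v => polar_embed hem u' v }
  let S : (ι → F) →+ (ι → F) :=
    { toFun := fun y => (g : Matrix ι ι F) *ᵥ (τ ∘ y)
      map_zero' := by rw [show τ ∘ (0 : ι → F) = 0 from funext fun i => map_zero τ, Matrix.mulVec_zero]
      map_add' := fun x y => by
        rw [← Matrix.mulVec_add]; congr 1; exact funext fun i => map_add τ _ _ }
  have hS : ∀ u' w', Q₀ u' = 0 → polar ⇑Q₀ u' w' = 0 → ∀ y,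
      S (D.ej u' w' y) = D.ej u' w' (S y) := by
    intro u' w' hu' hw' y
    have hu1 : Q (e ∘ u') = 0 := by rw [hem, hu', map_zero]
    have hw1 : polar ⇑Q (e ∘ u') (e ∘ w') = 0 := by rw [polar_embed hem, hw', map_zero]
    have hΩ₀ : eich Q₀ u' w' ∈ Omega F₀ ⇑Q₀ := hE₀ (eich_mem_eichGen _ _)
    have h1 := hk ⟨_, hΩ₀⟩
    have h3 := fix_unipotent (mat := omMat ⇑Q) hr
      (ψ := ⟨OrthOuter.psi g τ, OrthOuter.semi_keep hs⟩)
      (R := τ.mapMatrix.trans (FieldAut.conjRing g)) (fun x => by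
        simp [OrthOuter.psi, MulAut.mul_apply, MulAut.conj_apply, FieldAut.conjRing,
          FieldAut.galGL_apply_coe])
      (h := ⟨embQ hem (eich Q₀ u' w'), embQ_omega hem hΩ₀⟩)
      (by rw [omMat_coe, embQ_eich hem hu' hw']; exact FieldAut.eich_unipotent hu1 hw1) h1
    simp only [OrthOuter.psi, MulAut.mul_apply, MulAut.conj_apply, omMat_coe,
      embQ_eich hem hu' hw'] at h3
    have hej : ∀ z, D.ej u' w' z = ap (eich Q (e ∘ u') (e ∘ w')) z := fun z => by
      rw [eich_ap hu1 hw1, hem]; rfl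
    rw [hej, hej]
    show (g : Matrix ι ι F) *ᵥ (τ ∘ ap _ y) = ap _ ((g : Matrix ι ι F) *ᵥ (τ ∘ y))
    rw [mul_inv_eq_iff_eq_mul] at h3
    rw [Orth.ap_apply, Orth.ap_apply, ← FieldAut.galGL_mulVec, Matrix.mulVec_mulVec,
      Matrix.mulVec_mulVec, ← Units.val_mul, h3, Units.val_mul]
  obtain ⟨a, ha⟩ := D.scalar_of_commutant S hS hnd₀ hn
  have hsingle : ∀ i, e ∘ (Pi.single i (1 : F₀)) = (Pi.single i (1 : F) : ι → F) := fun i => by
    funext j; simp [Pi.single_apply, apply_ite e]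
  have hτs : ∀ (τ' : F ≃+* F) i, τ' ∘ (Pi.single i (1 : F)) = (Pi.single i (1 : F) : ι → F) :=
    fun τ' i => by funext j; simp [Pi.single_apply, apply_ite τ']
  have hgs : ∀ i, (g : Matrix ι ι F) *ᵥ Pi.single i 1 = a • (Pi.single i 1 : ι → F) := fun i => by
    have h4 : (g : Matrix ι ι F) *ᵥ (τ ∘ (e ∘ (Pi.single i (1 : F₀)))) =
        a • (e ∘ (Pi.single i (1 : F₀))) := ha (Pi.single i 1)
    rwa [hsingle, hτs] at h4
  have hgx : ∀ x, (g : Matrix ι ι F) *ᵥ x = a • x := fun x => by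
    have h4 : (g : Matrix ι ι F) = a • 1 := Matrix.ext_of_mulVec_single fun i => by
      rw [hgs, Matrix.smul_mulVec, Matrix.one_mulVec]
    rw [h4, Matrix.smul_mulVec, Matrix.one_mulVec]
  have ha0 : a ≠ 0 := fun h0 => by
    have h5 := congrArg (fun z => ((g⁻¹ : GL ι F) : Matrix ι ι F) *ᵥ z) (hgx (Pi.single (Classical.arbitrary ι) 1))
    rw [Matrix.mulVec_mulVec, ← Units.val_mul, inv_mul_cancel, Units.val_one, Matrix.one_mulVec, h0,
      zero_smul, Matrix.mulVec_zero, Pi.single_eq_zero_iff] at h5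
    exact one_ne_zero h5
  have hτ : τ ∈ Subgroup.zpowers σ := by
    refine mem_zpowers_of_fix fun c hc => ?_
    obtain ⟨c₀, rfl⟩ := hrange c hc
    set i := Classical.arbitrary ι
    have h4 : (g : Matrix ι ι F) *ᵥ (τ ∘ (e ∘ (c₀ • Pi.single i (1 : F₀)))) =
        a • (e ∘ (c₀ • Pi.single i (1 : F₀))) := ha (c₀ • Pi.single i 1)
    rw [hgx] at h4
    have h5 := congrFun h4 i
    simp only [Pi.smul_apply, Function.comp_apply, Pi.single_eq_same, smul_eq_mul, mul_one] at h5
    exact mul_left_cancel₀ ha0 h5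
  obtain ⟨n, rfl⟩ := Subgroup.mem_zpowers_iff.1 hτ
  have hψ : (⟨OrthOuter.psi g (σ ^ n), OrthOuter.semi_keep hs⟩ : FieldAut.keep (omMat ⇑Q)) =
      ⟨galGL σ, FieldAut.keep_gal_om hσQ⟩ ^ n := by
    refine Subtype.ext ?_
    rw [SubgroupClass.coe_zpow, ← map_zpow]
    show MulAut.conj g * galGL (σ ^ n) = galGL (σ ^ n)
    rw [show (MulAut.conj g : MulAut (GL ι F)) = 1 from MulEquiv.ext fun x => Units.ext
      (Matrix.ext_of_mulVec_single fun i => ?_), one_mul]
    rw [MulAut.conj_apply, Units.val_mul, Units.val_mul, ← Matrix.mulVec_mulVec,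
      ← Matrix.mulVec_mulVec, hgx]
    set y := ((g⁻¹ : GL ι F) : Matrix ι ι F) *ᵥ (Pi.single i 1 : ι → F) with hy
    have hy1 : a • y = Pi.single i 1 := by
      rw [← hgx, hy, Matrix.mulVec_mulVec, ← Units.val_mul, mul_inv_cancel, Units.val_one,
        Matrix.one_mulVec]
    rw [← Matrix.mulVec_smul, hy1, MulAut.one_apply]
  rw [AutPOmega.semiAut, hψ, map_zpow, ← zpow_natCast, ← _root_.zpow_mul, mul_comm, _root_.zpow_mul,
    zpow_natCast]
  have hg1 : (⟨galGL σ, FieldAut.keep_gal_om hσQ⟩ : FieldAut.keep (omMat ⇑Q)) ^ p = 1 := by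
    refine Subtype.ext ?_
    rw [SubgroupClass.coe_pow, ← map_pow, hσ, map_one]
    rfl
  rw [← map_pow, hg1, map_one, _root_.one_zpow]

/-- The rational points form a simple group. -/
theorem isSimple_embP (H : AutPOmega.Base Q) (hnd₀ : Q₀.polarBilin.Nondegenerate) :
    IsSimpleGroup (embP hem).range := by
  classical
  have hn5 : 5 ≤ Fintype.card ι := by have := H.seven; omega
  have hn : 3 ≤ Fintype.card ι := by omega
  haveI : Nonempty ι := Fintype.card_pos_iff.1 (by omega)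
  have hr := OrthEven.rigid_of_base H
  have hE₀ : eichGen Q₀ ≤ Omega F₀ ⇑Q₀ := eichGen_le_omega hnd₀ hn (.inr hn5)
  have hcen := fun z => mem_center_omega_iff H.nd hn
    (eichGen_le_omega H.nd hn (.inr hn5)) z
  have hcen₀ := fun z => mem_center_omega_iff hnd₀ hn hE₀ z
  haveI : IsSimpleGroup (POmega F₀ ⇑Q₀) := isSimpleGroup_pomega hnd₀ hn5
  have hker : Subgroup.center ↥(Omega F₀ ⇑Q₀) ≤ (embP hem).ker := fun z hz => by
    obtain ⟨a, ha, hax⟩ := (hcen₀ z).1 hz
    refine (QuotientGroup.eq_one_iff _).2 ((hcen _).2 ⟨e a, by rw [← map_mul, ha, map_one], fun x => ?_⟩)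
    show ap (embQ hem z.1) x = e a • x
    have h1 : ∀ i, ap (embQ hem z.1) (Pi.single i 1) = e a • Pi.single i 1 := fun i => by
      rw [show (Pi.single i 1 : ι → F) = e ∘ Pi.single i 1 by
        funext j; simp [Pi.single_apply, apply_ite e], embQ_ap, hax]
      funext j; simp
    have h2 : ap (embQ hem z.1) = e a • LinearMap.id :=
      (Pi.basisFun F ι).ext fun i => by simpa using h1 i
    rw [h2]; rfl
  -- a nontrivial element of the image
  obtain ⟨u, f, huf⟩ := exists_hpair hnd₀ hn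
  obtain ⟨w, hw, hQw⟩ := huf.exists_nonsing_perp hnd₀ hn
  obtain ⟨huw, hfw⟩ := mem_perp.1 hw
  set ψ := QuotientGroup.lift (Subgroup.center ↥(Omega F₀ ⇑Q₀)) (embP hem) hker
  have hψr : ψ.range = (embP hem).range := by
    ext y
    exact ⟨fun ⟨x, hx⟩ => by obtain ⟨x, rfl⟩ := QuotientGroup.mk_surjective x; exact ⟨x, hx⟩,
      fun ⟨x, hx⟩ => ⟨QuotientGroup.mk x, hx⟩⟩
  have hfin : IsSimpleGroup (embP hem).range := by
    have hinj : Function.Injective ψ := by
      rcases (Subgroup.Normal.eq_bot_or_eq_top (H := ψ.ker) inferInstance) with h | h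
      · exact (MonoidHom.ker_eq_bot_iff ψ).1 h
      · exfalso
        have h1 : ψ (QuotientGroup.mk ⟨eich Q₀ u w, hE₀ (eich_mem_eichGen _ _)⟩) = 1 :=
          MonoidHom.mem_ker.1 (by rw [h]; trivial)
        obtain ⟨c, -, hc⟩ := (hcen _).1 ((QuotientGroup.eq_one_iff _).1 h1)
        have h2 : ap (embQ hem (eich Q₀ u w)) (e ∘ f) = c • (e ∘ f) := hc _
        rw [embQ_ap, eich_ap huf.qe huw, huf.pf] at h2
        obtain ⟨y, hy, hwy⟩ := huf.perp_nondeg hnd₀ hw (fun h0 => hQw (by rw [h0]; exact map_zero Q₀))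
        obtain ⟨hyu, hyf⟩ := mem_perp.1 hy
        have h3 := congrArg (fun z => polar ⇑Q (e ∘ y) z) h2
        simp only [Orth.pl_smul_right, polar_embed hem, pl_sub_right, pl_add_right, one_smul,
          pl_comm Q₀ y u, pl_comm Q₀ y f, hyu, hyf, mul_zero, map_zero, zero_add, sub_zero] at h3
        exact hwy (by rw [pl_comm]; exact (map_eq_zero e).1 h3)
    exact ((MonoidHom.ofInjective hinj).trans (MulEquiv.subgroupCongr hψr)).symm.isSimpleGroup
  exact hfin

omit hem in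
/-- The centre quotient has trivial centre. -/
theorem inj_conj (H : AutPOmega.Base Q) :
    Function.Injective (MulAut.conj : POmega F ⇑Q →* MulAut (POmega F ⇑Q)) := by
  haveI : Nonempty ι := Fintype.card_pos_iff.1 (by have := H.seven; omega)
  have hr := OrthEven.rigid_of_base H
  refine (injective_iff_map_eq_one _).2 fun k hk => ?_
  obtain ⟨a, rfl⟩ := QuotientGroup.mk_surjective k
  rw [← FieldAut.inn_eq_conjAut omMat_injective (Cfsg.Geo.quadSimilarityGroup (F := F) ⇑Q)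
    (fun _ => FieldAut.keep_conj_sim) a (FieldAut.omMat_mem_sim a), FieldAut.conjAut_apply] at hk
  exact (QuotientGroup.eq_one_iff a).2
    (FieldAut.center_of_scalar hr ((FieldAut.conjAut_eq_one_iff hr _).1 hk))

theorem crit_field_std (H : AutPOmega.Base Q) (hnd₀ : Q₀.polarBilin.Nondegenerate)
    (hfix : ∀ x, σ (e x) = e x) (hrange : ∀ x, σ x = x → x ∈ Set.range e)
    (hσQ : CoeffFixed ⇑Q σ) {p : ℕ} [Fact p.Prime] (hp : Odd p) (hσ : σ ^ p = 1) :
    Crit p (OrthEven.phiP hσQ) := by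
  classical
  have hn5 : 5 ≤ Fintype.card ι := by have := H.seven; omega
  have hn : 3 ≤ Fintype.card ι := by omega
  haveI : Nonempty ι := Fintype.card_pos_iff.1 (by omega)
  have hr := OrthEven.rigid_of_base H
  have hE₀ : eichGen Q₀ ≤ Omega F₀ ⇑Q₀ := eichGen_le_omega hnd₀ hn (.inr hn5)
  have hcen := fun z => mem_center_omega_iff H.nd hn
    (eichGen_le_omega H.nd hn (.inr hn5)) z
  have hrig : ∀ β : MulAut (POmega F ⇑Q), (∀ t, β (embP hem t) = embP hem t) → β ^ p = 1 :=
    rigid_std hem H hnd₀ hrange hσQ hσ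
  haveI := isSimple_embP hem H hnd₀
  have hinj := inj_conj H
  -- the lift of a fixed point is fixed
  have hlift : ∀ k ∈ fixK (OrthEven.phiP hσQ), ∃ (g : IsoGrp Q₀) (h : embQ hem g ∈ Omega F ⇑Q),
      k = QuotientGroup.mk ⟨_, h⟩ := by
    intro k hk
    obtain ⟨a, rfl⟩ := QuotientGroup.mk_surjective k
    rw [mem_fixK, OrthEven.phiP, FieldAut.indAut_mk, QuotientGroup.eq, hcen] at hk
    obtain ⟨c, hc, hcx⟩ := hk
    set t := FieldAut.liftAut omMat_injective ⟨galGL σ, FieldAut.keep_gal_om hσQ⟩ a with ht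
    have hmat : galGL σ (omMat ⇑Q a) = omMat ⇑Q t := (FieldAut.mat_liftAut omMat_injective ⟨galGL σ, FieldAut.keep_gal_om hσQ⟩ a).symm
    have hcx' : ∀ y, (omMat ⇑Q a : Matrix ι ι F) *ᵥ y = c • ((omMat ⇑Q t : Matrix ι ι F) *ᵥ y) := by
      intro y
      have h1 : ap ((t : IsoGrp Q)⁻¹ * (a : IsoGrp Q)) y = c • y := hcx y
      rw [Orth.ap_mul] at h1
      have h2 := congrArg (ap (t : IsoGrp Q)) h1
      rw [← Orth.ap_mul, mul_inv_cancel, Orth.ap_one, map_smul] at h2
      exact h2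
    have hstep : galGL σ (omMat ⇑Q a) = omMat ⇑Q a := by
      by_cases hc1 : c = 1
      · subst hc1
        rw [hmat]
        exact Units.ext (Matrix.ext_of_mulVec_single fun i => by rw [hcx', one_smul])
      · obtain rfl := (mul_self_eq_one_iff.1 hc).resolve_left hc1
        exfalso
        -- `σ(a) = -a` contradicts the odd order of `σ`
        have h1 : galGL σ (omMat ⇑Q a) = -omMat ⇑Q a := by
          rw [hmat]
          refine Units.ext (Matrix.ext_of_mulVec_single fun i => ?_)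
          rw [Units.val_neg, Matrix.neg_mulVec, hcx', neg_one_smul, neg_neg]
        have h2 : ∀ i : ℕ, galGL (σ ^ i) (omMat ⇑Q a) = (-1) ^ i * omMat ⇑Q a := by
          intro i
          induction i with
          | zero => rw [pow_zero, pow_zero, map_one, MulAut.one_apply, one_mul]
          | succ i ih =>
            rw [pow_succ, map_mul, MulAut.mul_apply, h1, show -omMat ⇑Q a = (-1) * omMat ⇑Q a from
              (neg_one_mul _).symm, map_mul, ih, ← mul_assoc, pow_succ']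
            congr 2
            exact Units.ext (by
              rw [FieldAut.galGL_apply_coe, Units.val_neg, Units.val_one]
              ext r s; by_cases hrs : r = s <;> simp [Matrix.one_apply, hrs, -RingAut.coe_pow])
        have h3 := h2 p
        rw [hσ, map_one, MulAut.one_apply] at h3
        rw [show ((-1 : GL ι F)) ^ p = -1 from hp.neg_one_pow] at h3
        replace h3 : (-1 : GL ι F) = 1 := mul_eq_right.1 h3.symm
        have h4 := congrArg (fun z : GL ι F => ((z : Matrix ι ι F) *ᵥ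
          Pi.single (Classical.arbitrary ι) (1 : F)) (Classical.arbitrary ι)) h3
        simp only [Units.val_neg, Units.val_one, Matrix.neg_mulVec, Matrix.one_mulVec, Pi.neg_apply,
          Pi.single_eq_same] at h4
        exact hc1 (by linear_combination h4)
    obtain ⟨g, hg⟩ := exists_embQ_of_fix hem hrange (a := omMat ⇑Q a) a.1.2 hstep
    have hg' : embQ hem g = a.1 := hg
    exact ⟨g, hg' ▸ a.2, congrArg _ (Subtype.ext hg'.symm)⟩
  refine crit_of_simple hinj (embP hem).range ?_ ?_ (fun hd => ?_)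
    (fun β _ hk => hrig β fun t => hk _ ⟨t, rfl⟩)
  · rintro _ ⟨t, rfl⟩
    show OrthEven.phiP hσQ (QuotientGroup.mk _) = QuotientGroup.mk _
    rw [OrthEven.phiP, FieldAut.indAut_mk]
    congr 1
    refine omMat_injective ?_
    rw [FieldAut.mat_liftAut]
    exact FieldAut.galGL_mapGL e hfix _
  · intro k hk s hs
    obtain ⟨g₀, hmem, rfl⟩ := hlift k hk
    obtain ⟨t, rfl⟩ := hs
    refine ⟨⟨g₀ * t.1 * g₀⁻¹, (inferInstance : (commutator (IsoGrp Q₀)).Normal).conj_mem _ t.2 _⟩, ?_⟩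
    show QuotientGroup.mk _ = QuotientGroup.mk _ * QuotientGroup.mk _ * (QuotientGroup.mk _)⁻¹
    rw [← QuotientGroup.mk_inv, ← QuotientGroup.mk_mul, ← QuotientGroup.mk_mul]
    congr 1
    refine Subtype.ext ?_
    show embQ hem (g₀ * t.1 * g₀⁻¹) = _
    rw [map_mul, map_mul, map_inv]
    rfl
  · obtain ⟨⟨k, hk⟩, hko⟩ := exists_prime_orderOf_dvd_card' p hd
    rw [← Subgroup.orderOf_coe] at hko
    obtain ⟨g₀, hmem, rfl⟩ := hlift k hk
    have hsq : (QuotientGroup.mk ⟨embQ hem g₀, hmem⟩ : POmega F ⇑Q) ^ 2 ∈ (embP hem).range := by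
      refine ⟨⟨g₀ * g₀, sq_mem_omega ⟨hnd₀, .inr (by omega)⟩ g₀⟩, ?_⟩
      show QuotientGroup.mk _ = _
      rw [pow_two, ← QuotientGroup.mk_mul]
      congr 1
      refine Subtype.ext ?_
      show embQ hem (g₀ * g₀) = _
      rw [map_mul]
      rfl
    obtain ⟨j, hj⟩ := hp
    have hmemS : (QuotientGroup.mk ⟨embQ hem g₀, hmem⟩ : POmega F ⇑Q) ∈ (embP hem).range := by
      have h := pow_mem hsq (j + 1)
      have hp1 : (QuotientGroup.mk ⟨embQ hem g₀, hmem⟩ : POmega F ⇑Q) ^ p = 1 := by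
        rw [← hko]; exact pow_orderOf_eq_one _
      rwa [← pow_mul, show 2 * (j + 1) = p + 1 by omega, pow_succ, hp1, one_mul] at h
    rw [← hko]
    exact Subgroup.orderOf_dvd_natCard _ hmemS

end Cfsg.Agent.LocalBalance
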