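import Cfsg.Agent.Lib.LocalBalance.TriRigid
import Cfsg.Agent.Lib.LocalBalance.FieldStd

/-!
# The criterion in the triality coset

* `crit_model`, `triCrit`
-/

set_option autoImplicit false
set_option linter.unusedSectionVars false

namespace Cfsg.Agent.LocalBalance

open Cfsg Matrix Cfsg.Agent.Orth Cfsg.Agent.AutPOmega Cfsg.Agent.Triality
open Cfsg.Agent.OrthOuter (Sim sap toSim conjAut isoConj)

variable {F : Type*} [Field F] [Fintype F]

set_option quotPrecheck false in
local notation "P8" => POmega F ⇑(Q4 F)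

theorem crit_model (h3 : (3 : F) ≠ 0) {g : IsoGrp (Q4 F)} {σ : F ≃+* F} (hm : IsModel g σ)
    (hx3 : triAut g σ ^ 3 = 1) :
    Crit 3 (triAut g σ) ∧ 3 ∣ Nat.card (fixK (triAut g σ)) := by
  set e := fixEquiv hm.au σ
  have hne : (⟨(gA F, gA F, gA F), gAT_mem hm⟩ : GF g σ) ≠ 1 := fun h => by
    have h1 : gA F = 1 := congrArg (fun P : GF g σ => P.1.1) h
    have h2 : ap (gA F) (bv (.inl 2) : IJ → F) (.inl 2) = (bv (.inl 2) : IJ → F) (.inl 2) := by
      rw [h1, ap_one]
    simp [ap_gA] at h2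
  have hd : 3 ∣ Nat.card (fixK (triAut g σ)) := by
    rw [← Nat.card_congr e.toEquiv]
    have h := orderOf_eq_prime (p := 3) (x := (⟨(gA F, gA F, gA F), gAT_mem hm⟩ : GF g σ))
      (Subtype.ext (by show (gA F, gA F, gA F) ^ 3 = 1; simp [Prod.pow_mk, gA_cube])) hne
    exact h ▸ orderOf_dvd_natCard _
  refine ⟨⟨fun h => ?_, inj_conj base4, fun _ N hN hn hc => ?_, fun _ β hβ hk =>
    rigid_model h3 hm hx3 β hβ hk⟩, hd⟩
  · rw [h, Subgroup.card_bot] at hd
    norm_num at hd
  · set N' : Subgroup (GF g σ) := (N.subgroupOf (fixK (triAut g σ))).comap e.toMonoidHom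
    haveI : (N.subgroupOf (fixK (triAut g σ))).Normal := ⟨fun n hn' k => hn k k.2 _ hn'⟩
    haveI : N'.Normal := inferInstanceAs (Subgroup.comap e.toMonoidHom _).Normal
    have hc' : (Nat.card N').Coprime 3 := by
      refine Nat.Coprime.coprime_dvd_left ?_ hc
      rw [← Nat.card_congr (Subgroup.subgroupOfEquivOfLe hN).toEquiv]
      exact Subgroup.card_comap_dvd_of_injective _ _ e.injective
    have hb : N' = ⊥ :=
      le_bot_iff.1 ((Cores.le_pPrimeCore (p := 3) inferInstance hc').trans (core_eq_bot h3 hm).le)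
    rw [Subgroup.eq_bot_iff_forall]
    intro n hn'
    have : e.symm ⟨n, hN hn'⟩ ∈ N' := by
      show e (e.symm _) ∈ N.subgroupOf _
      rw [MulEquiv.apply_symm_apply]; exact hn'
    rw [hb, Subgroup.mem_bot, MulEquiv.map_eq_one_iff] at this
    exact congrArg Subtype.val this

/-- The criterion for triality automorphisms. -/
theorem triCrit (h3 : (3 : F) ≠ 0) : TriCrit F := by
  intro a σ ha hord
  obtain ⟨α, g, hm, e⟩ := exists_model h3 ha (hord ▸ pow_orderOf_eq_one _)
  set x := conjAut (Q4 F) a * triality F * galHom 4 F σ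
  have e' : α * x * α⁻¹ = triAut g σ := e
  obtain ⟨hc, hd⟩ := crit_model h3 (g := g) (σ := σ) hm
    (by rw [← e', conj_pow, show x ^ 3 = 1 from hord ▸ pow_orderOf_eq_one x, mul_one, mul_inv_cancel])
  refine ⟨Crit.of_conj (α := α) (e' ▸ hc), ?_⟩
  rwa [← e', ← map_fixK, ← Nat.card_congr ((fixK x).equivMapOfInjective _ α.injective).toEquiv] at hd

end Cfsg.Agent.LocalBalance
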