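import Cfsg.Agent.Lib.Cores.Basic

/-!
# Local balance of an automorphism of prime order

* `fixK x` : the fixed points of `x`
* `Crit p x` : what is needed for the criterion, invariant under conjugation (`Crit.of_conj`)
* `core_ne_bot_iff` : `O_{p'}(C_A(x)) ≠ 1` iff `p` does not divide the order of the fixed points
* `crit_of_simple` : `Crit` from a simple subgroup of the fixed points
* `mem_zpowers_of_fix` : a field automorphism fixing the fixed field of `σ` is a power of `σ`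
-/

set_option autoImplicit false

namespace Cfsg.Agent.LocalBalance

variable {K : Type*} [Group K]

/-- The fixed points of an automorphism. -/
abbrev fixK (x : MulAut K) : Subgroup K := MonoidHom.eqLocus x.toMonoidHom (MonoidHom.id K)

theorem mem_fixK {x : MulAut K} {k : K} : k ∈ fixK x ↔ x k = k := Iff.rfl

theorem apply_conj (y : MulAut K) (k : K) : y * MulAut.conj k * y⁻¹ = MulAut.conj (y k) := by
  ext z; simp [MulAut.mul_apply, MulAut.conj_apply, map_mul, map_inv]

/-- What is needed for the criterion. -/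
structure Crit (p : ℕ) (x : MulAut K) : Prop where
  ne : fixK x ≠ ⊥
  inj : Function.Injective (MulAut.conj : K →* MulAut K)
  core : p ∣ Nat.card (fixK x) → ∀ N : Subgroup K, N ≤ fixK x →
    (∀ g ∈ fixK x, ∀ n ∈ N, g * n * g⁻¹ ∈ N) → (Nat.card N).Coprime p → N = ⊥
  rigid : p ∣ Nat.card (fixK x) → ∀ β : MulAut K, β * x = x * β → (∀ k ∈ fixK x, β k = k) → β ^ p = 1

theorem map_fixK (α x : MulAut K) : (fixK x).map α.toMonoidHom = fixK (α * x * α⁻¹) := by
  ext k
  rw [Subgroup.mem_map_equiv, mem_fixK, mem_fixK, MulAut.mul_apply, MulAut.mul_apply]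
  constructor
  · intro h
    show α (x (α.symm k)) = k
    rw [h, MulEquiv.apply_symm_apply]
  · intro h
    have h' := congrArg α.symm h
    rwa [MulEquiv.symm_apply_apply] at h'

theorem Crit.of_conj {p : ℕ} {α x : MulAut K} (h : Crit p (α * x * α⁻¹)) : Crit p x := by
  have hmap := map_fixK α x
  have hmem : ∀ k, k ∈ fixK x ↔ α k ∈ fixK (α * x * α⁻¹) := fun k => by
    rw [← hmap]
    exact ⟨fun hk => ⟨k, hk, rfl⟩, fun ⟨j, hj, e⟩ => α.injective e ▸ hj⟩
  have hcard : Nat.card (fixK (α * x * α⁻¹)) = Nat.card (fixK x) := by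
    rw [← hmap]; exact Nat.card_congr ((fixK x).equivMapOfInjective _ α.injective).toEquiv.symm
  refine ⟨fun e => h.ne ?_, h.inj, fun hd N hN hn hc => ?_, fun hd β hβ hk => ?_⟩
  · rw [← hmap, e, Subgroup.map_bot]
  · have := h.core (hcard ▸ hd) (N.map α.toMonoidHom) (hmap ▸ Subgroup.map_mono hN) ?_ ?_
    · exact (Subgroup.map_eq_bot_iff_of_injective _ α.injective).1 this
    · rintro g hg _ ⟨n, hn', rfl⟩
      obtain ⟨g', rfl⟩ := α.surjective g
      exact ⟨g' * n * g'⁻¹, hn g' ((hmem g').2 hg) n hn', by simp⟩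
    · rwa [← Nat.card_congr (N.equivMapOfInjective _ α.injective).toEquiv]
  · have h1 := h.rigid (hcard ▸ hd) (α * β * α⁻¹) ?_ fun k hk' => ?_
    · rw [conj_pow] at h1
      exact conj_eq_one_iff.1 h1
    · calc α * β * α⁻¹ * (α * x * α⁻¹) = α * (β * x) * α⁻¹ := by group
        _ = α * x * α⁻¹ * (α * β * α⁻¹) := by rw [hβ]; group
    · obtain ⟨j, rfl⟩ := α.surjective k
      rw [MulAut.mul_apply, MulAut.mul_apply, MulAut.inv_apply_self, hk j ((hmem j).2 hk')]

theorem core_ne_bot_iff [Finite K] {p : ℕ} [Fact p.Prime] {x : MulAut K} (h : Crit p x)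
    (A : Subgroup (MulAut K)) (hinn : ∀ k : K, MulAut.conj k ∈ A) :
    Cfsg.pPrimeCore p ↥(A ⊓ Subgroup.centralizer {x}) ≠ ⊥ ↔ Nat.Coprime p (Nat.card (fixK x)) := by
  haveI : Finite (MulAut K) := Finite.of_injective (fun a : MulAut K => (a : K → K)) DFunLike.coe_injective
  set C := A ⊓ Subgroup.centralizer {x} with hC
  have hcomm : ∀ y : C, y.1 * x = x * y.1 := fun y =>
    Subgroup.mem_centralizer_singleton_iff.1 y.2.2
  let ι : fixK x →* C := (MulAut.conj.comp (fixK x).subtype).codRestrict C fun k =>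
    ⟨hinn _, Subgroup.mem_centralizer_singleton_iff.2 <| by
      have := apply_conj x k.1
      rw [mem_fixK.1 k.2, mul_inv_eq_iff_eq_mul] at this
      exact this.symm⟩
  have hι : Function.Injective ι := fun a b e =>
    Subtype.ext (h.inj (congrArg Subtype.val e))
  have hfix : ∀ (y : C) (k : fixK x), y.1 k.1 ∈ fixK x := fun y k => by
    rw [mem_fixK, ← MulAut.mul_apply, ← hcomm, MulAut.mul_apply, mem_fixK.1 k.2]
  have hconj : ∀ (y : C) (k : fixK x), y * ι k * y⁻¹ = ι ⟨y.1 k.1, hfix y k⟩ := fun y k =>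
    Subtype.ext (apply_conj y.1 k.1)
  constructor
  · intro hne
    by_contra hcp
    have hd : p ∣ Nat.card (fixK x) := by
      rwa [(Fact.out : p.Prime).coprime_iff_not_dvd, not_not] at hcp
    refine hne ((Subgroup.eq_bot_iff_forall _).2 fun y hy => ?_)
    set X := Cfsg.pPrimeCore p ↥C with hX
    have hN : ((X.comap ι).map (fixK x).subtype) = ⊥ := by
      refine h.core hd _ (Subgroup.map_subtype_le _) ?_ ?_
      · rintro g hg _ ⟨n, hn, rfl⟩
        refine ⟨⟨g, hg⟩ * n * ⟨g, hg⟩⁻¹, ?_, rfl⟩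
        exact Subgroup.Normal.conj_mem (inferInstance : (X.comap ι).Normal) _ hn _
      · refine Nat.Coprime.coprime_dvd_left ?_ (Cores.coprime_card_pPrimeCore (G := ↥C) p)
        refine dvd_trans (Subgroup.card_map_dvd _ _) ?_
        exact (Subgroup.card_comap_dvd_of_injective X ι hι)
    have hk : ∀ k ∈ fixK x, y.1 k = k := by
      intro k hk
      have h1 : y * ι ⟨k, hk⟩ * y⁻¹ * (ι ⟨k, hk⟩)⁻¹ ∈ X := by
        have : y * ι ⟨k, hk⟩ * y⁻¹ * (ι ⟨k, hk⟩)⁻¹ = y * (ι ⟨k, hk⟩ * y⁻¹ * (ι ⟨k, hk⟩)⁻¹) := by group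
        rw [this]
        exact mul_mem hy (Subgroup.Normal.conj_mem inferInstance _ (inv_mem hy) _)
      rw [hconj, ← map_inv, ← map_mul] at h1
      have h2 : y.1 k * k⁻¹ ∈ (⊥ : Subgroup K) := hN ▸ ⟨_, h1, rfl⟩
      rwa [Subgroup.mem_bot, mul_inv_eq_one] at h2
    have hp1 : y ^ p = 1 := Subtype.ext (h.rigid hd y.1 (hcomm y) hk)
    have hco : (orderOf y).Coprime p := Nat.Coprime.coprime_dvd_left
      (Subgroup.orderOf_dvd_natCard _ hy) (Cores.coprime_card_pPrimeCore p)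
    exact orderOf_eq_one_iff.1 (Nat.Coprime.eq_one_of_dvd hco (orderOf_dvd_of_pow_eq_one hp1))
  · intro hcp e
    have hn : ι.range.Normal := ⟨by
      rintro _ ⟨k, rfl⟩ y
      exact ⟨_, (hconj y k).symm⟩⟩
    have hle : ι.range ≤ Cfsg.pPrimeCore p ↥C := Cores.le_pPrimeCore hn <| by
      rw [← Nat.card_congr (MonoidHom.ofInjective hι).toEquiv]; exact hcp.symm
    rw [e, le_bot_iff, MonoidHom.range_eq_bot_iff] at hle
    refine h.ne ((Subgroup.eq_bot_iff_forall _).2 fun k hk => ?_)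
    exact congrArg Subtype.val (hι ((DFunLike.congr_fun hle ⟨k, hk⟩).trans (map_one ι).symm))

theorem crit_of_simple [Finite K] {p : ℕ} [Fact p.Prime] {x : MulAut K}
    (hinj : Function.Injective (MulAut.conj : K →* MulAut K)) (S : Subgroup K) [IsSimpleGroup S]
    (hS : S ≤ fixK x) (hnorm : ∀ g ∈ fixK x, ∀ s ∈ S, g * s * g⁻¹ ∈ S)
    (hdiv : p ∣ Nat.card (fixK x) → p ∣ Nat.card S)
    (hrig : ∀ β : MulAut K, β * x = x * β → (∀ k ∈ S, β k = k) → β ^ p = 1) : Crit p x := by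
  refine ⟨fun e => ?_, hinj, fun hd N hN hn hc => ?_, fun _ β hβ hk => hrig β hβ fun k hk' => hk k (hS hk')⟩
  · have hb : S = ⊥ := le_bot_iff.1 (e ▸ hS)
    exact (not_subsingleton ↥S) (hb ▸ (inferInstance : Subsingleton (⊥ : Subgroup K)))
  haveI : (N.subgroupOf S).Normal := ⟨fun n hn' g => hn g.1 (hS g.2) _ hn'⟩
  rcases (Subgroup.Normal.eq_bot_or_eq_top (H := N.subgroupOf S) inferInstance) with h0 | h0
  · refine (Subgroup.eq_bot_iff_forall _).2 fun n hn' => ?_
    have hcom : ∀ s ∈ S, n * s * n⁻¹ = s := fun s hs => by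
      have h1 : n * s * n⁻¹ * s⁻¹ ∈ S := mul_mem (hnorm n (hN hn') s hs) (inv_mem hs)
      have h2 : n * s * n⁻¹ * s⁻¹ ∈ N := by
        rw [show n * s * n⁻¹ * s⁻¹ = n * (s * n⁻¹ * s⁻¹) by group]
        exact mul_mem hn' (hn s (hS hs) _ (inv_mem hn'))
      have h3 : (⟨_, h1⟩ : S) ∈ N.subgroupOf S := h2
      rw [h0, Subgroup.mem_bot] at h3
      exact mul_inv_eq_one.1 (congrArg Subtype.val h3)
    have h1 := hrig (MulAut.conj n) ?_ hcom
    · rw [← map_pow, ← map_one (MulAut.conj : K →* MulAut K)] at h1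
      refine orderOf_eq_one_iff.1 (Nat.Coprime.eq_one_of_dvd ?_ (orderOf_dvd_of_pow_eq_one (hinj h1)))
      exact Nat.Coprime.coprime_dvd_left (Subgroup.orderOf_dvd_natCard _ hn') hc
    · have := apply_conj x n
      rw [mem_fixK.1 (hN hn'), mul_inv_eq_iff_eq_mul] at this
      exact this.symm
  · exfalso
    have hSN : S ≤ N := Subgroup.subgroupOf_eq_top.1 h0
    have := (Nat.Coprime.coprime_dvd_left ((hdiv hd).trans (Subgroup.card_dvd_of_le hSN)) hc)
    exact (Fact.out : p.Prime).ne_one (Nat.coprime_self p |>.1 this)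

theorem mem_zpowers_of_fix {F : Type*} [Field F] [Finite F] {σ τ : F ≃+* F}
    (h : ∀ a, σ a = a → τ a = a) : τ ∈ Subgroup.zpowers σ := by
  haveI : Finite (F ≃+* F) := Finite.of_injective (fun a : F ≃+* F => (a : F → F)) DFunLike.coe_injective
  set G := Subgroup.zpowers σ with hG
  obtain ⟨g, hg⟩ := FixedPoints.toAlgAut_surjective G F
    (AlgEquiv.ofRingEquiv (f := τ) (fun ⟨a, ha⟩ => h a (ha ⟨σ, Subgroup.mem_zpowers σ⟩)))
  have : (g.1 : F ≃+* F) = τ := RingEquiv.ext fun a => DFunLike.congr_fun hg a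
  exact this ▸ g.2

end Cfsg.Agent.LocalBalance
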