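import Cfsg.Agent.Lib.LocalBalance.Abstract
import Cfsg.Agent.Lib.Orth.Simple

/-!
# Commutants and normal subgroups of odd order of orthogonal groups

* `Emb.scalar_of_commutant` : an additive map commuting with Eichler transformations is a scalar
* `scalar_of_odd_normal` : in odd characteristic a normal subgroup of odd exponent modulo scalars
  of an orthogonal group of dimension `≥ 3` consists of scalars
-/

set_option autoImplicit false
set_option linter.unusedSectionVars false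

namespace Cfsg.Agent.LocalBalance

open Cfsg Matrix Module Cfsg.Agent.Orth
open QuadraticMap (polar)

section Commutant

variable {ι : Type} [Fintype ι] [DecidableEq ι] {F : Type*} [Field F]

/-- A semilinear image of a quadratic space. -/
structure Emb (Q : QuadraticForm F (ι → F)) (K : Type*) [Field K] (V : Type*) [AddCommGroup V]
    [Module K V] where
  e : F →+* K
  j : (ι → F) →+ V
  B : (ι → F) → V →ₗ[K] K
  j_smul : ∀ (c : F) (v : ι → F), j (c • v) = e c • j v
  B_j : ∀ u v : ι → F, B u (j v) = e (polar ⇑Q u v)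

variable {Q : QuadraticForm F (ι → F)} {K : Type*} [Field K] {V : Type*} [AddCommGroup V] [Module K V]
  (D : Emb Q K V)

/-- The Eichler map of two vectors. -/
def Emb.ej (u w : ι → F) (y : V) : V :=
  y + D.B u y • D.j w - (D.B w y + D.e (Q w) * D.B u y) • D.j u

theorem Emb.j_ne {u f : ι → F} (h : polar ⇑Q f u = 1) : D.j u ≠ 0 := fun h0 => by
  have := D.B_j f u
  rw [h0, map_zero, h, map_one] at this
  exact zero_ne_one this

variable (S : V →+ V)
  (hS : ∀ u w, Q u = 0 → polar ⇑Q u w = 0 → ∀ y, S (D.ej u w y) = D.ej u w (S y))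
include hS

theorem Emb.line_of_commutant (hQ : Q.polarBilin.Nondegenerate) (hn : 3 ≤ Fintype.card ι)
    {u : ι → F} (hu : Q u = 0) : ∃ a : K, S (D.j u) = a • D.j u := by
  by_cases hu0 : u = 0
  · exact ⟨0, by simp [hu0]⟩
  obtain ⟨f, hp⟩ := exists_hpair_left hQ hu hu0
  obtain ⟨w, hw, hQw⟩ := hp.exists_nonsing_perp hQ hn
  obtain ⟨y, hy, hwy⟩ := hp.perp_nondeg hQ hw (fun h0 => hQw (by rw [h0]; exact map_zero Q))
  set x : ι → F := (-(polar ⇑Q w y))⁻¹ • y with hx
  have hwx : polar ⇑Q w x = -1 := by rw [hx, pl_smul_right]; field_simp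
  have hux : polar ⇑Q u x = 0 := by rw [hx, pl_smul_right, (mem_perp.1 hy).1, mul_zero]
  have huw : polar ⇑Q u w = 0 := (mem_perp.1 hw).1
  have huu : polar ⇑Q u u = 0 := by rw [pl_self, hu, mul_zero]
  have e1 : D.ej u w (D.j x) = D.j x + D.j u := by
    simp [Emb.ej, D.B_j, hux, hwx]
  have h1 := hS u w hu huw (D.j x)
  rw [e1, map_add] at h1
  set d := D.B u (S (D.j x)) with hd
  set c := -(D.B w (S (D.j x)) + D.e (Q w) * d) with hc
  have h2 : S (D.j u) = c • D.j u + d • D.j w := by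
    rw [hc]
    unfold Emb.ej at h1
    rw [← hd] at h1
    linear_combination (norm := module) h1
  have e2 : D.ej u x (D.j u) = D.j u := by
    simp [Emb.ej, D.B_j, huu, show polar ⇑Q x u = 0 by rw [pl_comm]; exact hux]
  have h3 := hS u x hu hux (D.j u)
  rw [e2, h2] at h3
  have h4 : D.B u (c • D.j u + d • D.j w) = 0 := by simp [D.B_j, huu, huw]
  have h5 : D.B x (c • D.j u + d • D.j w) = -d := by
    simp [D.B_j, show polar ⇑Q x u = 0 by rw [pl_comm]; exact hux,
      show polar ⇑Q x w = -1 by rw [pl_comm]; exact hwx]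
  rw [Emb.ej, h4, h5] at h3
  have h6 : d • D.j u = 0 := by linear_combination (norm := module) -h3
  rcases smul_eq_zero.1 h6 with h7 | h7
  · exact ⟨c, by rw [h2, h7, zero_smul, add_zero]⟩
  · exact absurd h7 (D.j_ne (f := f) (by rw [pl_comm]; exact hp.pf))

/-- An additive map commuting with all Eichler maps is a scalar. -/
theorem Emb.scalar_of_commutant [Fintype F] (hQ : Q.polarBilin.Nondegenerate)
    (hn : 3 ≤ Fintype.card ι) : ∃ a : K, ∀ v, S (D.j v) = a • D.j v := by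
  have half : ∀ {u f : ι → F}, HPair Q u f → ∀ {b : K}, S (D.j f) = b • D.j f → ∀ w ∈ perp Q u f,
      ∃ t : K, S (D.j w) = b • D.j w + t • D.j u := by
    intro u f hp b hb w hw
    obtain ⟨huw, hfw⟩ := mem_perp.1 hw
    have e1 : D.ej u w (D.j f) = D.j f + D.j w + D.j ((-Q w) • u) := by
      rw [Emb.ej, D.B_j, D.B_j, hp.pf, pl_comm Q w f, hfw, D.j_smul, map_neg, map_zero, map_one,
        zero_add, mul_one, neg_smul, one_smul, sub_eq_add_neg]
    have h1 := hS u w hp.qe huw (D.j f)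
    rw [e1, map_add, map_add, hb] at h1
    obtain ⟨a', ha'⟩ := D.line_of_commutant S hS hQ hn (u := (-Q w) • u)
      (by rw [Q_smul, hp.qe, mul_zero])
    rw [ha', D.j_smul, map_neg, Emb.ej, map_smul, map_smul, D.B_j, D.B_j, hp.pf, pl_comm Q w f, hfw,
      map_zero, map_one, smul_zero, zero_add, smul_eq_mul, mul_one] at h1
    refine ⟨a' * D.e (Q w) - D.e (Q w) * b, ?_⟩
    linear_combination (norm := module) h1
  have key : ∀ {u f : ι → F}, HPair Q u f → ∀ {a b : K}, S (D.j u) = a • D.j u →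
      S (D.j f) = b • D.j f → a = b ∧ ∀ w ∈ perp Q u f, S (D.j w) = a • D.j w := by
    intro u f hp a b ha hb
    have h0 : ∀ w ∈ perp Q u f, ∃ t, S (D.j w) = a • D.j w + t • D.j f := fun w hw =>
      half hp.swap ha w (by rwa [perp_swap])
    obtain ⟨z, hz, hQz⟩ := hp.exists_nonsing_perp hQ hn
    obtain ⟨y, hy, hzy⟩ := hp.perp_nondeg hQ hz (fun e => hQz (by rw [e]; exact map_zero Q))
    have hyz : D.B y (D.j z) ≠ 0 := by
      rw [D.B_j]; exact (map_ne_zero D.e).2 (by rwa [pl_comm])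
    obtain ⟨t, ht⟩ := half hp hb z hz
    obtain ⟨s, hs⟩ := h0 z hz
    have hyu : polar ⇑Q y u = 0 := by rw [pl_comm]; exact (mem_perp.1 hy).1
    have hyf : polar ⇑Q y f = 0 := by rw [pl_comm]; exact (mem_perp.1 hy).2
    have h1 := congrArg (D.B y) (hs.symm.trans ht)
    simp only [map_add, map_smul, D.B_j, hyu, hyf, map_zero, smul_eq_mul, mul_zero, add_zero] at h1
    have hab : a = b := mul_right_cancel₀ (by rwa [D.B_j] at hyz) h1
    refine ⟨hab, fun w hw => ?_⟩
    obtain ⟨t, ht⟩ := half hp hb w hw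
    obtain ⟨s, hs⟩ := h0 w hw
    obtain ⟨huw, hfw⟩ := mem_perp.1 hw
    have h2 := congrArg (D.B u) (hs.symm.trans ht)
    simp only [map_add, map_smul, D.B_j, huw, pl_self, hp.qe, hp.pf, mul_zero, map_zero, map_one,
      smul_zero, zero_add, smul_eq_mul, mul_one] at h2
    rw [hs, h2, zero_smul, add_zero]
  obtain ⟨u, f, hp⟩ := exists_hpair hQ hn
  obtain ⟨a, ha⟩ := D.line_of_commutant S hS hQ hn hp.qe
  obtain ⟨b, hb⟩ := D.line_of_commutant S hS hQ hn hp.qf
  obtain ⟨hab, hperp⟩ := key hp ha hb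
  obtain ⟨z, hz, hQz⟩ := hp.exists_nonsing_perp hQ hn
  obtain ⟨y, hy, hzy⟩ := hp.perp_nondeg hQ hz (fun e => hQz (by rw [e]; exact map_zero Q))
  have hz0 : D.j z ≠ 0 := fun h0 => by
    have := D.B_j y z
    rw [h0, map_zero, eq_comm, map_eq_zero, pl_comm] at this
    exact hzy this
  have hu : ∀ {u' f' : ι → F}, HPair Q u' f' → perp Q u' f' = perp Q u f →
      S (D.j u') = a • D.j u' := by
    intro u' f' hp' he
    obtain ⟨a', ha'⟩ := D.line_of_commutant S hS hQ hn hp'.qe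
    obtain ⟨b', hb'⟩ := D.line_of_commutant S hS hQ hn hp'.qf
    have := (key hp' ha' hb').2 z (he ▸ hz)
    rw [hperp z hz] at this
    rw [ha', smul_left_injective K hz0 this]
  have hmul : ∀ {u' f' : ι → F}, HPair Q u' f' → perp Q u' f' = perp Q u f → ∀ c : F,
      S (D.j (c • u')) = a • D.j (c • u') := by
    intro u' f' hp' he c
    by_cases hc : c = 0
    · simp [hc]
    refine hu (f' := c⁻¹ • f') ⟨by rw [Q_smul, hp'.qe, mul_zero], by rw [Q_smul, hp'.qf, mul_zero],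
      by rw [pl_smul_left, pl_smul_right, hp'.pf, mul_one, mul_inv_cancel₀ hc]⟩ ?_
    rw [← he]
    ext v
    simp only [mem_perp, pl_smul_left, mul_eq_zero, hc, inv_eq_zero, false_or]
  refine ⟨a, fun v => ?_⟩
  rw [decomp (Q := Q) u f v, map_add, map_add, map_add, map_add, hmul hp rfl,
    hmul hp.swap (perp_swap _ _), hperp _ (hp.wPart_mem v), smul_add, smul_add]

end Commutant

section OddNormal

variable {ι : Type} [Fintype ι] [DecidableEq ι] {F : Type*} [Field F] [Fintype F]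
variable {Q : QuadraticForm F (ι → F)}

/-- A set of singular points invariant under all isometries has even size. -/
theorem not_odd_card_spt (hQ : Q.polarBilin.Nondegenerate) (h2 : (2 : F) ≠ 0) :
    ¬ Odd (Nat.card (SPt Q)) := by
  intro hodd
  haveI : Invertible (2 : F) := invertibleOfNonzero h2
  obtain ⟨b, hb⟩ := LinearMap.BilinForm.exists_orthogonal_basis (B := Q.polarBilin)
    ⟨fun x y => pl_comm Q x y⟩
  have hb' : ∀ i j, i ≠ j → polar ⇑Q (b i) (b j) = 0 := fun i j h => hb h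
  have hne : ∀ i, Q (b i) ≠ 0 := fun i h0 => by
    refine b.ne_zero i (hQ.1 (b i) fun v => ?_)
    rw [← b.sum_repr v, map_sum]
    refine Finset.sum_eq_zero fun j _ => ?_
    rw [map_smul]
    by_cases h : i = j
    · subst h
      show _ • polar ⇑Q (b i) (b i) = 0
      rw [pl_self, h0, mul_zero, smul_zero]
    · show _ • polar ⇑Q (b i) (b j) = 0
      rw [hb' i j h, smul_zero]
  set E : Subgroup (IsoGrp Q) := Subgroup.closure (Set.range fun i => refl Q (b i)) with hE
  have hc : ∀ x ∈ E, ∀ y ∈ E, Commute x y := by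
    refine fun x hx y hy => Subgroup.closure_induction₂ (p := fun a c _ _ => Commute a c)
      ?_ (fun a _ => Commute.one_left a) (fun a _ => Commute.one_right a)
      (fun a c d _ _ _ h1 h2 => h1.mul_left h2) (fun a c d _ _ _ h1 h2 => h1.mul_right h2)
      (fun a c _ _ h1 => h1.inv_left) (fun a c _ _ h1 => h1.inv_right) hx hy
    rintro _ _ ⟨i, rfl⟩ ⟨j, rfl⟩
    by_cases h : i = j
    · subst h; exact Commute.refl _
    refine ext_ap fun v => ?_
    rw [ap_mul, ap_mul, refl_ap, refl_ap, refl_ap, refl_ap]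
    simp only [pl_sub_right, pl_smul_right, hb' i j h, hb' j i (Ne.symm h), mul_zero, sub_zero]
    module
  have hsq : ∀ x ∈ E, x * x = 1 := by
    intro x hx
    induction hx using Subgroup.closure_induction with
    | mem x hx => obtain ⟨i, rfl⟩ := hx; exact refl_mul_self Q (b i)
    | one => exact one_mul 1
    | mul x y hx hy h1 h2 =>
      rw [show x * y * (x * y) = x * (y * x) * y by group, (hc y hy x hx).eq, ← mul_assoc, h1,
        one_mul, h2]
    | inv x hx h1 => rw [← _root_.mul_inv_rev, h1, inv_one]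
  have hpg : IsPGroup 2 E := fun x => ⟨1, Subtype.ext (by
    show (x : IsoGrp Q) ^ 2 ^ 1 = 1
    rw [pow_one, pow_two]; exact hsq x.1 x.2)⟩
  obtain ⟨p, hp⟩ := hpg.nonempty_fixed_point_of_prime_not_dvd_card (α := SPt Q)
    (fun h => (Nat.not_even_iff_odd.2 hodd) (even_iff_two_dvd.2 h))
  obtain ⟨v, h0, hv, rfl⟩ := exists_spt p
  refine h0 (hQ.1 v fun w => ?_)
  rw [← b.sum_repr w, map_sum]
  refine Finset.sum_eq_zero fun i _ => ?_
  rw [map_smul]
  show _ • polar ⇑Q v (b i) = 0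
  obtain ⟨a, ha⟩ := (smul_spt_eq_self_iff (refl Q (b i)) v h0 hv).1
    (hp ⟨_, Subgroup.subset_closure ⟨i, rfl⟩⟩)
  rw [pl_comm]
  by_contra hne0
  have h1 : polar ⇑Q (b i) v ≠ 0 := fun h => hne0 (by rw [h, smul_zero])
  rw [refl_ap] at ha
  have h3 : ((Q (b i))⁻¹ * polar ⇑Q (b i) v) • b i = (1 - a) • v := by
    linear_combination (norm := module) -ha
  have h4 := congrArg Q h3
  rw [Q_smul, Q_smul, hv, mul_zero] at h4
  simp [hne i, h1] at h4

theorem exists_eich_move {u f f' : ι → F} (h : HPair Q u f) (h' : HPair Q u f') :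
    ∃ w, ap (eich Q u w) u = u ∧ ap (eich Q u w) f = f' := by
  set w := f' - polar ⇑Q f f' • u - f with hw
  have hfu : polar ⇑Q f u = 1 := by rw [pl_comm]; exact h.pf
  have hf'u : polar ⇑Q f' u = 1 := by rw [pl_comm]; exact h'.pf
  have hu0 : polar ⇑Q u u = 0 := by rw [pl_self, h.qe, mul_zero]
  have hf0 : polar ⇑Q f f = 0 := by rw [pl_self, h.qf, mul_zero]
  have huw : polar ⇑Q u w = 0 := by
    simp [hw, pl_sub_right, pl_smul_right, h.pf, h'.pf, hu0]
  have hwf : polar ⇑Q w f = 0 := by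
    simp [hw, pl_sub_left, pl_smul_left, h.pf, hf0, pl_comm Q f' f]
  have hQw : Q w = -polar ⇑Q f f' := by
    simp only [hw, Q_sub, Q_smul, pl_sub_left, pl_smul_right, pl_smul_left, h.qe, h.qf, h'.qf, hf'u,
      h.pf, pl_comm Q f' f]
    ring
  refine ⟨w, ?_, ?_⟩
  · rw [eich_ap h.qe huw, hu0, show polar ⇑Q w u = 0 by rw [pl_comm]; exact huw]
    simp
  · rw [eich_ap h.qe huw, h.pf, hwf, hQw, hw]
    module

/-- A normal subgroup of odd exponent modulo scalars consists of scalars. -/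
theorem scalar_of_odd_normal (hQ : Q.polarBilin.Nondegenerate) (h2 : (2 : F) ≠ 0)
    (hn : 3 ≤ Fintype.card ι) {M : Subgroup (IsoGrp Q)} (hM : M.Normal) {N : ℕ} (hN : Odd N)
    (hpow : ∀ m ∈ M, ∃ a : F, ∀ x, ap (m ^ N) x = a • x) :
    ∀ m ∈ M, ∃ a : F, a * a = 1 ∧ ∀ x, ap m x = a • x := by
  classical
  intro m hm
  obtain ⟨e, f, hef⟩ := exists_hpair hQ hn
  refine hef.scalar_of_fix hQ hn fun v h0 hv => ?_
  rw [← smul_spt_eq_self_iff m v h0 hv]
  by_contra hmove
  set D : Set (SPt Q) := MulAction.orbit M (spt v h0 hv) with hD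
  have hconj : ∀ (h : IsoGrp Q) {p r : SPt Q}, h • p = p → p ∈ D → r ∈ D → h • r ∈ D := by
    intro h p r hp hpD hrD
    obtain ⟨⟨m₁, hm₁⟩, e1⟩ := hpD
    obtain ⟨⟨m₂, hm₂⟩, e2⟩ := hrD
    change m₁ • spt v h0 hv = p at e1
    change m₂ • spt v h0 hv = r at e2
    refine ⟨⟨h * (m₂ * m₁⁻¹) * h⁻¹ * m₁,
      mul_mem (hM.conj_mem _ (mul_mem hm₂ (inv_mem hm₁)) h) hm₁⟩, ?_⟩
    show (h * (m₂ * m₁⁻¹) * h⁻¹ * m₁) • spt v h0 hv = h • r
    rw [mul_smul, e1, mul_smul, inv_smul_eq_iff.2 hp.symm, mul_smul, mul_smul,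
      inv_smul_eq_iff.2 e1.symm, e2]
  have hopp : ∀ {a b : ι → F} (ha : a ≠ 0) (hQa : Q a = 0) (hb : b ≠ 0) (hQb : Q b = 0),
      spt a ha hQa ∈ D → spt b hb hQb ∈ D → polar ⇑Q a b ≠ 0 → ∀ {c : ι → F} (hc : c ≠ 0)
      (hQc : Q c = 0), polar ⇑Q a c ≠ 0 → spt c hc hQc ∈ D := by
    intro a b ha hQa hb hQb haD hbD hab c hc hQc hac
    have p1 : HPair Q a ((polar ⇑Q a b)⁻¹ • b) :=
      ⟨hQa, by rw [Q_smul, hQb, mul_zero], by rw [pl_smul_right, inv_mul_cancel₀ hab]⟩
    have p2 : HPair Q a ((polar ⇑Q a c)⁻¹ • c) :=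
      ⟨hQa, by rw [Q_smul, hQc, mul_zero], by rw [pl_smul_right, inv_mul_cancel₀ hac]⟩
    obtain ⟨w, hw1, hw2⟩ := exists_eich_move p1 p2
    have h1 : eich Q a w • spt a ha hQa = spt a ha hQa :=
      (smul_spt_eq_self_iff _ _ _ _).2 ⟨1, by rw [hw1, one_smul]⟩
    have h3 : eich Q a w • spt b hb hQb = spt c hc hQc := by
      rw [smul_spt, spt_eq_iff]
      rw [map_smul] at hw2
      refine ⟨polar ⇑Q a b * (polar ⇑Q a c)⁻¹, ?_⟩
      rw [mul_smul, ← hw2, smul_smul, mul_inv_cancel₀ hab, one_smul]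
    exact h3 ▸ hconj _ h1 haD hbD
  have hvD : spt v h0 hv ∈ D := MulAction.mem_orbit_self _
  have hpair : ∃ (a b : ι → F) (ha : a ≠ 0) (hQa : Q a = 0) (hb : b ≠ 0) (hQb : Q b = 0),
      spt a ha hQa ∈ D ∧ spt b hb hQb ∈ D ∧ polar ⇑Q a b ≠ 0 := by
    set v' := ap m v with hv'
    have h0' : v' ≠ 0 := ap_ne_zero m h0
    have hQv' : Q v' = 0 := by rw [hv', Q_ap, hv]
    have hv'D : spt v' h0' hQv' ∈ D := ⟨⟨m, hm⟩, smul_spt m v h0 hv⟩
    by_cases hvv : polar ⇑Q v v' = 0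
    swap
    · exact ⟨v, v', h0, hv, h0', hQv', hvD, hv'D, hvv⟩
    have hind : v' ∉ (F ∙ v) := fun hmem => by
      obtain ⟨t, ht⟩ := Submodule.mem_span_singleton.1 hmem
      exact hmove ((smul_spt_eq_self_iff m v h0 hv).2 ⟨t, ht.symm⟩)
    obtain ⟨y, -, hy1, hy2⟩ := exists_sep (Q := Q) (W := ⊤)
      (fun x _ hx => by simpa using exists_polar_ne hQ hx) (Submodule.mem_top (x := v'))
      (Submodule.mem_top (x := v)) h0 hind
    obtain ⟨z, hz1, hz2, hQz⟩ : ∃ z, polar ⇑Q v z = 0 ∧ polar ⇑Q v' z ≠ 0 ∧ Q z ≠ 0 := by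
      by_cases hQy : Q y = 0
      · refine ⟨y + v', by rw [pl_add_right, hy1, hvv, add_zero], ?_, ?_⟩
        · rwa [pl_add_right, pl_self, hQv', mul_zero, add_zero]
        · rw [Q_add, hQy, hQv', zero_add, zero_add, pl_comm]; exact hy2
      · exact ⟨y, hy1, hy2, hQy⟩
    have hfix : refl Q z • spt v h0 hv = spt v h0 hv :=
      (smul_spt_eq_self_iff _ _ _ _).2 ⟨1, by
        rw [refl_ap, show polar ⇑Q z v = 0 by rw [pl_comm]; exact hz1]; simp⟩
    refine ⟨v', ap (refl Q z) v', h0', hQv', ap_ne_zero _ h0', by rw [Q_ap, hQv'], hv'D,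
      smul_spt (refl Q z) v' h0' hQv' ▸ hconj _ hfix hvD hv'D, ?_⟩
    rw [refl_ap, pl_sub_right, pl_smul_right, pl_self, hQv', mul_zero, zero_sub, neg_ne_zero,
      pl_comm Q z v']
    exact mul_ne_zero (mul_ne_zero (inv_ne_zero hQz) hz2) hz2
  obtain ⟨a, b, ha, hQa, hb, hQb, haD, hbD, hab⟩ := hpair
  have hall : ∀ p : SPt Q, p ∈ D := by
    intro p
    obtain ⟨c, hc, hQc, rfl⟩ := exists_spt p
    obtain ⟨z, hQz, hcz, haz⟩ := exists_opposite_both hQ hn hQc hc hQa ha
    have hz : z ≠ 0 := fun e => haz (by rw [e, pl_zero_right])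
    have hzD := hopp ha hQa hb hQb haD hbD hab hz hQz haz
    exact hopp hz hQz ha hQa hzD haD (by rw [pl_comm]; exact haz) hc hQc
      (by rw [pl_comm]; exact hcz)
  refine not_odd_card_spt hQ h2 ?_
  set R := ((MulAction.toPermHom (IsoGrp Q) (SPt Q)).comp M.subtype).range with hR
  have hRodd : Odd (Nat.card R) := by
    rw [← Nat.not_even_iff_odd, even_iff_two_dvd]
    intro h2d
    obtain ⟨⟨_, ⟨m', hm'⟩, rfl⟩, hr2⟩ := exists_prime_orderOf_dvd_card' 2 h2d
    have : ((MulAction.toPermHom (IsoGrp Q) (SPt Q)) m') ^ N = 1 := by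
      rw [← map_pow]
      obtain ⟨c, hc⟩ := hpow m' hm'
      exact Equiv.Perm.ext fun p => fix_of_scalar hc p
    rw [← Subgroup.orderOf_coe] at hr2
    have h3 : (2 : ℕ) ∣ N := hr2 ▸ orderOf_dvd_of_pow_eq_one this
    exact (Nat.not_even_iff_odd.2 hN) (even_iff_two_dvd.2 h3)
  have : MulAction.IsPretransitive R (SPt Q) := by
    refine (MulAction.isPretransitive_iff_base (spt v h0 hv)).2 fun p => ?_
    obtain ⟨g, hg⟩ := hall p
    exact ⟨⟨_, g, rfl⟩, hg⟩
  have hdvd : Nat.card (SPt Q) ∣ Nat.card R := by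
    rw [← MulAction.index_stabilizer_of_transitive R (spt v h0 hv)]
    exact Subgroup.index_dvd_card _
  exact hRodd.of_dvd_nat hdvd

end OddNormal

end Cfsg.Agent.LocalBalance
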