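import Cfsg.Agent.Lib.LocalBalance.Abstract
import Cfsg.Agent.Lib.FieldAut.Tools
import Cfsg.Agent.Lib.FieldAut.Unitary
import Cfsg.Agent.Lib.FieldAut.OrthBasic

/-!
# Automorphisms of centre quotients induced by automorphisms of a cover

* `fixS Ψ` : the image of the fixed points of `Ψ` in `H ⧸ Z(H)`
* `crit_lift` : `Crit` for the automorphism induced by `Ψ`
* `isSimpleGroup_range`
* `eigen_of_fix` : a semilinear map commuting with a transvection has its centre as eigenvector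
* `fix_of_eigen`, `fix_of_eigen_herm` : enough eigenvectors over a subfield
-/

set_option autoImplicit false

namespace Cfsg.Agent.LocalBalance

open scoped MatrixGroups Matrix
open Cfsg.Agent.FieldAut (galGL scal scal_coe galGL_mulVec)

section Lift

variable {H : Type*} [Group H]

/-- The image of the fixed points of `Ψ` in the centre quotient. -/
abbrev fixS (Ψ : MulAut H) : Subgroup (H ⧸ Subgroup.center H) :=
  (fixK Ψ).map (QuotientGroup.mk' (Subgroup.center H))

theorem mk_mem_fixS {Ψ : MulAut H} {h : H} (hh : Ψ h = h) :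
    (QuotientGroup.mk h : H ⧸ Subgroup.center H) ∈ fixS Ψ := ⟨h, hh, rfl⟩

theorem crit_lift [Finite H] {p : ℕ} [Fact p.Prime] (Ψ : MulAut H)
    (x : MulAut (H ⧸ Subgroup.center H)) (hx : ∀ h : H, x (QuotientGroup.mk h) = QuotientGroup.mk (Ψ h))
    {N : ℕ} (hN : ∀ z ∈ Subgroup.center H, z ^ N = 1)
    (hinj : Function.Injective (MulAut.conj : H ⧸ Subgroup.center H →* MulAut (H ⧸ Subgroup.center H)))
    (hne : ∃ h, Ψ h = h ∧ h ∉ Subgroup.center H)
    (hdiv : p ∣ N → ∃ h, Ψ h = h ∧ h ^ p ∈ Subgroup.center H ∧ h ∉ Subgroup.center H)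
    (hrad : p ∣ Nat.card (fixS Ψ) → ∀ M ≤ fixS Ψ, (∀ g ∈ fixS Ψ, ∀ a ∈ M, g * a * g⁻¹ ∈ M) →
      (Nat.card M).Coprime p → ∀ a ∈ M, ∀ s ∈ fixS Ψ, a * s * a⁻¹ = s)
    (hrig : ∀ β : MulAut (H ⧸ Subgroup.center H), β * x = x * β →
      (∀ h, Ψ h = h → β (QuotientGroup.mk h) = QuotientGroup.mk h) → β ^ p = 1) :
    Crit p x ∧ (p ∣ N → ¬ Nat.Coprime p (Nat.card (fixK x))) := by
  have hp : p.Prime := Fact.out
  have hle : fixS Ψ ≤ fixK x := by
    rintro _ ⟨h, hh, rfl⟩
    show x (QuotientGroup.mk h) = QuotientGroup.mk h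
    rw [hx, mem_fixK.1 hh]
  have hlift : ∀ k ∈ fixK x, ∃ a z : H,
      z ∈ Subgroup.center H ∧ k = QuotientGroup.mk a ∧ Ψ a = a * z := fun k hk => by
    obtain ⟨a, rfl⟩ := QuotientGroup.mk_surjective k
    rw [mem_fixK, hx, QuotientGroup.eq] at hk
    refine ⟨a, a⁻¹ * Ψ a, ?_, rfl, (mul_inv_cancel_left a _).symm⟩
    have := inv_mem hk
    rw [mul_inv_rev, inv_inv] at this
    exact this
  have hnorm : ∀ k ∈ fixK x, ∀ s ∈ fixS Ψ, k * s * k⁻¹ ∈ fixS Ψ := by
    rintro k hk _ ⟨h, hh, rfl⟩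
    obtain ⟨a, z, hz, rfl, ha⟩ := hlift k hk
    refine ⟨a * h * a⁻¹, ?_, rfl⟩
    show Ψ (a * h * a⁻¹) = a * h * a⁻¹
    rw [map_mul, map_mul, map_inv, ha, mem_fixK.1 hh, mul_inv_rev,
      show a * z * h * (z⁻¹ * a⁻¹) = a * (z * h * z⁻¹) * a⁻¹ by group,
      ← Subgroup.mem_center_iff.1 hz h, mul_inv_cancel_right]
  have hpow : ∀ k ∈ fixK x, k ^ N ∈ fixS Ψ := by
    intro k hk
    obtain ⟨a, z, hz, rfl, ha⟩ := hlift k hk
    refine ⟨a ^ N, ?_, rfl⟩
    show Ψ (a ^ N) = a ^ N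
    rw [map_pow, ha, Commute.mul_pow (Subgroup.mem_center_iff.1 hz a), hN z hz, mul_one]
  have hinS : p ∣ Nat.card (fixK x) → p ∣ Nat.card (fixS Ψ) := by
    intro hd
    by_cases hpN : p ∣ N
    · obtain ⟨h, hh, hhp, hhc⟩ := hdiv hpN
      have hord : orderOf (QuotientGroup.mk h : H ⧸ Subgroup.center H) = p :=
        orderOf_eq_prime (by rw [← QuotientGroup.mk_pow]; exact (QuotientGroup.eq_one_iff _).2 hhp)
          (fun e => hhc ((QuotientGroup.eq_one_iff _).1 e))
      rw [← hord]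
      exact Subgroup.orderOf_dvd_natCard _ (mk_mem_fixS hh)
    · obtain ⟨⟨k, hk⟩, hko⟩ := exists_prime_orderOf_dvd_card' p hd
      rw [← Subgroup.orderOf_coe] at hko
      have h1 : orderOf (k ^ N) = p := by
        rw [Nat.Coprime.orderOf_pow (by rw [hko]; exact (hp.coprime_iff_not_dvd).2 hpN), hko]
      rw [← h1]
      exact Subgroup.orderOf_dvd_natCard _ (hpow k hk)
  have hS : ∀ β : MulAut (H ⧸ Subgroup.center H), β * x = x * β →
      (∀ s ∈ fixS Ψ, β s = s) → β ^ p = 1 :=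
    fun β hβ hk => hrig β hβ fun h hh => hk _ (mk_mem_fixS hh)
  have hcomm : ∀ n ∈ fixK x, (∀ s ∈ fixS Ψ, n * s * n⁻¹ = s) → n ^ p = 1 := fun n hn hs => by
    refine hinj ?_
    rw [map_pow, map_one]
    refine hS _ ?_ hs
    have := apply_conj x n
    rw [mem_fixK.1 hn, mul_inv_eq_iff_eq_mul] at this
    exact this.symm
  refine ⟨⟨fun e => ?_, hinj, fun hd N' hN' hn hc => ?_, fun _ β hβ hk =>
    hS β hβ fun s hs => hk s (hle hs)⟩, fun hpN hco => ?_⟩
  · obtain ⟨h, hh, hhc⟩ := hne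
    have h1 : (QuotientGroup.mk h : H ⧸ Subgroup.center H) ∈ fixK x := hle (mk_mem_fixS hh)
    rw [e, Subgroup.mem_bot] at h1
    exact hhc ((QuotientGroup.eq_one_iff _).1 h1)
  · have key : ∀ {n : H ⧸ Subgroup.center H}, n ∈ N' → n ^ p = 1 → n = 1 := fun {n} hn' h1 =>
      orderOf_eq_one_iff.1 (Nat.Coprime.eq_one_of_dvd
        (Nat.Coprime.coprime_dvd_left (Subgroup.orderOf_dvd_natCard _ hn') hc)
        (orderOf_dvd_of_pow_eq_one h1))
    have hM : ∀ a ∈ N' ⊓ fixS Ψ, a = 1 := by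
      intro a ha
      refine key ha.1 (hcomm a (hN' ha.1) (hrad (hinS hd) (N' ⊓ fixS Ψ) inf_le_right
        (fun g hg b hb => ⟨hn g (hle hg) b hb.1, (fixS Ψ).mul_mem ((fixS Ψ).mul_mem hg hb.2) ((fixS Ψ).inv_mem hg)⟩)
        (Nat.Coprime.coprime_dvd_left (Subgroup.card_dvd_of_le inf_le_left) hc) a ha))
    refine (Subgroup.eq_bot_iff_forall _).2 fun n hn' => key hn' (hcomm n (hN' hn') fun s hs => ?_)
    refine mul_inv_eq_one.1 (hM _ ⟨?_, (fixS Ψ).mul_mem (hnorm n (hN' hn') s hs) ((fixS Ψ).inv_mem hs)⟩)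
    rw [show n * s * n⁻¹ * s⁻¹ = n * (s * n⁻¹ * s⁻¹) by group]
    exact mul_mem hn' (hn s (hle hs) _ (inv_mem hn'))
  · obtain ⟨h, hh, hhp, hhc⟩ := hdiv hpN
    have hord : orderOf (QuotientGroup.mk h : H ⧸ Subgroup.center H) = p :=
      orderOf_eq_prime (by rw [← QuotientGroup.mk_pow]; exact (QuotientGroup.eq_one_iff _).2 hhp)
        (fun e => hhc ((QuotientGroup.eq_one_iff _).1 e))
    have hd : p ∣ Nat.card (fixK x) := hord ▸ Subgroup.orderOf_dvd_natCard _ (hle (mk_mem_fixS hh))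
    exact hp.ne_one (Nat.Coprime.eq_one_of_dvd hco hd)

theorem isSimpleGroup_range {G X : Type*} [Group G] [Group X] (f : G →* X)
    [IsSimpleGroup (G ⧸ Subgroup.center G)] (hker : Subgroup.center G ≤ f.ker) (hne : f.range ≠ ⊥) :
    IsSimpleGroup f.range := by
  set ψ := QuotientGroup.lift (Subgroup.center G) f hker
  have hr : ψ.range = f.range := by
    ext y
    exact ⟨fun ⟨a, ha⟩ => by obtain ⟨a, rfl⟩ := QuotientGroup.mk_surjective a; exact ⟨a, ha⟩,
      fun ⟨a, ha⟩ => ⟨QuotientGroup.mk a, ha⟩⟩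
  have hinj : Function.Injective ψ := by
    rcases (Subgroup.Normal.eq_bot_or_eq_top (H := ψ.ker) inferInstance) with h | h
    · exact (MonoidHom.ker_eq_bot_iff ψ).1 h
    · exfalso
      rw [MonoidHom.ker_eq_top_iff] at h
      exact hne (by rw [← hr, h, MonoidHom.range_one])
  exact ((MonoidHom.ofInjective hinj).trans (MulEquiv.subgroupCongr hr)).symm.isSimpleGroup

/-- A simple group of order divisible by `p` has no non-trivial normal subgroup of order prime to `p`. -/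
theorem rad_of_simple {X : Type*} [Group X] {p : ℕ} [Fact p.Prime] {S : Subgroup X} [IsSimpleGroup S]
    (hd : p ∣ Nat.card S) {M : Subgroup X} (hM : M ≤ S) (hn : ∀ g ∈ S, ∀ a ∈ M, g * a * g⁻¹ ∈ M)
    (hc : (Nat.card M).Coprime p) : M = ⊥ := by
  haveI : (M.subgroupOf S).Normal := ⟨fun n hn' g => hn g.1 g.2 _ hn'⟩
  rcases (Subgroup.Normal.eq_bot_or_eq_top (H := M.subgroupOf S) inferInstance) with h | h
  · rw [Subgroup.subgroupOf_eq_bot] at h
    exact disjoint_self.1 (h.mono_right hM)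
  · exfalso
    have := Nat.Coprime.coprime_dvd_left
      (hd.trans (Subgroup.card_dvd_of_le (Subgroup.subgroupOf_eq_top.1 h))) hc
    exact (Fact.out : p.Prime).ne_one ((Nat.coprime_self p).1 this)

end Lift

section Eigen

variable {ι : Type} [Fintype ι] [DecidableEq ι] {F : Type*} [Field F]

theorem eigen_of_fix {g u : GL ι F} {τ : F ≃+* F} (hfix : g * galGL τ u * g⁻¹ = u) {v w : ι → F}
    (hw : w ≠ 0) (hu : (u : Matrix ι ι F) = 1 + Matrix.vecMulVec v w) :
    ∃ l : F, (g : Matrix ι ι F) *ᵥ (τ ∘ v) = l • v := by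
  obtain ⟨i, hi⟩ := Function.ne_iff.1 hw
  simp only [Pi.zero_apply] at hi
  set y : ι → F := Pi.single i 1 with hy
  have huy : ∀ z : ι → F, (u : Matrix ι ι F) *ᵥ z = z + (w ⬝ᵥ z) • v := fun z => by
    rw [hu, Matrix.add_mulVec, Matrix.one_mulVec, Matrix.vecMulVec_mulVec]
    ext a; simp [mul_comm]
  rw [mul_inv_eq_iff_eq_mul] at hfix
  have h1 := congrArg (fun a : GL ι F => (a : Matrix ι ι F) *ᵥ (τ ∘ y)) hfix
  simp only [Units.val_mul, ← Matrix.mulVec_mulVec, galGL_mulVec, huy] at h1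
  have hsplit : τ ∘ (y + (w ⬝ᵥ y) • v) = τ ∘ y + τ (w i) • (τ ∘ v) := by
    funext a; simp [hy]
  rw [hsplit, Matrix.mulVec_add, Matrix.mulVec_smul, add_right_inj] at h1
  refine ⟨(τ (w i))⁻¹ * (w ⬝ᵥ (g : Matrix ι ι F) *ᵥ (τ ∘ y)), ?_⟩
  rw [mul_smul, ← h1, smul_smul, inv_mul_cancel₀ (by simpa using hi), one_smul]

theorem eq_scal_of_diag [Nonempty ι] {g : GL ι F} {a : F}
    (h : ∀ i, (g : Matrix ι ι F) *ᵥ Pi.single i 1 = a • (Pi.single i 1 : ι → F)) :
    ∃ u : Fˣ, (u : F) = a ∧ g = scal u := by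
  have hg : (g : Matrix ι ι F) = a • 1 := Matrix.ext_of_mulVec_single fun i => by
    rw [h, Matrix.smul_mulVec, Matrix.one_mulVec]
  have ha : a ≠ 0 := fun h0 => g.ne_zero (by rw [hg, h0, zero_smul])
  exact ⟨Units.mk0 a ha, rfl, Units.ext (by rw [hg, scal_coe]; rfl)⟩

variable {F₀ : Type*} [Field F₀]

theorem fix_of_eigen [Nontrivial ι] (e : F₀ →+* F) (k g : GL ι F) (τ : F ≃+* F)
    (heig : ∀ v : ι → F₀, ∃ l : F,
      (g : Matrix ι ι F) *ᵥ (τ ∘ ((k : Matrix ι ι F) *ᵥ (e ∘ v))) = l • ((k : Matrix ι ι F) *ᵥ (e ∘ v))) :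
    (∀ c, τ (e c) = e c) ∧ ∃ a : Fˣ, g = scal a * (k * (galGL τ k)⁻¹) := by
  set g' : GL ι F := k⁻¹ * g * galGL τ k with hg'
  have heig' : ∀ v : ι → F₀, ∃ l : F, (g' : Matrix ι ι F) *ᵥ (τ ∘ (e ∘ v)) = l • (e ∘ v) := fun v => by
    obtain ⟨l, hl⟩ := heig v
    refine ⟨l, ?_⟩
    rw [hg', Units.val_mul, Units.val_mul, ← Matrix.mulVec_mulVec, galGL_mulVec,
      ← Matrix.mulVec_mulVec, hl, Matrix.mulVec_smul, Matrix.mulVec_mulVec, ← Units.val_mul,
      inv_mul_cancel, Units.val_one, Matrix.one_mulVec]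
  have hsing : ∀ i (c : F₀), τ ∘ (e ∘ (Pi.single i c : ι → F₀)) = Pi.single i (τ (e c)) := fun i c => by
    funext a; simp [Pi.single_apply, apply_ite e, apply_ite τ]
  have hesing : ∀ i (c : F₀), e ∘ (Pi.single i c : ι → F₀) = Pi.single i (e c) := fun i c => by
    funext a; simp [Pi.single_apply, apply_ite e]
  have hd : ∀ i, ∃ d : F, (g' : Matrix ι ι F) *ᵥ Pi.single i 1 = d • (Pi.single i 1 : ι → F) := fun i => by
    obtain ⟨l, hl⟩ := heig' (Pi.single i 1)
    rw [hsing, hesing, map_one, map_one] at hl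
    exact ⟨l, hl⟩
  choose d hd using hd
  have hrel : ∀ i j, i ≠ j → ∀ c : F₀, d j * τ (e c) = d i * e c := by
    intro i j hij c
    obtain ⟨l, hl⟩ := heig' (Pi.single i 1 + Pi.single j c)
    have e1 : e ∘ (Pi.single i 1 + Pi.single j c : ι → F₀) = Pi.single i 1 + e c • Pi.single j 1 := by
      funext a; simp [Pi.single_apply, apply_ite e]
    have e2 : τ ∘ (e ∘ (Pi.single i 1 + Pi.single j c : ι → F₀)) =
        Pi.single i 1 + τ (e c) • Pi.single j 1 := by
      rw [e1]; funext a; simp [Pi.single_apply, apply_ite τ]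
    rw [e2, e1, Matrix.mulVec_add, Matrix.mulVec_smul, hd, hd] at hl
    have c1 := congrFun hl i
    have c2 := congrFun hl j
    simp [hij, Ne.symm hij] at c1 c2
    rw [c1]
    linear_combination c2
  have hconst : ∀ i j, d i = d j := fun i j => by
    rcases eq_or_ne i j with rfl | hij
    · rfl
    · simpa using (hrel i j hij 1).symm
  obtain ⟨i, j, hij⟩ := exists_pair_ne ι
  obtain ⟨a, ha, hga⟩ := eq_scal_of_diag (g := g') (a := d i) fun l => by rw [hd, hconst l i]
  refine ⟨fun c => ?_, a, ?_⟩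
  · have h := hrel i j hij c
    rw [hconst j i] at h
    exact mul_left_cancel₀ (by rw [← ha]; exact a.ne_zero) h
  · rw [← mul_assoc, FieldAut.scal_comm, mul_assoc, ← hga, hg']
    group

theorem fix_of_eigen_herm {n q₀ : ℕ} [Fintype F₀] (hF₀ : Fintype.card F₀ = q₀ ^ 2) (hn : 3 ≤ n)
    (e : F₀ →+* F) (g : GL (Fin n) F) (τ : F ≃+* F)
    (heig : ∀ i j : Fin n, i ≠ j → ∀ t : F₀, t ^ (q₀ + 1) = -1 → ∃ l : F,
      (g : Matrix (Fin n) (Fin n) F) *ᵥ (Pi.single i 1 + τ (e t) • Pi.single j 1) =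
        l • (Pi.single i 1 + e t • Pi.single j 1)) :
    (∀ c, τ (e c) = e c) ∧ ∃ a : Fˣ, g = scal a := by
  classical
  haveI : Nonempty (Fin n) := ⟨⟨0, by omega⟩⟩
  obtain ⟨a, b, -, ha, hb, -, hab, -, -⟩ := FieldAut.exists_three_norm_neg_one (q := q₀) hF₀
  have hoff : ∀ k i : Fin n, k ≠ i → g.1 k i = 0 := by
    intro k i hki
    obtain ⟨j, hjk, hji⟩ : ∃ j : Fin n, j ≠ k ∧ j ≠ i := by
      by_contra! hall
      have hsub : (Finset.univ : Finset (Fin n)) ⊆ {k, i} := fun x _ => by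
        rw [Finset.mem_insert, Finset.mem_singleton]
        by_cases hx : x = k
        · exact Or.inl hx
        · exact Or.inr (hall x hx)
      have h1 := Finset.card_le_card hsub
      rw [Finset.card_univ, Fintype.card_fin] at h1
      have h2 : ({k, i} : Finset (Fin n)).card ≤ 2 := Finset.card_le_two
      omega
    obtain ⟨l, hl⟩ := heig i j hji.symm a ha
    obtain ⟨l', hl'⟩ := heig i j hji.symm b hb
    have h1 := congrFun hl k
    have h2 := congrFun hl' k
    simp [Matrix.mulVec_add, Matrix.mulVec_smul, hki, hjk.symm] at h1 h2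
    have h3 : g.1 k j * (τ (e a) - τ (e b)) = 0 := by linear_combination h1 - h2
    have h4 := (mul_eq_zero.1 h3).resolve_right
      (sub_ne_zero.2 fun h => hab (e.injective (τ.injective h)))
    rw [h4, mul_zero, add_zero] at h1
    exact h1
  have hrel : ∀ i j : Fin n, i ≠ j → ∀ t : F₀, t ^ (q₀ + 1) = -1 →
      τ (e t) * g.1 j j = g.1 i i * e t := by
    intro i j hij t ht
    obtain ⟨l, hl⟩ := heig i j hij t ht
    have hi := congrFun hl i
    have hj := congrFun hl j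
    simp [Matrix.mulVec_add, Matrix.mulVec_smul, hij, hij.symm, hoff i j hij, hoff j i hij.symm]
      at hi hj
    rw [hi]; exact hj
  have hne : ∀ i, g.1 i i ≠ 0 := fun i h0 => g.det_ne_zero
    (Matrix.det_eq_zero_of_column_eq_zero i fun k => by
      rcases eq_or_ne k i with rfl | hk
      · exact h0
      · exact hoff k i hk)
  have ha0 : e a ≠ 0 := fun h => by
    rw [(map_eq_zero e).1 h, zero_pow (Nat.succ_ne_zero q₀)] at ha
    simp at ha
  have hconst : ∀ i j : Fin n, g.1 i i = g.1 j j := by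
    intro i j
    rcases eq_or_ne i j with rfl | hij
    · rfl
    obtain ⟨k, hki, hkj⟩ : ∃ k : Fin n, k ≠ i ∧ k ≠ j := by
      by_contra! hall
      have hsub : (Finset.univ : Finset (Fin n)) ⊆ {i, j} := fun x _ => by
        rw [Finset.mem_insert, Finset.mem_singleton]
        by_cases hx : x = i
        · exact Or.inl hx
        · exact Or.inr (hall x hx)
      have h1 := Finset.card_le_card hsub
      rw [Finset.card_univ, Fintype.card_fin] at h1
      have h2 : ({i, j} : Finset (Fin n)).card ≤ 2 := Finset.card_le_two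
      omega
    have e1 := hrel i k hki.symm a ha
    have e2 := hrel j k hkj.symm a ha
    exact mul_right_cancel₀ ha0 (e1.symm.trans e2)
  let i0 : Fin n := ⟨0, by omega⟩
  let i1 : Fin n := ⟨1, by omega⟩
  have hfix : ∀ t : F₀, t ^ (q₀ + 1) = -1 → τ (e t) = e t := fun t ht => by
    have h := hrel i0 i1 (by simp [i0, i1, Fin.ext_iff]) t ht
    rw [hconst i1 i0, mul_comm (g.1 i0 i0)] at h
    exact mul_right_cancel₀ (hne i0) h
  refine ⟨fun c => ?_, ?_⟩
  · have hnorm : ∀ w : F₀, w ^ (q₀ + 1) = 1 → τ (e w) = e w := fun w hw => by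
      have h := hfix (a * w) (by rw [mul_pow, ha, hw, mul_one])
      rw [map_mul, map_mul, hfix a ha] at h
      exact mul_left_cancel₀ ha0 h
    let K := RingHom.eqLocusField ((τ : F →+* F).comp e) e
    have hK : (q₀ + 1) + 1 ≤ Nat.card K := by
      let U := (powMonoidHom (q₀ + 1) : F₀ˣ →* F₀ˣ).ker
      have hU : Nat.card U = q₀ + 1 := by
        rw [IsCyclic.card_powMonoidHom_ker, Unitary.card_units hF₀,
          Nat.gcd_eq_right (Unitary.q_succ_dvd q₀)]
      let f : Option U → K := fun o => o.elim 0 fun u =>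
        ⟨(u.1 : F₀), hnorm _ (by simpa using congrArg Units.val u.2)⟩
      have hf : Function.Injective f := by
        rintro (_ | u) (_ | w) h
        · rfl
        · exact absurd (congrArg Subtype.val h).symm w.1.ne_zero
        · exact absurd (congrArg Subtype.val h) u.1.ne_zero
        · exact congrArg some (Subtype.ext (Units.ext (congrArg Subtype.val h :)))
      have := Nat.card_le_card_of_injective f hf
      rwa [Finite.card_option, hU] at this
    have hpow := Module.natCard_eq_pow_finrank (K := K) (V := F₀)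
    rw [Nat.card_eq_fintype_card (α := F₀), hF₀] at hpow
    have hr1 : Module.finrank K F₀ = 1 := by
      by_contra hne1
      have hpos : 0 < Module.finrank K F₀ := Module.finrank_pos
      have h2 : Nat.card K ^ 2 ≤ q₀ ^ 2 := hpow ▸ Nat.pow_le_pow_right Nat.card_pos (by omega)
      have h3 := (Nat.pow_le_pow_iff_left two_ne_zero).1 h2
      omega
    rw [hr1, pow_one] at hpow
    have htop : (K : Set F₀) = Set.univ := Set.eq_of_subset_of_ncard_le (Set.subset_univ _) (by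
      rw [Set.ncard_univ, ← Nat.card_coe_set_eq, Nat.card_eq_fintype_card (α := F₀), hF₀, hpow]
      exact le_rfl)
    exact (htop ▸ Set.mem_univ c : c ∈ (K : Set F₀))
  · obtain ⟨u, -, hu⟩ := eq_scal_of_diag (g := g) (a := g.1 i0 i0) fun i => by
      funext k
      rw [Matrix.mulVec_single_one, Pi.smul_apply, smul_eq_mul]
      rcases eq_or_ne k i with rfl | hk
      · simp [hconst k i0]
      · simp [hoff k i hk, hk]
    exact ⟨u, hu⟩

end Eigen

end Cfsg.Agent.LocalBalance
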