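import Cfsg.Agent.Lib.LocalBalance.FieldStd
import Cfsg.Agent.Lib.LocalBalance.Lift

/-!
# Standard involutory field automorphisms of even-dimensional orthogonal groups

* `exists_omega_invol` : an involution of `Ω` that is not central
* `crit_field_two` : `Crit` at `2` for `phiP`
-/

set_option autoImplicit false
set_option linter.unusedSectionVars false

namespace Cfsg.Agent.LocalBalance

open Cfsg Matrix Module Cfsg.Agent.Orth
open Cfsg.Agent.FieldAut (galGL mapGL omMat omMat_injective CoeffFixed indAut)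
open QuadraticMap (polar)

variable {ι : Type} [Fintype ι] [DecidableEq ι] {F : Type*} [Field F] [Fintype F]

theorem exists_omega_invol {Q : QuadraticForm F (ι → F)} (H : AutPOmega.Base Q) (h2 : (2 : F) ≠ 0) :
    ∃ (h : IsoGrp Q) (x y : ι → F), h ∈ Omega F ⇑Q ∧ h * h = 1 ∧ x ≠ 0 ∧ y ≠ 0 ∧
      ap h x = -x ∧ ap h y = y := by
  classical
  have h7 := H.seven
  obtain ⟨e1, f1, h1⟩ := exists_hpair H.nd (by omega)
  obtain ⟨e2, f2, hp2, he2, hf2, -, hd⟩ := AutPOmega.exists_two_hpairs H h1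
  obtain ⟨ha, hb⟩ := mem_perp.1 he2
  obtain ⟨hc, hd'⟩ := mem_perp.1 hf2
  have hQ1 : Q (e1 + f1) = 1 := by rw [Q_add, h1.qe, h1.qf, h1.pf]; ring
  have hQ2 : Q (e1 - f1) = -1 := by
    rw [sub_eq_add_neg, Q_add, h1.qe, QuadraticMap.map_neg, h1.qf, pl_neg_right, h1.pf]; ring
  have hQ3 : Q (e2 + f2) = 1 := by rw [Q_add, hp2.qe, hp2.qf, hp2.pf]; ring
  have hQ4 : Q (e2 - f2) = -1 := by
    rw [sub_eq_add_neg, Q_add, hp2.qe, QuadraticMap.map_neg, hp2.qf, pl_neg_right, hp2.pf]; ring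
  have n1 : Q (e1 + f1) ≠ 0 := by rw [hQ1]; exact one_ne_zero
  have n2 : Q (e1 - f1) ≠ 0 := by rw [hQ2]; exact neg_ne_zero.2 one_ne_zero
  have n3 : Q (e2 + f2) ≠ 0 := by rw [hQ3]; exact one_ne_zero
  have n4 : Q (e2 - f2) ≠ 0 := by rw [hQ4]; exact neg_ne_zero.2 one_ne_zero
  set h := refl Q (e1 + f1) * (refl Q (e1 - f1) * (refl Q (e2 + f2) * refl Q (e2 - f2))) with hh
  have hap : ∀ x, ap h x = x - (2 : F) • (polar ⇑Q f1 x • e1 + polar ⇑Q e1 x • f1)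
      - (2 : F) • (polar ⇑Q f2 x • e2 + polar ⇑Q e2 x • f2) := by
    intro x
    rw [hh, ap_mul, ap_mul, ap_mul]
    simp only [refl_ap, hQ1, hQ2, hQ3, hQ4, inv_one, inv_neg, one_mul, neg_mul]
    simp only [pl_add_left, pl_sub_left, pl_add_right, pl_sub_right, pl_smul_right, pl_self, ha, hb, hc,
      hd', h1.qe, h1.qf, hp2.qe, hp2.qf, h1.pf, hp2.pf, pl_comm Q f1 e1, pl_comm Q f2 e2,
      pl_comm Q e2 e1, pl_comm Q e2 f1, pl_comm Q f2 e1, pl_comm Q f2 f1]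
    match_scalars <;> field_simp <;> ring
  refine ⟨h, e1, ?_⟩
  have hmem : h ∈ Omega F ⇑Q := by
    rw [mem_omega_iff (Good.of_card H.nd (.inr (by omega))), hh]
    constructor
    · rw [dick_refl_mul H.nd _ n1, dick_refl_mul H.nd _ n2, dick_refl_mul H.nd _ n3,
        dick_refl H.nd n4]
      norm_num
    · rw [spin_refl_mul H.nd _ n1, spin_refl_mul H.nd _ n2, spin_refl_mul H.nd _ n3,
        spin_refl H.nd n4, hQ1, hQ2, hQ3, hQ4, map_one, one_mul, one_mul, ← map_mul, neg_one_mul,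
        neg_neg, map_one]
  obtain ⟨w, hw, hw0⟩ : ∃ w ∈ perp Q e1 f1 ⊓ perp Q e2 f2, w ≠ 0 :=
    Submodule.exists_mem_ne_zero_of_ne_bot fun e => by
      rw [e, finrank_bot] at hd
      omega
  obtain ⟨hw1, hw1'⟩ := mem_perp.1 hw.1
  obtain ⟨hw2, hw2'⟩ := mem_perp.1 hw.2
  refine ⟨w, hmem, ext_ap fun x => ?_, h1.ne_zero, hw0, ?_, ?_⟩
  · rw [ap_mul, hap, hap, ap_one]
    simp only [pl_add_right, pl_sub_right, pl_smul_right, pl_self, ha, hb, hc, hd', h1.qe, h1.qf,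
      hp2.qe, hp2.qf, h1.pf, hp2.pf, pl_comm Q f1 e1, pl_comm Q f2 e2, pl_comm Q e2 e1,
      pl_comm Q e2 f1, pl_comm Q f2 e1, pl_comm Q f2 f1]
    match_scalars <;> ring
  · rw [hap, pl_self, h1.qe, pl_comm Q f1 e1, h1.pf, pl_comm Q e2 e1, ha, pl_comm Q f2 e1, hc]
    match_scalars <;> ring
  · rw [hap, hw1, hw1', hw2, hw2']
    simp

variable {F₀ : Type*} [Field F₀] [Fintype F₀] {e : F₀ →+* F}
variable {Q : QuadraticForm F (ι → F)} {Q₀ : QuadraticForm F₀ (ι → F₀)}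
variable (hem : ∀ v, Q (e ∘ v) = e (Q₀ v))
include hem
variable {σ : F ≃+* F}

theorem crit_field_two (H : AutPOmega.Base Q) (hnd₀ : Q₀.polarBilin.Nondegenerate)
    (hfix : ∀ x, σ (e x) = e x) (hrange : ∀ x, σ x = x → x ∈ Set.range e)
    (hσQ : CoeffFixed ⇑Q σ) (h2 : (2 : F₀) ≠ 0) (hσ : σ ^ 2 = 1) :
    Crit 2 (OrthEven.phiP hσQ) ∧ ¬ Nat.Coprime 2 (Nat.card (fixK (OrthEven.phiP hσQ))) := by
  classical
  have hn5 : 5 ≤ Fintype.card ι := by have := H.seven; omega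
  have hn : 3 ≤ Fintype.card ι := by omega
  haveI : Nonempty ι := Fintype.card_pos_iff.1 (by omega)
  have hE₀ : eichGen Q₀ ≤ Omega F₀ ⇑Q₀ := eichGen_le_omega hnd₀ hn (.inr hn5)
  have hcen := fun z => mem_center_omega_iff H.nd hn (eichGen_le_omega H.nd hn (.inr hn5)) z
  haveI := isSimple_embP hem H hnd₀
  set Ψ : MulAut ↥(Omega F ⇑Q) :=
    FieldAut.liftAut omMat_injective ⟨galGL σ, FieldAut.keep_gal_om hσQ⟩ with hΨ
  have hΨmat : ∀ a, omMat ⇑Q (Ψ a) = galGL σ (omMat ⇑Q a) := fun a =>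
    FieldAut.mat_liftAut omMat_injective ⟨galGL σ, FieldAut.keep_gal_om hσQ⟩ a
  have hΨfix : ∀ g : IsoGrp Q₀, ∀ h : embQ hem g ∈ Omega F ⇑Q, Ψ ⟨_, h⟩ = ⟨_, h⟩ := fun g h => by
    refine omMat_injective ?_
    rw [hΨmat]
    exact FieldAut.galGL_mapGL e hfix _
  have hS : (embP hem).range ≤ fixS Ψ := by
    rintro _ ⟨t, rfl⟩
    exact mk_mem_fixS (hΨfix t.1 (embQ_omega hem t.2))
  have hnorm : ∀ s ∈ fixS Ψ, ∀ t ∈ (embP hem).range, s * t * s⁻¹ ∈ (embP hem).range := by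
    rintro _ ⟨a, ha, rfl⟩ _ ⟨t, rfl⟩
    obtain ⟨g, hg⟩ := exists_embQ_of_fix hem hrange (a := omMat ⇑Q a) a.1.2
      (by rw [← hΨmat, mem_fixK.1 ha])
    have hg' : embQ hem g = a.1 := hg
    refine ⟨⟨g * t.1 * g⁻¹, (inferInstance : (commutator (IsoGrp Q₀)).Normal).conj_mem _ t.2 _⟩, ?_⟩
    show QuotientGroup.mk _ = QuotientGroup.mk _ * QuotientGroup.mk _ * (QuotientGroup.mk _)⁻¹
    rw [← QuotientGroup.mk_inv, ← QuotientGroup.mk_mul, ← QuotientGroup.mk_mul]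
    congr 1
    refine Subtype.ext ?_
    show embQ hem (g * t.1 * g⁻¹) = _
    rw [map_mul, map_mul, map_inv, hg']
    rfl
  obtain ⟨h₀, x, y, hh₀, hhh, hx, hy, hhx, hhy⟩ := exists_omega_invol (Q := Q₀) ⟨hnd₀, H.seven⟩ h2
  set h : ↥(Omega F ⇑Q) := ⟨embQ hem h₀, embQ_omega hem hh₀⟩ with hhdef
  have hnc : h ∉ Subgroup.center ↥(Omega F ⇑Q) := by
    intro hc
    obtain ⟨c, -, hcx⟩ := (hcen _).1 hc
    have hinj : ∀ {u : ι → F₀}, e ∘ u = 0 → u = 0 := fun {u} hu =>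
      funext fun i => e.injective ((congrFun hu i).trans (map_zero e).symm)
    have e1 : ap (embQ hem h₀) (e ∘ x) = c • (e ∘ x) := hcx _
    have e2 : ap (embQ hem h₀) (e ∘ y) = c • (e ∘ y) := hcx _
    rw [embQ_ap, hhx, show e ∘ (-x) = -(e ∘ x) from funext fun i => map_neg e _] at e1
    rw [embQ_ap, hhy] at e2
    obtain ⟨i, hi⟩ := Function.ne_iff.1 fun h0 => hy (hinj h0)
    obtain ⟨j, hj⟩ := Function.ne_iff.1 fun h0 => hx (hinj h0)
    have k1 : c = -1 := by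
      have := congrFun e1 j
      simp only [Pi.neg_apply, Pi.smul_apply, smul_eq_mul] at this
      exact mul_right_cancel₀ hj (by rw [neg_one_mul]; exact this.symm)
    have k2 := congrFun e2 i
    rw [k1] at k2
    simp only [Pi.smul_apply, smul_eq_mul, neg_one_mul] at k2
    refine hi ((mul_eq_zero.1 (show (2 : F) * (e ∘ y) i = 0 by linear_combination k2)).resolve_left ?_)
    intro h0
    exact h2 (e.injective (by rw [map_ofNat, h0, map_zero]))
  have hh2 : h ^ 2 ∈ Subgroup.center ↥(Omega F ⇑Q) := by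
    rw [show h ^ 2 = 1 from Subtype.ext (by
      rw [SubmonoidClass.coe_pow, pow_two, OneMemClass.coe_one, hhdef, ← map_mul, hhh, map_one])]
    exact one_mem _
  have hrig : ∀ β : MulAut (POmega F ⇑Q), (∀ t, β (embP hem t) = embP hem t) → β ^ 2 = 1 :=
    rigid_std hem H hnd₀ hrange hσQ hσ
  have hrad : 2 ∣ Nat.card (fixS Ψ) → ∀ M ≤ fixS Ψ, (∀ g ∈ fixS Ψ, ∀ a ∈ M, g * a * g⁻¹ ∈ M) →
      (Nat.card M).Coprime 2 → ∀ a ∈ M, ∀ s ∈ fixS Ψ, a * s * a⁻¹ = s := by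
    intro _ M hM hMn hc a ha s hs
    -- an odd subgroup normalised by the simple group centralises it
    have hd : 2 ∣ Nat.card (embP hem).range := by
      have hord : orderOf (QuotientGroup.mk h : POmega F ⇑Q) = 2 :=
        orderOf_eq_prime (by rw [← QuotientGroup.mk_pow]; exact (QuotientGroup.eq_one_iff _).2 hh2)
          fun e' => hnc ((QuotientGroup.eq_one_iff _).1 e')
      rw [← hord]
      exact Subgroup.orderOf_dvd_natCard _ ⟨⟨h₀, hh₀⟩, rfl⟩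
    have hMS : M ⊓ (embP hem).range = ⊥ := rad_of_simple hd inf_le_right
      (fun g hg b hb => ⟨hMn g (hS hg) b hb.1, (embP hem).range.mul_mem ((embP hem).range.mul_mem hg hb.2) ((embP hem).range.inv_mem hg)⟩)
      (Nat.Coprime.coprime_dvd_left (Subgroup.card_dvd_of_le inf_le_left) hc)
    have hcom : ∀ t, MulAut.conj a (embP hem t) = embP hem t := fun t => by
      have h1 : a * embP hem t * a⁻¹ * (embP hem t)⁻¹ ∈ M ⊓ (embP hem).range := by
        refine ⟨?_, (embP hem).range.mul_mem (hnorm a (hM ha) _ ⟨t, rfl⟩) ((embP hem).range.inv_mem ⟨t, rfl⟩)⟩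
        rw [show a * embP hem t * a⁻¹ * (embP hem t)⁻¹ = a * (embP hem t * a⁻¹ * (embP hem t)⁻¹) by group]
        exact M.mul_mem ha (hMn _ (hS ⟨t, rfl⟩) _ (M.inv_mem ha))
      rw [hMS, Subgroup.mem_bot, mul_inv_eq_one] at h1
      exact h1
    have h1 := hrig _ hcom
    rw [← map_pow] at h1
    have ha2 : a ^ 2 = 1 := inj_conj H (h1.trans (map_one MulAut.conj).symm)
    rw [show a = 1 from orderOf_eq_one_iff.1 (Nat.Coprime.eq_one_of_dvd
      (Nat.Coprime.coprime_dvd_left (Subgroup.orderOf_dvd_natCard _ ha) hc)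
      (orderOf_dvd_of_pow_eq_one ha2)), one_mul, inv_one, mul_one]
  obtain ⟨hcrit, hev⟩ := crit_lift (p := 2) Ψ (OrthEven.phiP hσQ) (fun a => rfl) (N := 2)
    (fun z hz => by
      obtain ⟨c, hc, hcx⟩ := (hcen z).1 hz
      refine Subtype.ext (ext_ap fun v => ?_)
      rw [SubmonoidClass.coe_pow, pow_two, ap_mul, hcx, hcx, smul_smul, hc, one_smul,
        OneMemClass.coe_one, ap_one])
    (inj_conj H) ⟨h, hΨfix _ _, hnc⟩ (fun _ => ⟨h, hΨfix _ _, hh2, hnc⟩)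
    hrad (fun β _ hk => hrig β fun t => hk _ (hΨfix t.1 (embQ_omega hem t.2)))
  exact ⟨hcrit, hev dvd_rfl⟩

end Cfsg.Agent.LocalBalance
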