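import Cfsg.Agent.Lib.LocalBalance.LinearInv
import Cfsg.Agent.Lib.AutPSL.GraphOdd

/-!
# Radicals for groups acted on by an isometry group

* `exists_invol_forms`, `rad_forms`
-/

set_option autoImplicit false
set_option linter.unusedSectionVars false

namespace Cfsg.Agent.LocalBalance

open scoped MatrixGroups Matrix
open Cfsg.Agent.FieldAut (scal scal_coe)
open Cfsg.Agent.AutPSL (isoMat mem_isoMat qfOf)

variable {F₀ : Type*} [Field F₀] [Fintype F₀] {m : ℕ}

local notation "G0" => GL (Fin (m + 2)) F₀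
local notation "M0" => Matrix (Fin (m + 2)) (Fin (m + 2)) F₀

theorem exists_invol_forms (hm : 1 ≤ m) (h2 : (2 : F₀) ≠ 0) {H : G0}
    (hH : (H : M0)ᵀ = (H : M0) ∨ (H : M0)ᵀ = -(H : M0)) :
    ∃ h : G0, h ∈ isoMat (H : M0) ∧ (h : M0).det = 1 ∧ h ^ 2 = 1 ∧ ∀ c : F₀ˣ, h ≠ scal c := by
  rcases hH with h | h
  · exact exists_invol_symm h (by omega) h2
  · exact exists_invol_alt (by omega) h2 (AutPSL.alt_of_skew h2 h)

/-- A subgroup corresponding to the isometries of determinant one has trivial core. -/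
theorem rad_forms (hm : 1 ≤ m) (h2 : (2 : F₀) ≠ 0) {H : G0}
    (hH : (H : M0)ᵀ = (H : M0) ∨ (H : M0)ᵀ = -(H : M0)) {X : Type*} [Group X] [Finite X]
    (hinj : Function.Injective (MulAut.conj : X →* MulAut X)) (c : isoMat (H : M0) →* MulAut X)
    (hker : ∀ o, c o = 1 ↔ ∃ u : F₀ˣ, (o : G0) = scal u) (S : Subgroup X)
    (hS : ∀ z, z ∈ S ↔ ∃ o : isoMat (H : M0), ((o : G0) : M0).det = 1 ∧ c o = MulAut.conj z)
    [Fact (Nat.Prime 2)] (hd : 2 ∣ Nat.card S) {M : Subgroup X} (hM : M ≤ S)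
    (hn : ∀ g ∈ S, ∀ a ∈ M, g * a * g⁻¹ ∈ M) (hc : (Nat.card M).Coprime 2) : M = ⊥ := by
  classical
  have hinv : ∀ (o : isoMat (H : M0)), ∀ z ∈ S, c o z ∈ S := by
    intro o z hz
    obtain ⟨o', hd', ho'⟩ := (hS z).1 hz
    refine (hS _).2 ⟨o * o' * o⁻¹, ?_, ?_⟩
    · show (((o : G0) * (o' : G0) * (o : G0)⁻¹ : G0) : M0).det = 1
      rw [Units.val_mul, Units.val_mul, Matrix.det_units_conj]
      exact hd'
    · rw [map_mul, map_mul, map_inv, ho', apply_conj]
  rcases hH with hsym | hskew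
  · let C := (Cfsg.pPrimeCore 2 ↥S).map S.subtype
    have hle : M ≤ C := by
      haveI hMn : (M.subgroupOf S).Normal := ⟨fun b hb g => hn g.1 g.2 _ hb⟩
      have h1 : M.subgroupOf S ≤ Cfsg.pPrimeCore 2 ↥S := Cores.le_pPrimeCore hMn (by
        rwa [Cores.card_subgroupOf hM])
      exact fun b hb => ⟨⟨b, hM hb⟩, h1 hb, rfl⟩
    have hcard : Odd (Nat.card C) := by
      rw [Nat.odd_iff, ← Nat.two_dvd_ne_zero, Cores.card_map_subtype]
      exact Cores.not_dvd_card_pPrimeCore
    let j : Orth.IsoGrp (qfOf (H : M0)) →* isoMat (H : M0) :=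
      (Subgroup.subtype _).codRestrict _ fun o => (mem_iso_qfH hsym h2).1 o.2
    have hC : C = ⊥ := by
      refine core_symm hsym h2 (by omega) hinj (c.comp j) (fun o => ?_) hcard
        (fun o z hzC => ?_) fun z hzC => ?_
      · rw [MonoidHom.comp_apply, hker]
        show (∃ u : F₀ˣ, (o : G0) = scal u) ↔ _
        constructor
        · rintro ⟨u, hu⟩
          refine ⟨u, fun y => ?_⟩
          rw [Orth.ap_apply, hu, scal_coe, Matrix.smul_mulVec, Matrix.one_mulVec]
        · rintro ⟨u, hu⟩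
          obtain ⟨w, -, hw⟩ := eq_scal_of_diag (g := (o : G0)) (a := u) fun i => by
            have := hu (Pi.single i 1)
            rwa [Orth.ap_apply] at this
          exact ⟨w, hw⟩
      · have hs' : ∀ y ∈ S, (c (j o)).symm y ∈ S := fun y hy => by
          show (c (j o))⁻¹ y ∈ S
          rw [← map_inv]
          exact hinv _ y hy
        let φ : MulAut ↥S :=
          { toFun := fun y => ⟨c (j o) y.1, hinv _ _ y.2⟩
            invFun := fun y => ⟨(c (j o)).symm y.1, hs' _ y.2⟩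
            left_inv := fun y => Subtype.ext ((c (j o)).symm_apply_apply _)
            right_inv := fun y => Subtype.ext ((c (j o)).apply_symm_apply _)
            map_mul' := fun y y' => Subtype.ext (map_mul (c (j o)) _ _) }
        obtain ⟨w, hw, rfl⟩ := hzC
        haveI hch : (Cfsg.pPrimeCore 2 ↥S).Characteristic := inferInstance
        refine ⟨φ w, ?_, rfl⟩
        rw [← (Subgroup.characteristic_iff_comap_eq.1 hch φ)] at hw
        exact hw
      · obtain ⟨w, -, rfl⟩ := hzC
        obtain ⟨o, -, ho⟩ := (hS _).1 w.2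
        exact ⟨⟨o.1, (mem_iso_qfH hsym h2).2 o.2⟩, ho⟩
    exact le_bot_iff.1 (hC ▸ hle)
  · have halt := AutPSL.alt_of_skew h2 hskew
    obtain ⟨l, hl⟩ : Even (m + 2) := by
      rw [← Nat.not_odd_iff_even]
      exact fun ho => AutPSL.not_skew_odd h2 ho hskew
    let T := S.map (MulAut.conj : X →* MulAut X)
    have hTle : T ≤ c.range := by
      rintro _ ⟨z, hz, rfl⟩
      obtain ⟨o, -, ho⟩ := (hS z).1 hz
      exact ⟨o, ho⟩
    have hTne : T ≠ ⊥ := fun h0 => by
      rw [Subgroup.map_eq_bot_iff_of_injective _ hinj] at h0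
      rw [h0, Subgroup.card_bot] at hd
      exact absurd (Nat.le_of_dvd one_pos hd) (by norm_num)
    haveI : IsSimpleGroup c.range := simple_image_alt halt h2 (l := l) (by omega) (by omega) c
      (fun b u hb => (hker b).2 ⟨u, hb⟩) fun h0 => hTne (le_bot_iff.1 (h0 ▸ hTle))
    have hTn : (T.subgroupOf c.range).Normal := ⟨by
      rintro ⟨_, hy⟩ ⟨w, hw, e⟩ ⟨_, ⟨b, rfl⟩⟩
      refine ⟨c b w, hinv b w hw, ?_⟩
      show MulAut.conj (c b w) = _
      rw [← apply_conj, e]
      rfl⟩
    have hTtop : c.range ≤ T := by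
      rcases (Subgroup.Normal.eq_bot_or_eq_top (H := T.subgroupOf c.range) hTn) with h0 | h0
      · exact absurd (disjoint_self.1 ((Subgroup.subgroupOf_eq_bot.1 h0).mono_right hTle)) hTne
      · exact Subgroup.subgroupOf_eq_top.1 h0
    haveI : IsSimpleGroup S :=
      ((S.equivMapOfInjective _ hinj).trans
        (MulEquiv.subgroupCongr (le_antisymm hTle hTtop))).isSimpleGroup
    exact rad_of_simple hd hM hn hc

end Cfsg.Agent.LocalBalance
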