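import Cfsg.Agent.Lib.LocalBalance.GraphPiece

/-!
# The eigenspaces of a self-adjoint similarity

* `eigW g e` : the eigenspace
* `eigPiece` : the eigenspace as a `Piece`, when `g² = e²`
-/

set_option autoImplicit false
set_option linter.unusedSectionVars false

namespace Cfsg.Agent.LocalBalance

open Cfsg Matrix Module Cfsg.Agent.Orth Cfsg.Agent.OrthOuter
open QuadraticMap (polar)

variable {ι : Type} [Fintype ι] [DecidableEq ι] {F : Type*} [Field F] [Fintype F]
variable {Q : QuadraticForm F (ι → F)} {g : Sim Q} {e : F}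

/-- An eigenspace. -/
def eigW (g : Sim Q) (e : F) : Submodule F (ι → F) := LinearMap.ker (sap g - e • LinearMap.id)

theorem mem_eigW {x : ι → F} : x ∈ eigW g e ↔ sap g x = e • x := by simp [eigW, sub_eq_zero]

/-- The projection to an eigenspace. -/
def eigP (g : Sim Q) (e : F) : (ι → F) →ₗ[F] (ι → F) := (2 * e)⁻¹ • (sap g + e • LinearMap.id)

theorem eigP_apply (x : ι → F) : eigP g e x = (2 * e)⁻¹ • (sap g x + e • x) := rfl

theorem eigP_mem (hgg : ∀ x, sap g (sap g x) = (e * e) • x) (x : ι → F) :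
    eigP g e x ∈ eigW g e := by
  rw [mem_eigW, eigP_apply, map_smul, map_add, map_smul, hgg]
  module

theorem eigP_of_mem (h2 : (2 : F) ≠ 0) (he : e ≠ 0) {x : ι → F} (hx : x ∈ eigW g e) :
    eigP g e x = x := by
  rw [eigP_apply, mem_eigW.1 hx, ← two_smul F, smul_smul, smul_smul, mul_assoc,
    inv_mul_cancel₀ (mul_ne_zero h2 he), one_smul]

theorem polar_eigP (h2 : (2 : F) ≠ 0) (he : e ≠ 0)
    (hsa : ∀ x y, polar ⇑Q (sap g x) y = polar ⇑Q x (sap g y)) {w : ι → F} (hw : w ∈ eigW g e)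
    (x : ι → F) : polar ⇑Q w (eigP g e x) = polar ⇑Q w x := by
  rw [eigP_apply, pl_smul_right, pl_add_right, ← hsa, mem_eigW.1 hw, pl_smul_left, pl_smul_right]
  field_simp
  ring

theorem ap_mem_eigW {a : IsoGrp Q} (ha : a ∈ Cg g) {x : ι → F} (hx : x ∈ eigW g e) :
    ap a x ∈ eigW g e := by
  rw [mem_eigW, ← mem_Cg_iff.1 ha, mem_eigW.1 hx, map_smul]

theorem sap_eigP (x : ι → F) : eigP g e (sap g x) = sap g (eigP g e x) := by
  rw [eigP_apply, eigP_apply, map_smul, map_add, map_smul]

/-- A self-adjoint eigenspace as a piece. -/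
theorem exists_eigPiece (hQ : Q.polarBilin.Nondegenerate) (hE : eichGen Q ≤ Omega F ⇑Q)
    (h2 : (2 : F) ≠ 0) (he : e ≠ 0) (hgg : ∀ x, sap g (sap g x) = (e * e) • x)
    (hsa : ∀ x y, polar ⇑Q (sap g x) y = polar ⇑Q x (sap g y)) :
    ∃ P : Piece g F, P.r = finrank F (eigW g e) ∧
      ∀ x ∈ eigW g e, ∃ v, P.D.j v = x := by
  classical
  set W := eigW g e with hW
  set r := finrank F W
  let b : (Fin r → F) ≃ₗ[F] W := (finBasis F W).equivFun.symm
  let L : (Fin r → F) →ₗ[F] (ι → F) := W.subtype ∘ₗ b.toLinearMap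
  let R : (ι → F) →ₗ[F] (Fin r → F) :=
    b.symm.toLinearMap ∘ₗ (eigP g e).codRestrict W fun x => eigP_mem hgg x
  have hLmem : ∀ v, L v ∈ W := fun v => (b v).2
  have hLR : ∀ x, L (R x) = eigP g e x := fun x => by simp [L, R]
  have hLinj : Function.Injective L := W.subtype_injective.comp b.injective
  have hRL : ∀ v, R (L v) = v := fun v => hLinj (by rw [hLR, eigP_of_mem h2 he (hLmem v)])
  have hLRW : ∀ x ∈ W, L (R x) = x := fun x hx => by rw [hLR, eigP_of_mem h2 he hx]
  set form : QuadraticForm F (Fin r → F) := Q.comp L with hform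
  have hf : ∀ v, form v = Q (L v) := fun v => rfl
  have hfp : ∀ u v, polar ⇑form u v = polar ⇑Q (L u) (L v) := fun u v => by
    simp [polar, hf, map_add]
  have hnd : form.polarBilin.Nondegenerate := by
    have hl : ∀ u, (∀ v, polar ⇑form u v = 0) → u = 0 := fun u hu => hLinj <| by
      rw [map_zero]
      refine hQ.1 _ fun y => ?_
      show polar ⇑Q (L u) y = 0
      rw [← polar_eigP h2 he hsa (hLmem u), ← hLR, ← hfp]
      exact hu _
    exact ⟨fun u hu => hl u hu, fun u hu => hl u fun v => by rw [pl_comm]; exact hu v⟩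
  let M : ↥(Cg g) →* Matrix (Fin r) (Fin r) F :=
    { toFun := fun a => LinearMap.toMatrix' (R ∘ₗ ap (a : IsoGrp Q) ∘ₗ L)
      map_one' := by
        rw [← LinearMap.toMatrix'_id]
        congr 1
        exact LinearMap.ext fun v => by simp [Orth.ap_one, hRL]
      map_mul' := fun a c => by
        rw [← LinearMap.toMatrix'_comp]
        congr 1
        refine LinearMap.ext fun v => ?_
        simp only [LinearMap.comp_apply, Subgroup.coe_mul, Orth.ap_mul]
        rw [hLRW _ (ap_mem_eigW c.2 (hLmem v))] }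
  have hMv : ∀ (a : ↥(Cg g)) v, M a *ᵥ v = R (ap (a : IsoGrp Q) (L v)) := fun a v =>
    LinearMap.toMatrix'_mulVec _ v
  let hom : ↥(Cg g) →* IsoGrp form := isoHom M fun a v => by
    rw [hMv, hf, hf, hLRW _ (ap_mem_eigW a.2 (hLmem v)), Q_ap]
  have hap : ∀ (a : ↥(Cg g)) v, ap (hom a) v = R (ap (a : IsoGrp Q) (L v)) := fun a v => hMv a v
  let ext' : IsoGrp form →* Matrix ι ι F :=
    { toFun := fun o => LinearMap.toMatrix' (LinearMap.id + L ∘ₗ (ap o - LinearMap.id) ∘ₗ R)
      map_one' := by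
        rw [← LinearMap.toMatrix'_id]
        congr 1
        exact LinearMap.ext fun v => by simp [Orth.ap_one]
      map_mul' := fun o o' => by
        rw [← LinearMap.toMatrix'_comp]
        congr 1
        refine LinearMap.ext fun x => ?_
        simp only [LinearMap.comp_apply, LinearMap.add_apply, LinearMap.sub_apply, LinearMap.id_apply,
          Orth.ap_mul, map_add, map_sub, hRL]
        abel }
  have hext : ∀ o x, ext' o *ᵥ x = x + L (ap o (R x) - R x) := fun o x =>
    LinearMap.toMatrix'_mulVec _ x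
  let E : IsoGrp form →* IsoGrp Q := isoHom ext' fun o x => by
    rw [hext, Q_add]
    have h1 : form (ap o (R x)) = form (R x) := Q_ap o _
    set z := ap o (R x) - R x with hz
    rw [show ap o (R x) = R x + z by rw [hz]; abel, Q_add, hf z, hfp, hLR] at h1
    rw [pl_comm Q x, ← polar_eigP h2 he hsa (hLmem z), pl_comm Q (L z)]
    linear_combination h1
  have hEap : ∀ o x, ap (E o) x = x + L (ap o (R x) - R x) := hext
  have hEg : ∀ o, E o ∈ Cg g := fun o => mem_Cg_iff.2 fun x => by
    have h1 : R (sap g x) = e • R x := hLinj (by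
      rw [map_smul, hLR, hLR, sap_eigP, mem_eigW.1 (eigP_mem hgg x)])
    rw [hEap, hEap, h1, map_add, map_smul, ← smul_sub, map_smul, mem_eigW.1 (hLmem _)]
  let D : Emb form F (ι → F) :=
    { e := RingHom.id F
      j := L.toAddMonoidHom
      B := fun u => Q.polarBilin (L u)
      j_smul := fun c v => L.map_smul c v
      B_j := fun u v => (hfp u v).symm }
  refine ⟨⟨r, form, hnd, D, rfl, hom, fun o => ⟨⟨E o, hEg o⟩, ext_ap fun v => hLinj ?_⟩,
    fun a v => ?_, hLinj, fun u w hu huw => ?_⟩, rfl, fun x hx => ⟨R x, hLRW x hx⟩⟩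
  · rw [hap, hEap, hRL, map_add, hRL, hRL, add_sub_cancel]
  · show ap (a : IsoGrp Q) (L v) = L (ap (hom a) v)
    rw [hap, hLRW _ (ap_mem_eigW a.2 (hLmem v))]
  · rw [hfp] at huw
    rw [hf] at hu
    refine ⟨eich Q (L u) (L w), mem_Cg_iff.2 fun x => ?_, hE (eich_mem_eichGen _ _),
      FieldAut.eich_unipotent hu huw, fun y => eich_ap hu huw y⟩
    rw [eich_ap hu huw, eich_ap hu huw, ← hsa, ← hsa, mem_eigW.1 (hLmem u), mem_eigW.1 (hLmem w),
      pl_smul_left, pl_smul_left]
    simp only [map_add, map_sub, map_smul, mem_eigW.1 (hLmem u), mem_eigW.1 (hLmem w)]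
    module

end Cfsg.Agent.LocalBalance
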