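import Cfsg.Agent.Lib.LocalBalance.GraphPiece
import Mathlib.Algebra.QuadraticAlgebra.Basic

/-!
# A self-adjoint similarity with non-square square

* `quad_facts` : `F^ι` is a quadratic space over `F(√l)`, with consequences for the centraliser
-/

set_option autoImplicit false
set_option linter.unusedSectionVars false

namespace Cfsg.Agent.LocalBalance

open Cfsg Matrix Module Cfsg.Agent.Orth Cfsg.Agent.OrthOuter
open Cfsg.Agent.FieldAut (galGL)
open QuadraticMap (polar)

variable {ι : Type} [Fintype ι] [DecidableEq ι] {F : Type*} [Field F] [Fintype F]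
variable {Q : QuadraticForm F (ι → F)} {k : ℕ}

theorem eich_pow {K : Type*} [Field K] {n : ℕ} {P : QuadraticForm K (Fin n → K)} {u w : Fin n → K}
    (hu : P u = 0) (huw : polar ⇑P u w = 0) :
    ∀ i : ℕ, eich P u w ^ i = eich P u ((i : K) • w)
  | 0 => by rw [pow_zero, Nat.cast_zero, zero_smul, eich_zero]
  | i + 1 => by
    rw [pow_succ, eich_pow hu huw i, eich_add hu (by rw [Orth.pl_smul_right, huw, mul_zero]) huw,
      Nat.cast_succ, add_smul, one_smul]

theorem mem_omega_of_pow_odd (hG : Good Q) {a : IsoGrp Q} {c : ℕ} (hc : Odd c) (ha : a ^ c = 1) :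
    a ∈ Omega F ⇑Q := by
  obtain ⟨j, rfl⟩ := hc
  have e : a = a ^ (j + 1) * a ^ (j + 1) := by
    rw [← pow_add, show j + 1 + (j + 1) = 2 * j + 1 + 1 by ring, pow_succ, ha, one_mul]
  rw [e, mem_omega_iff hG, dick_mul hG, spin_mul hG]
  constructor
  · rcases dick_eq_or (a ^ (j + 1)) with h | h <;> rw [h] <;> norm_num
  · rcases spin_eq_or hG (a ^ (j + 1)) with h | h <;> rw [h] <;> norm_num

open QuadraticAlgebra in
theorem quad_facts (h : Ctx Q k) {g : Sim Q} {l : F} (hl : ¬ IsSquare l)
    (hgg : ∀ x, sap g (sap g x) = l • x)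
    (hsa : ∀ x y, polar ⇑Q (sap g x) y = polar ⇑Q x (sap g y)) :
    (∀ M : Subgroup ↥(Cg g), M.Normal → ∀ N : ℕ, Odd N →
      (∀ a ∈ M, ∃ c : F, c * c = 1 ∧ ∀ x, ap ((a : IsoGrp Q) ^ N) x = c • x) →
        ∀ a ∈ M, a * a = 1) ∧
    (∀ (hh : GL ι F) (τ : F ≃+* F), IsSemisimilarityPair ⇑Q hh τ →
      (∀ a : IsoGrp Q, a ∈ Cg g → a ∈ Omega F ⇑Q →
        IsNilpotent (((a : GL ι F) : Matrix ι ι F) - 1) → hh * galGL τ (a : GL ι F) * hh⁻¹ = a) →
      τ = 1 ∧ ∃ t : Fˣ, hh = (OrthOuter.scal Q t : GL ι F) ∨ hh = (OrthOuter.scal Q t * g : Sim Q)) ∧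
    ∃ a : IsoGrp Q, a ∈ Cg g ∧ a ∈ Omega F ⇑Q ∧
      IsNilpotent (((a : GL ι F) : Matrix ι ι F) - 1) ∧ a ≠ 1 := by
  classical
  have hl0 : l ≠ 0 := fun e => hl (e ▸ ⟨0, by simp⟩)
  have h2 := h.two
  haveI : Fact (∀ r : F, r ^ 2 ≠ l + 0 * r) := ⟨fun r hr => hl ⟨r, by
    rw [zero_mul, add_zero] at hr; rw [← hr, pow_two]⟩⟩
  letI : Fintype (QuadraticAlgebra F l 0) := Fintype.ofEquiv _ (equivProd l (0 : F)).symm
  let f : (QuadraticAlgebra F l 0) →ₐ[F] Module.End F (ι → F) := QuadraticAlgebra.lift ⟨sap g, LinearMap.ext fun x => by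
    simp [Module.End.mul_apply, hgg]⟩
  letI : Module (QuadraticAlgebra F l 0) (ι → F) := Module.compHom (ι → F) f.toRingHom
  have hz : ∀ (z : (QuadraticAlgebra F l 0)) (x : ι → F), z • x = z.re • x + z.im • sap g x := fun z x => rfl
  have hF : ∀ (t : F) (x : ι → F), (⟨t, 0⟩ : (QuadraticAlgebra F l 0)) • x = t • x := fun t x => by simp [hz]
  have hC : ∀ (a : ↥(Cg g)) (z : (QuadraticAlgebra F l 0)) (x : ι → F),
      ap (a : IsoGrp Q) (z • x) = z • ap (a : IsoGrp Q) x := fun a z x => by
    rw [hz, hz, map_add, map_smul, map_smul, mem_Cg_iff.1 a.2]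
  have hK2 : (2 : (QuadraticAlgebra F l 0)) ≠ 0 := fun e => h2 (by simpa using congrArg QuadraticAlgebra.re e)
  -- the form over `(QuadraticAlgebra F l 0)`
  let H : (ι → F) →ₗ[(QuadraticAlgebra F l 0)] (ι → F) →ₗ[(QuadraticAlgebra F l 0)] (QuadraticAlgebra F l 0) :=
    LinearMap.mk₂ (QuadraticAlgebra F l 0) (fun x y => ⟨2⁻¹ * polar ⇑Q x y, (2 * l)⁻¹ * polar ⇑Q (sap g x) y⟩)
      (fun x x' y => by ext <;> simp [pl_add_left, mul_add])
      (fun z x y => by
        ext <;> simp only [hz, map_add, map_smul, hgg, pl_add_left, pl_smul_left, smul_eq_mul,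
          re_mul, im_mul] <;> field_simp <;> ring)
      (fun x y y' => by ext <;> simp [pl_add_right, mul_add])
      (fun z x y => by
        ext <;> simp only [hz, pl_add_right, pl_smul_right, ← hsa, hgg, pl_smul_left, smul_eq_mul,
          re_mul, im_mul] <;> field_simp <;> ring)
  let QK : QuadraticForm (QuadraticAlgebra F l 0) (ι → F) := LinearMap.BilinMap.toQuadraticMap H
  have hQKre : ∀ x, (QK x).re = Q x := fun x => by
    show 2⁻¹ * polar ⇑Q x x = Q x
    rw [pl_self, ← mul_assoc, inv_mul_cancel₀ h2, one_mul]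
  have hQK : ∀ (a : ↥(Cg g)) (x : ι → F), QK (ap (a : IsoGrp Q) x) = QK x := fun a x => by
    ext
    · rw [hQKre, hQKre, Q_ap]
    · show (2 * l)⁻¹ * _ = (2 * l)⁻¹ * _
      rw [← mem_Cg_iff.1 a.2, polar_ap]
  haveI : Module.Finite (QuadraticAlgebra F l 0) (ι → F) := Module.Finite.of_finite
  set r := finrank (QuadraticAlgebra F l 0) (ι → F) with hr
  have hrk : r = k := by
    have e1 := Module.natCard_eq_pow_finrank (K := QuadraticAlgebra F l 0) (V := ι → F)
    rw [← hr, Nat.card_fun, Nat.card_congr (equivProd l (0 : F)), Nat.card_prod, ← pow_two,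
      ← pow_mul, Nat.card_eq_fintype_card (α := ι), h.card] at e1
    have := Nat.pow_right_injective (Finite.one_lt_card (α := F)) e1
    omega
  let L : (Fin r → (QuadraticAlgebra F l 0)) ≃ₗ[(QuadraticAlgebra F l 0)] (ι → F) := (finBasis (QuadraticAlgebra F l 0) (ι → F)).equivFun.symm
  set form : QuadraticForm (QuadraticAlgebra F l 0) (Fin r → (QuadraticAlgebra F l 0)) := QK.comp L.toLinearMap with hform
  have hfv : ∀ v, form v = QK (L v) := fun v => rfl
  have hfp : ∀ u v, polar ⇑form u v = polar ⇑QK (L u) (L v) := fun u v => by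
    simp [polar, hfv, map_add]
  have hre : ∀ x y, (polar ⇑QK x y).re = polar ⇑Q x y := fun x y => by
    simp [polar, hQKre]
  have hnd : form.polarBilin.Nondegenerate := by
    have hl' : ∀ u, (∀ v, polar ⇑form u v = 0) → u = 0 := fun u hu => L.injective <| by
      rw [map_zero]
      refine h.nd.1 _ fun y => ?_
      show polar ⇑Q (L u) y = 0
      obtain ⟨v, rfl⟩ := L.surjective y
      rw [← hre, ← hfp, hu]; rfl
    exact ⟨fun u hu => hl' u hu, fun u hu => hl' u fun v => by rw [pl_comm]; exact hu v⟩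
  let M : ↥(Cg g) →* Matrix (Fin r) (Fin r) (QuadraticAlgebra F l 0) :=
    { toFun := fun a => LinearMap.toMatrix'
        { toFun := fun v => L.symm (ap (a : IsoGrp Q) (L v))
          map_add' := fun v w => by simp only [map_add]
          map_smul' := fun z v => by simp only [map_smul, hC, RingHom.id_apply] }
      map_one' := by
        rw [← LinearMap.toMatrix'_id]
        congr 1
        exact LinearMap.ext fun v => by simp [Orth.ap_one]
      map_mul' := fun a c => by
        rw [← LinearMap.toMatrix'_comp]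
        congr 1
        exact LinearMap.ext fun v => by simp [Orth.ap_mul] }
  have hMv : ∀ (a : ↥(Cg g)) v, M a *ᵥ v = L.symm (ap (a : IsoGrp Q) (L v)) := fun a v =>
    LinearMap.toMatrix'_mulVec _ v
  let hom : ↥(Cg g) →* IsoGrp form := isoHom M fun a v => by
    rw [hfv, hfv, hMv, L.apply_symm_apply, hQK]
  have hap : ∀ (a : ↥(Cg g)) v, ap (hom a) v = L.symm (ap (a : IsoGrp Q) (L v)) := fun a v =>
    hMv a v
  let ext' : IsoGrp form →* Matrix ι ι F :=
    { toFun := fun o => LinearMap.toMatrix'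
        { toFun := fun x => L (ap o (L.symm x))
          map_add' := fun v w => by simp only [map_add]
          map_smul' := fun t x => by
            rw [RingHom.id_apply, ← hF t x, map_smul, map_smul, map_smul, hF] }
      map_one' := by
        rw [← LinearMap.toMatrix'_id]
        congr 1
        exact LinearMap.ext fun v => by simp [Orth.ap_one]
      map_mul' := fun o o' => by
        rw [← LinearMap.toMatrix'_comp]
        congr 1
        exact LinearMap.ext fun v => by simp [Orth.ap_mul] }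
  have hext : ∀ o x, ext' o *ᵥ x = L (ap o (L.symm x)) := fun o x =>
    LinearMap.toMatrix'_mulVec _ x
  let E : IsoGrp form →* IsoGrp Q := isoHom ext' fun o x => by
    have h1 := Q_ap (Q := form) o (L.symm x)
    rw [hfv, hfv, L.apply_symm_apply, ← hext] at h1
    rw [← hQKre, h1, hQKre]
  have hEap : ∀ o x, ap (E o) x = L (ap o (L.symm x)) := hext
  have hgs : ∀ x, sap g x = (ω : (QuadraticAlgebra F l 0)) • x := fun x => by simp [hz]
  have hEg : ∀ o, E o ∈ Cg g := fun o => mem_Cg_iff.2 fun x => by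
    rw [hEap, hEap, hgs, hgs, map_smul, map_smul, map_smul]
  let D : Emb form (QuadraticAlgebra F l 0) (ι → F) :=
    { e := RingHom.id (QuadraticAlgebra F l 0)
      j := L.toLinearMap.toAddMonoidHom
      B := fun u => QK.polarBilin (L u)
      j_smul := fun c v => L.map_smul c v
      B_j := fun u v => (hfp u v).symm }
  let c := ringChar F
  haveI : CharP F c := ringChar.charP F
  haveI hcp : Fact c.Prime := ⟨CharP.char_is_prime F c⟩
  have hc2 : c ≠ 2 := fun e => h2 (by
    have := CharP.cast_eq_zero F c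
    rw [e] at this; exact_mod_cast this)
  have hcodd : Odd c := hcp.out.odd_of_ne_two hc2
  haveI : Nonempty ι := Fintype.card_pos_iff.1 (by have := h.five; omega)
  let P : Piece g (QuadraticAlgebra F l 0) :=
    { r := r
      form := form
      nd := hnd
      D := D
      e_eq := rfl
      hom := hom
      surj := fun o => ⟨⟨E o, hEg o⟩, ext_ap fun v => by
        rw [hap, hEap, L.symm_apply_apply, L.symm_apply_apply]⟩
      ap_j := fun a v => by
        show ap (a : IsoGrp Q) (L v) = L (ap (hom a) v)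
        rw [hap, L.apply_symm_apply]
      j_inj := L.injective
      lift := fun u w hu huw => by
        have hpow : E (eich form u w) ^ c = 1 := by
          rw [← map_pow, eich_pow hu huw,
            show (c : (QuadraticAlgebra F l 0)) = 0 by ext <;> simp [CharP.cast_eq_zero F c], zero_smul, eich_zero, map_one]
        refine ⟨E (eich form u w), hEg _, mem_omega_of_pow_odd h.good hcodd hpow, ⟨c, ?_⟩,
          fun y => ?_⟩
        · rw [sub_pow_char_of_commute c (Commute.one_right _), ← Units.val_pow_eq_pow_val,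
            ← SubgroupClass.coe_pow, hpow, one_pow]
          exact sub_self _
        · rw [hEap]
          obtain ⟨v, rfl⟩ := L.surjective y
          rw [L.symm_apply_apply, eich_ap hu huw]
          simp only [Emb.ej, D, LinearMap.toAddMonoidHom_coe, LinearEquiv.coe_coe, RingHom.id_apply,
            QuadraticMap.polarBilin_apply_apply, ← hfp, map_add, map_sub, map_smul] }
  have hr3 : 3 ≤ P.r := by show 3 ≤ r; have := h.three; omega
  have hsurj : ∀ x, ∃ v, P.D.j v = x := fun x => ⟨L.symm x, L.apply_symm_apply x⟩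
  refine ⟨fun S hS N hN hpow a ha => ?_, fun hh τ hs hfix => ?_, P.exists_unipotent hr3⟩
  · refine Subtype.ext (ext_ap fun x => ?_)
    obtain ⟨v, rfl⟩ := hsurj x
    rw [Subgroup.coe_mul, Orth.ap_mul, P.sq_eq_of_normal hK2 hr3 hS hN hpow ha v, Subgroup.coe_one,
      Orth.ap_one]
  obtain ⟨z, hzv⟩ := P.scalar_of_semi hr3 hfix
  have hS : ∀ x, semiMap hh τ x = z • x := fun x => by
    obtain ⟨v, rfl⟩ := hsurj x; exact hzv v
  obtain ⟨v₀, hv₀⟩ := h.exists_ne
  have hv0 : v₀ ≠ 0 := fun e => hv₀ (by rw [e]; exact map_zero Q)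
  have hτ : τ = 1 := RingEquiv.ext fun t => smul_left_injective F (semiMap_ne_zero hh τ hv0) <| by
    show τ t • semiMap hh τ v₀ = t • semiMap hh τ v₀
    rw [← semiMap_smul, hS, hS, ← hF, ← hF, smul_smul, smul_smul, mul_comm]
  subst hτ
  have hx : ∀ x, (hh : Matrix ι ι F) *ᵥ x = z.re • x + z.im • sap g x := fun x => by
    rw [← hz, ← hS]; rfl
  obtain ⟨μ, hμ⟩ := hs
  have hsim : ∀ x, z.re * z.im * polar ⇑Q x (sap g x) = (μ - z.re * z.re - z.im * z.im * l) * Q x := by
    intro x
    have h1 : Q ((hh : Matrix ι ι F) *ᵥ x) = μ * Q x := hμ x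
    have h3 : Q (sap g x) = l * Q x := by
      have h4 : polar ⇑Q (sap g x) (sap g x) = l * polar ⇑Q x x := by
        rw [hsa, hgg, pl_smul_right]
      rw [pl_self, pl_self] at h4
      exact mul_left_cancel₀ h2 (by linear_combination h4)
    rw [hx, Q_add, Q_smul, Q_smul, pl_smul_left, pl_smul_right, h3] at h1
    linear_combination h1
  by_cases him : z.im = 0
  · have hre0 : z.re ≠ 0 := fun e => semiMap_ne_zero hh 1 hv0 (by
      rw [hS, hz, e, him, zero_smul, zero_smul, add_zero])
    refine ⟨rfl, Units.mk0 z.re hre0, .inl (Units.ext (Matrix.ext_of_mulVec_single fun i => ?_))⟩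
    rw [hx, him, zero_smul, add_zero]
    exact (sap_scal (Q := Q) (Units.mk0 z.re hre0) (Pi.single i 1)).symm
  have hre0 : z.re = 0 := by
    by_contra hre0
    set ν := (μ - z.re * z.re - z.im * z.im * l) / (z.re * z.im)
    have hν : ∀ x, polar ⇑Q x (sap g x) = ν * Q x := fun x => by
      rw [div_mul_eq_mul_div, eq_div_iff (mul_ne_zero hre0 him), ← hsim]; ring
    have hg : ∀ x, sap g x = (ν / 2) • x := fun x => sub_eq_zero.1 <| h.nd.1 _ fun y => by
      show polar ⇑Q (sap g x - (ν / 2) • x) y = 0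
      have h1 := hν (x + y)
      rw [map_add, pl_add_left, pl_add_right, pl_add_right, hν, hν, Q_add,
        pl_comm Q y (sap g x), ← hsa x y] at h1
      rw [pl_sub_left, pl_smul_left]
      field_simp
      linear_combination h1
    refine hl ⟨ν / 2, ?_⟩
    have h1 := hgg v₀
    rw [hg, hg, smul_smul] at h1
    exact (smul_left_injective F hv0 h1).symm
  refine ⟨rfl, Units.mk0 z.im him, .inr (Units.ext (Matrix.ext_of_mulVec_single fun i => ?_))⟩
  rw [hx, hre0, zero_smul, zero_add]
  show _ = sap (OrthOuter.scal Q (Units.mk0 z.im him) * g) (Pi.single i 1)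
  rw [OrthOuter.sap_mul, sap_scal]
  rfl

end Cfsg.Agent.LocalBalance
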