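import Cfsg.Agent.Lib.LocalBalance.GraphEigen
import Cfsg.Agent.Lib.LocalBalance.GraphQuad
import Cfsg.Agent.Lib.OrthOuter.Involution
import Cfsg.Agent.Lib.LocalBalance.Orth

/-!
# Involutory graph automorphisms of even-dimensional orthogonal groups

* `crit_two_of_invariant`
* `eigen_facts` : the split case
* `crit_graph` : `Crit` and evenness of the fixed point subgroup
-/

set_option autoImplicit false
set_option linter.unusedSectionVars false

namespace Cfsg.Agent.LocalBalance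

open Cfsg Matrix Module Cfsg.Agent.Orth Cfsg.Agent.OrthOuter
open Cfsg.Agent.FieldAut (galGL)
open QuadraticMap (polar)

theorem crit_two_of_invariant {K : Type*} [Group K] [Finite K] {x : MulAut K}
    (hinj : Function.Injective (MulAut.conj : K →* MulAut K)) (hne : fixK x ≠ ⊥)
    (hcore : ∀ N : Subgroup K, N ≤ fixK x →
      (∀ β : MulAut K, β * x = x * β → ∀ n ∈ N, β n ∈ N) → Odd (Nat.card N) → N = ⊥)
    (hrig : ∀ β : MulAut K, β * x = x * β → (∀ k ∈ fixK x, β k = k) → β ^ 2 = 1) :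
    Crit 2 x ∧ ¬ Nat.Coprime 2 (Nat.card (fixK x)) := by
  have hinv : ∀ β : MulAut K, β * x = x * β → ∀ k ∈ fixK x, β k ∈ fixK x := fun β hβ k hk => by
    rw [mem_fixK, ← MulAut.mul_apply, ← hβ, MulAut.mul_apply, mem_fixK.1 hk]
  have hodd : ∀ {n : ℕ}, n.Coprime 2 → Odd n := fun h => Nat.coprime_two_right.1 h
  refine ⟨⟨hne, hinj, fun _ N hN hn hc => ?_, fun _ β hβ hk => hrig β hβ hk⟩, fun hc => hne ?_⟩
  · set N' := (Cfsg.pPrimeCore 2 ↥(fixK x)).map (fixK x).subtype with hN'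
    have hle : N ≤ N' := by
      intro n hn'
      have hnn : (N.subgroupOf (fixK x)).Normal :=
        ⟨fun a ha b => hn b.1 b.2 a.1 ha⟩
      have h1 : N.subgroupOf (fixK x) ≤ Cfsg.pPrimeCore 2 ↥(fixK x) :=
        Cores.le_pPrimeCore hnn (by rwa [Cores.card_subgroupOf hN])
      exact ⟨⟨n, hN hn'⟩, h1 hn', rfl⟩
    refine le_bot_iff.1 (le_of_le_of_eq hle (hcore N' (Subgroup.map_subtype_le _) ?_ ?_))
    · rintro β hβ _ ⟨k, hk, rfl⟩
      have h2 : ∀ j : fixK x, (β⁻¹ : MulAut K) j.1 ∈ fixK x := fun j =>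
        hinv β⁻¹ (by rw [inv_mul_eq_iff_eq_mul, ← mul_assoc, hβ, mul_inv_cancel_right]) _ j.2
      let e : ↥(fixK x) ≃* ↥(fixK x) :=
        { toFun := fun j => ⟨β j.1, hinv β hβ _ j.2⟩
          invFun := fun j => ⟨(β⁻¹ : MulAut K) j.1, h2 j⟩
          left_inv := fun j => Subtype.ext (β.symm_apply_apply j.1)
          right_inv := fun j => Subtype.ext (β.apply_symm_apply j.1)
          map_mul' := fun a b => Subtype.ext (map_mul β a.1 b.1) }
      exact ⟨e k, Subgroup.characteristic_iff_le_comap.1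
        (Cores.pPrimeCore_characteristic 2 _) e hk, rfl⟩
    · rw [hN', Cores.card_map_subtype]
      exact hodd (Cores.coprime_card_pPrimeCore 2)
  · exact hcore _ le_rfl hinv (hodd hc.symm)

variable {ι : Type} [Fintype ι] [DecidableEq ι] {F : Type*} [Field F] [Fintype F]
variable {Q : QuadraticForm F (ι → F)} {k : ℕ}

theorem finrank_line_eq {W : Submodule F (ι → F)} (hd : finrank F W = 1) :
    ∃ v ∈ W, v ≠ 0 ∧ ∀ x ∈ W, ∃ c : F, x = c • v := by
  obtain ⟨⟨v, hv⟩, hv0, hspan⟩ := finrank_eq_one_iff'.1 hd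
  refine ⟨v, hv, fun e => hv0 (Subtype.ext e), fun x hx => ?_⟩
  obtain ⟨c, hc⟩ := hspan ⟨x, hx⟩
  exact ⟨c, (congrArg Subtype.val hc).symm⟩

/-- The split case. -/
theorem eigen_facts (h : Ctx Q k) {g : Sim Q} {d : F} (hd : d ≠ 0)
    (hgg : ∀ x, sap g (sap g x) = (d * d) • x)
    (hsa : ∀ x y, polar ⇑Q (sap g x) y = polar ⇑Q x (sap g y))
    (hsgn : sgn h.exists_ne k g ≠ 1) :
    (∀ M : Subgroup ↥(Cg g), M.Normal → ∀ N : ℕ, Odd N →
      (∀ a ∈ M, ∃ c : F, c * c = 1 ∧ ∀ x, ap ((a : IsoGrp Q) ^ N) x = c • x) →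
        ∀ a ∈ M, a * a = 1) ∧
    (∀ (hh : GL ι F) (τ : F ≃+* F), IsSemisimilarityPair ⇑Q hh τ →
      (∀ a : IsoGrp Q, a ∈ Cg g → a ∈ Omega F ⇑Q →
        IsNilpotent (((a : GL ι F) : Matrix ι ι F) - 1) → hh * galGL τ (a : GL ι F) * hh⁻¹ = a) →
      τ = 1 ∧ ∃ t : Fˣ, hh = (OrthOuter.scal Q t : GL ι F) ∨ hh = (OrthOuter.scal Q t * g : Sim Q)) ∧
    ∃ a : IsoGrp Q, a ∈ Cg g ∧ a ∈ Omega F ⇑Q ∧
      IsNilpotent (((a : GL ι F) : Matrix ι ι F) - 1) ∧ a ≠ 1 := by
  have h2 := h.two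
  have hggn : ∀ x, sap g (sap g x) = (-d * -d) • x := by simpa using hgg
  set Wp := eigW g d with hWp
  set Wm := eigW g (-d) with hWm
  have horth : ∀ x ∈ Wp, ∀ y ∈ Wm, polar ⇑Q x y = 0 := fun x hx y hy => by
    have h1 := hsa x y
    rw [mem_eigW.1 hx, mem_eigW.1 hy, pl_smul_left, pl_smul_right] at h1
    have h3 : (2 * d) * polar ⇑Q x y = 0 := by linear_combination h1
    exact (mul_eq_zero.1 h3).resolve_left (mul_ne_zero h2 hd)
  have hdec : ∀ x, ∃ a ∈ Wp, ∃ b ∈ Wm, x = a + b := fun x =>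
    ⟨_, eigP_mem hgg x, _, eigP_mem hggn x, by
      rw [eigP_apply, eigP_apply, mul_neg, inv_neg, neg_smul, neg_smul, ← sub_eq_add_neg, ← smul_sub,
        show sap g x + d • x - (sap g x + -(d • x)) = (2 * d) • x by module,
        smul_smul, inv_mul_cancel₀ (mul_ne_zero h2 hd), one_smul]⟩
  -- `g / d` is an isometry with odd-dimensional eigenspaces
  have hQg : ∀ x, Q (sap g x) = (d * d) * Q x := fun x => by
    have h1 : polar ⇑Q (sap g x) (sap g x) = (d * d) * polar ⇑Q x x := by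
      rw [hsa, hgg, pl_smul_right]
    rw [pl_self, pl_self] at h1
    exact mul_left_cancel₀ h2 (by linear_combination h1)
  obtain ⟨o, ho⟩ : ∃ o : IsoGrp Q, OrthOuter.scal Q (Units.mk0 d hd) * toSim Q o = g := by
    have hm : mult h.exists_ne ((OrthOuter.scal Q (Units.mk0 d hd))⁻¹ * g) = 1 := by
      rw [map_mul, map_inv, OrthOuter.mult_scal, inv_mul_eq_one]
      exact (mult_eq _ fun v => by rw [hQg]; rfl).symm
    obtain ⟨o, ho⟩ := (mem_range_toSim_iff _ _).2 hm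
    exact ⟨o, by rw [ho, mul_inv_cancel_left]⟩
  have hoap : ∀ x, ap o x = d⁻¹ • sap g x := fun x => by
    conv_rhs => rw [← ho]
    rw [OrthOuter.sap_mul, sap_scal, sap_toSim, Units.val_mk0, smul_smul, inv_mul_cancel₀ hd, one_smul]
  have hres : resSpace o = Wm := by
    refine le_antisymm (fun w hw => ?_) fun w hw => ?_
    · obtain ⟨x, rfl⟩ := mem_resSpace.1 hw
      rw [hWm, mem_eigW, hoap, map_sub, map_smul, hgg, smul_smul, ← mul_assoc, inv_mul_cancel₀ hd,
        one_mul, smul_sub, smul_smul, neg_mul, mul_inv_cancel₀ hd]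
      module
    · refine mem_resSpace.2 ⟨(-(2 : F))⁻¹ • w, ?_⟩
      rw [hoap, map_smul, mem_eigW.1 hw]
      match_scalars
      field_simp
      ring
  have hfix : LinearMap.ker (ap o - LinearMap.id) = Wp := by
    ext x
    rw [LinearMap.mem_ker, LinearMap.sub_apply, LinearMap.id_apply, sub_eq_zero, hoap, hWp, mem_eigW,
      inv_smul_eq_iff₀ hd]
  have hsum : finrank F Wm + finrank F Wp = 2 * k := by
    rw [← h.card, ← finrank_resSpace_add_fix o, hres, hfix]
  have hgen : o ∈ reflGen Q := by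
    rw [closure_refl_eq_top h.nd (.inr (by have := h.five; omega))]; trivial
  have hoddm : Odd (finrank F Wm) := by
    rw [← Nat.not_even_iff_odd]
    intro hev
    refine hsgn (Units.ext ?_)
    rw [← ho, map_mul, sgn_scal h, one_mul, sgn_toSim h, det_eq_pow h.nd hgen, hres, hev.neg_one_pow]
    rfl
  obtain ⟨Pp, hPpr, hPp⟩ := exists_eigPiece h.nd h.hE h2 hd hgg hsa
  obtain ⟨Pm, hPmr, hPm⟩ := exists_eigPiece h.nd h.hE h2 (neg_ne_zero.2 hd) hggn hsa
  have hk := h.three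
  have hdimp : finrank F Wp = 1 ∨ 3 ≤ Pp.r := by
    rw [hPpr]; obtain ⟨j, hj⟩ := hoddm
    rw [← hWp]; omega
  have hdimm : finrank F Wm = 1 ∨ 3 ≤ Pm.r := by
    rw [hPmr]; obtain ⟨j, hj⟩ := hoddm
    rw [← hWm]; omega
  have hbig : 3 ≤ Pp.r ∨ 3 ≤ Pm.r := by
    rw [hPpr, hPmr, ← hWp, ← hWm]; omega
  have hWne : ∀ (W : Submodule F (ι → F)), Odd (finrank F W) → ∃ v ∈ W, v ≠ 0 := fun W hW => by
    obtain ⟨v, hv⟩ := (Module.finrank_pos_iff_exists_ne_zero (R := F) (M := W)).1 hW.pos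
    exact ⟨v.1, v.2, fun e => hv (Subtype.ext e)⟩
  have hoddp : Odd (finrank F Wp) := by
    obtain ⟨j, hj⟩ := hoddm
    exact ⟨k - j - 1, by omega⟩
  -- an anisotropic vector in an eigenspace
  have haniso : ∀ W W' : Submodule F (ι → F), (∀ x, ∃ a ∈ W, ∃ b ∈ W', x = a + b) →
      (∀ x ∈ W, ∀ y ∈ W', polar ⇑Q x y = 0) → Odd (finrank F W) → ∃ v ∈ W, Q v ≠ 0 := by
    intro W W' hd' ho' hW
    obtain ⟨v, hv, hv0⟩ := hWne W hW
    by_contra! hall
    refine hv0 (h.nd.1 v fun y => ?_)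
    obtain ⟨a, ha, b, hb, rfl⟩ := hd' y
    show polar ⇑Q v (a + b) = 0
    rw [pl_add_right, ho' v hv b hb, add_zero, polar, hall _ (add_mem hv ha), hall v hv, hall a ha]
    ring
  obtain ⟨vp, hvp, hQp⟩ := haniso Wp Wm hdec horth hoddp
  obtain ⟨vm, hvm, hQm⟩ := haniso Wm Wp (fun x => by
    obtain ⟨a, ha, b, hb, e⟩ := hdec x; exact ⟨b, hb, a, ha, e.trans (add_comm a b)⟩)
    (fun x hx y hy => by rw [pl_comm]; exact horth y hy x hx) hoddm
  refine ⟨fun M hM N hN hpow a ha => ?_, fun hh τ hs hfix' => ?_, ?_⟩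
  · have hside : ∀ (W : Submodule F (ι → F)) (P : Piece g F), (finrank F W = 1 ∨ 3 ≤ P.r) →
        (∀ x ∈ W, ∃ v, P.D.j v = x) → (∀ b : ↥(Cg g), ∀ x ∈ W, ap (b : IsoGrp Q) x ∈ W) →
        (∃ v ∈ W, Q v ≠ 0) → ∀ x ∈ W, ap (a : IsoGrp Q) (ap (a : IsoGrp Q) x) = x := by
      intro W P hr hsur hmem ⟨v, hv, hQv⟩ x hx
      rcases hr with h1 | h3
      · obtain ⟨u, hu, hu0, hline⟩ := finrank_line_eq h1
        have hQu : Q u ≠ 0 := fun e => by
          obtain ⟨c, rfl⟩ := hline v hv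
          exact hQv (by rw [Orth.Q_smul, e, mul_zero])
        obtain ⟨c, hc⟩ := hline _ (hmem a u hu)
        have hcc : c * c = 1 := by
          have h4 := Q_ap (a : IsoGrp Q) u
          rw [hc, Orth.Q_smul] at h4
          exact mul_right_cancel₀ hQu (by rw [h4, one_mul])
        obtain ⟨t, rfl⟩ := hline x hx
        rw [map_smul, hc, smul_smul, map_smul, hc, smul_smul, mul_assoc, hcc, mul_one]
      · obtain ⟨w, rfl⟩ := hsur x hx
        exact P.sq_eq_of_normal h2 h3 hM hN hpow ha w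
    refine Subtype.ext (ext_ap fun x => ?_)
    obtain ⟨p, hp, q, hq, rfl⟩ := hdec x
    rw [Subgroup.coe_mul, Orth.ap_mul, map_add, map_add,
      hside Wp Pp hdimp hPp (fun b y hy => ap_mem_eigW b.2 hy) ⟨vp, hvp, hQp⟩ p hp,
      hside Wm Pm hdimm hPm (fun b y hy => ap_mem_eigW b.2 hy) ⟨vm, hvm, hQm⟩ q hq,
      Subgroup.coe_one, Orth.ap_one]
  · obtain ⟨μ, hμ⟩ := hs
    have hpol : ∀ x y, polar ⇑Q (semiMap hh τ x) (semiMap hh τ y) = μ * τ (polar ⇑Q x y) :=
      AutPOmega.semi_polar (Q := Q) hμ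
    have hQS : ∀ x, Q (semiMap hh τ x) = μ * τ (Q x) := hμ
    -- scalar on a big side, hence `τ = 1`
    have hbigS : ∀ (W : Submodule F (ι → F)) (P : Piece g F), 3 ≤ P.r →
        (∀ x ∈ W, ∃ v, P.D.j v = x) → ∃ c : F, ∀ x ∈ W, semiMap hh τ x = c • x := fun W P h3 hsur => by
      obtain ⟨c, hc⟩ := P.scalar_of_semi h3 hfix'
      exact ⟨c, fun x hx => by obtain ⟨v, rfl⟩ := hsur x hx; exact hc v⟩
    have hτof : ∀ (W : Submodule F (ι → F)) (c : F), (∀ x ∈ W, semiMap hh τ x = c • x) →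
        ∀ v ∈ W, Q v ≠ 0 → τ = 1 := by
      intro W c hc v hv hQv
      have hv0 : v ≠ 0 := fun e => hQv (by rw [e]; exact map_zero Q)
      refine RingEquiv.ext fun t => smul_left_injective F (semiMap_ne_zero hh τ hv0) ?_
      show τ t • semiMap hh τ v = t • semiMap hh τ v
      rw [← semiMap_smul, hc _ (W.smul_mem t hv), hc v hv, smul_comm]
    have hτ1 : τ = 1 := by
      rcases hbig with h3 | h3
      · obtain ⟨c, hc⟩ := hbigS Wp Pp h3 hPp
        exact hτof Wp c hc vp hvp hQp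
      · obtain ⟨c, hc⟩ := hbigS Wm Pm h3 hPm
        exact hτof Wm c hc vm hvm hQm
    subst hτ1
    -- scalar on each side
    have hsideS : ∀ (W W' : Submodule F (ι → F)) (P P' : Piece g F),
        (finrank F W = 1 ∨ 3 ≤ P.r) → (∀ x ∈ W, ∃ v, P.D.j v = x) →
        (∀ x ∈ W', ∃ v, P'.D.j v = x) → (finrank F W = 1 → 3 ≤ P'.r) →
        (∀ x, ∃ a ∈ W, ∃ b ∈ W', x = a + b) → (∀ x ∈ W, ∀ y ∈ W', polar ⇑Q x y = 0) →
        ∀ v' ∈ W', Q v' ≠ 0 → ∃ c : F, ∀ x ∈ W, semiMap hh 1 x = c • x := by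
      intro W W' P P' hr hsur hsur' hr' hd' ho' v' hv' hQv'
      rcases hr with h1 | h3
      swap
      · exact hbigS W P h3 hsur
      obtain ⟨c', hc'⟩ := hbigS W' P' (hr' h1) hsur'
      obtain ⟨u, hu, hu0, hline⟩ := finrank_line_eq h1
      obtain ⟨a, ha, b, hb, hab⟩ := hd' (semiMap hh 1 u)
      have hc0 : c' ≠ 0 := fun e => semiMap_ne_zero hh 1
        (fun e' : v' = 0 => hQv' (by rw [e']; exact map_zero Q)) (by rw [hc' v' hv', e, zero_smul])
      have hb0 : b = 0 := h.nd.1 b fun y => by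
        obtain ⟨p, hp, q, hq, rfl⟩ := hd' y
        show polar ⇑Q b (p + q) = 0
        rw [pl_add_right, pl_comm Q b p, ho' p hp b hb, zero_add]
        have h4 := hpol u q
        rw [ho' u hu q hq, map_zero, mul_zero, hc' q hq, hab, pl_smul_right, pl_add_left, ho' a ha q hq,
          zero_add, mul_eq_zero] at h4
        exact h4.resolve_left hc0
      obtain ⟨c, rfl⟩ := hline a ha
      refine ⟨c, fun x hx => ?_⟩
      obtain ⟨t, rfl⟩ := hline x hx
      rw [semiMap_smul, hab, hb0, add_zero, show (1 : F ≃+* F) t = t from rfl, smul_comm]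
    obtain ⟨cp, hcp⟩ := hsideS Wp Wm Pp Pm hdimp hPp hPm (fun e => by
      rw [hPmr, ← hWm]; omega) hdec horth vm hvm hQm
    obtain ⟨cm, hcm⟩ := hsideS Wm Wp Pm Pp hdimm hPm hPp (fun e => by
      rw [hPpr, ← hWp]; omega) (fun x => by
        obtain ⟨a, ha, b, hb, e⟩ := hdec x; exact ⟨b, hb, a, ha, e.trans (add_comm a b)⟩)
      (fun x hx y hy => by rw [pl_comm]; exact horth y hy x hx) vp hvp hQp
    have hmul : ∀ c : F, ∀ v, semiMap hh 1 v = c • v → Q v ≠ 0 → c * c = μ := fun c v hc hQv => by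
      have h4 := hQS v
      rw [hc, Orth.Q_smul] at h4
      exact mul_right_cancel₀ hQv h4
    have hcp0 : cp ≠ 0 := fun e => semiMap_ne_zero hh 1
      (fun e' : vp = 0 => hQp (by rw [e']; exact map_zero Q)) (by rw [hcp vp hvp, e, zero_smul])
    have hsq : cm * cm = cp * cp :=
      (hmul cm vm (hcm vm hvm) hQm).trans (hmul cp vp (hcp vp hvp) hQp).symm
    refine ⟨rfl, ?_⟩
    rcases mul_self_eq_mul_self_iff.1 hsq with e | e
    · refine ⟨Units.mk0 cp hcp0, .inl (Units.ext (Matrix.ext_of_mulVec_single fun i => ?_))⟩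
      show semiMap hh 1 (Pi.single i 1) = sap (OrthOuter.scal Q (Units.mk0 cp hcp0)) (Pi.single i 1)
      obtain ⟨p, hp, q, hq, he⟩ := hdec (Pi.single i 1)
      rw [sap_scal, he, map_add, hcp p hp, hcm q hq, e, smul_add]
      rfl
    · refine ⟨Units.mk0 (cp / d) (div_ne_zero hcp0 hd),
        .inr (Units.ext (Matrix.ext_of_mulVec_single fun i => ?_))⟩
      show semiMap hh 1 (Pi.single i 1) =
        sap (OrthOuter.scal Q (Units.mk0 (cp / d) (div_ne_zero hcp0 hd)) * g) (Pi.single i 1)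
      obtain ⟨p, hp, q, hq, he⟩ := hdec (Pi.single i 1)
      rw [OrthOuter.sap_mul, sap_scal, he, map_add, map_add, hcp p hp, hcm q hq, e, mem_eigW.1 hp,
        mem_eigW.1 hq, Units.val_mk0]
      match_scalars <;> field_simp
  · rcases hbig with h3 | h3
    · exact Pp.exists_unipotent h3
    · exact Pm.exists_unipotent h3

theorem crit_graph (h : Ctx Q k) {g : Sim Q} (hsgn : sgn h.exists_ne k g ≠ 1)
    (hg2 : OrthOuter.conjAut Q g ^ 2 = 1)
    (hsemi : ∀ β : MulAut (POmega F ⇑Q), β * OrthOuter.conjAut Q g = OrthOuter.conjAut Q g * β →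
      ∃ (hh : GL ι F) (τ : F ≃+* F) (hs : IsSemisimilarityPair ⇑Q hh τ), β = AutPOmega.semiAut Q hs) :
    Crit 2 (OrthOuter.conjAut Q g) ∧ ¬ Nat.Coprime 2 (Nat.card (fixK (OrthOuter.conjAut Q g))) := by
  classical
  obtain ⟨l, hl⟩ := (OrthOuter.conjAut_eq_one_iff h _).1 (show OrthOuter.conjAut Q (g * g) = 1 by
    rw [map_mul, ← pow_two, hg2])
  have hlm : l = mult h.exists_ne g :=
    (mult_sq_eq h hl).resolve_right fun e => hsgn (sgn_eq_one_of_skew h hl e)
  have hgg := sq_of_scal hl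
  have hsa : ∀ x y, polar ⇑Q (sap g x) y = polar ⇑Q x (sap g y) := fun x y => by
    have h1 := polar_sap h.exists_ne g x (sap g y)
    rw [hgg, pl_smul_right, ← hlm] at h1
    exact mul_left_cancel₀ l.ne_zero h1
  obtain ⟨hA, hB, hC⟩ : _ ∧ _ ∧ ∃ a : IsoGrp Q, a ∈ Cg g ∧ a ∈ Omega F ⇑Q ∧
      IsNilpotent (((a : GL ι F) : Matrix ι ι F) - 1) ∧ a ≠ 1 := by
    by_cases hsq : IsSquare (l : F)
    · obtain ⟨d, hd⟩ := hsq
      exact eigen_facts h (d := d) (fun e => l.ne_zero (by rw [hd, e, mul_zero]))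
        (fun x => by rw [hgg, hd]) hsa hsgn
    · exact quad_facts h hsq hgg hsa
  have hn : 3 ≤ Fintype.card ι := by have := h.five; omega
  have hcen := fun z => mem_center_omega_iff h.nd hn h.hE z
  -- membership in the fixed points
  have hfixmem : ∀ s : ↥(Omega F ⇑Q), (s : IsoGrp Q) ∈ Cg g →
      (QuotientGroup.mk s : POmega F ⇑Q) ∈ fixK (OrthOuter.conjAut Q g) := fun s hs => by
    rw [mem_fixK, OrthOuter.conjAut_mk]
    congr 1
    refine Subtype.ext (toSim_injective ?_)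
    rw [OrthOuter.charRestrict_coe, toSim_isoConj, ← mem_Cg.1 hs, mul_inv_cancel_right]
  have hcomm : ∀ o : IsoGrp Q, o ∈ Cg g →
      OrthOuter.conjAut Q (toSim Q o) * OrthOuter.conjAut Q g =
        OrthOuter.conjAut Q g * OrthOuter.conjAut Q (toSim Q o) := fun o ho => by
    rw [← map_mul, ← map_mul, mem_Cg.1 ho]
  haveI : Nonempty ι := Fintype.card_pos_iff.1 (by omega)
  have hrigid := FieldAut.omRigid (Q := Q) h.nd h.five
  refine crit_two_of_invariant ?_ (fun hbot => ?_) (fun N hN hinv hodd => ?_) fun β hβ hk => ?_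
  · refine (injective_iff_map_eq_one _).2 fun z hz => ?_
    obtain ⟨s, rfl⟩ := QuotientGroup.mk_surjective z
    rw [← conjAut_omega, OrthOuter.conjAut_eq_one_iff h] at hz
    obtain ⟨t, ht⟩ := hz
    refine (QuotientGroup.eq_one_iff s).2 ((hcen s).2 ⟨t, ?_, fun x => ?_⟩)
    · have h1 := congrArg (mult h.exists_ne) ht
      rw [mult_toSim, OrthOuter.mult_scal] at h1
      exact (congrArg Units.val h1).symm
    · have h1 := congrArg (fun z => sap z x) ht
      simpa only [sap_toSim, sap_scal] using h1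
  · obtain ⟨a, haC, haΩ, hnil, ha1⟩ := hC
    have h1 := hfixmem ⟨a, haΩ⟩ haC
    rw [hbot, Subgroup.mem_bot, QuotientGroup.eq_one_iff] at h1
    obtain ⟨c, hc, hcx⟩ := (hcen _).1 h1
    refine ha1 (ext_ap fun x => ?_)
    obtain ⟨N, hN⟩ := hnil
    have hmat : ((a : GL ι F) : Matrix ι ι F) - 1 = (c - 1) • (1 : Matrix ι ι F) := by
      refine Matrix.ext_of_mulVec_single fun i => ?_
      rw [Matrix.sub_mulVec, Matrix.smul_mulVec, Matrix.one_mulVec, ← Orth.ap_apply, sub_smul,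
        one_smul]
      exact congrArg (· - _) (hcx _)
    rw [hmat, smul_pow, one_pow] at hN
    have hc1 : c = 1 := sub_eq_zero.1 (IsNilpotent.eq_zero ⟨N, by
      simpa using congrFun (congrFun hN (Classical.arbitrary ι)) (Classical.arbitrary ι)⟩)
    rw [hcx x, hc1, one_smul, Orth.ap_one]
  · set n := Nat.card N
    -- the lift of `N`
    let M : Subgroup ↥(Cg g) :=
      { carrier := {a | ∃ ha : (a : IsoGrp Q) ∈ Omega F ⇑Q,
          (QuotientGroup.mk ⟨_, ha⟩ : POmega F ⇑Q) ∈ N}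
        one_mem' := ⟨one_mem _, one_mem N⟩
        mul_mem' := fun ⟨ha, ha'⟩ ⟨hb, hb'⟩ => ⟨mul_mem ha hb, mul_mem ha' hb'⟩
        inv_mem' := fun ⟨ha, ha'⟩ => ⟨inv_mem ha, inv_mem ha'⟩ }
    have hMn : M.Normal := ⟨by
      rintro a ⟨ha, ha'⟩ o
      refine ⟨(inferInstance : (commutator (IsoGrp Q)).Normal).conj_mem _ ha _, ?_⟩
      have h1 := hinv _ (hcomm o.1 o.2) _ ha'
      rw [OrthOuter.conjAut_mk] at h1
      convert h1 using 2
      exact Subtype.ext (Subtype.ext rfl)⟩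
    have hpowN : ∀ s : ↥(Omega F ⇑Q), (QuotientGroup.mk s : POmega F ⇑Q) ∈ N →
        ∃ c : F, c * c = 1 ∧ ∀ x, ap ((s : IsoGrp Q) ^ n) x = c • x := fun s hs => by
      have h1 : (QuotientGroup.mk s : POmega F ⇑Q) ^ n = 1 :=
        congrArg Subtype.val (pow_card_eq_one' (x := (⟨_, hs⟩ : N)))
      rw [← QuotientGroup.mk_pow, QuotientGroup.eq_one_iff] at h1
      exact (hcen _).1 h1
    have key := hA M hMn n hodd fun a ⟨ha, ha'⟩ => hpowN ⟨_, ha⟩ ha'
    refine (Subgroup.eq_bot_iff_forall _).2 fun z hz => ?_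
    obtain ⟨s, rfl⟩ := QuotientGroup.mk_surjective z
    -- `s` commutes with `g`
    have hsC : (s : IsoGrp Q) ∈ Cg g := by
      have h1 := mem_fixK.1 (hN hz)
      rw [OrthOuter.conjAut_mk, QuotientGroup.eq, hcen] at h1
      obtain ⟨c, hc, hcx⟩ := h1
      obtain ⟨d, hd, hdx⟩ := hpowN s hz
      set e : Sim Q := toSim Q (s : IsoGrp Q) with he
      have hc0 : c ≠ 0 := left_ne_zero_of_mul_eq_one hc
      have h2' : e = g * e * g⁻¹ * OrthOuter.scal Q (Units.mk0 c hc0) := by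
        have h3 : toSim Q (isoConj Q g (s : IsoGrp Q))⁻¹ * e = OrthOuter.scal Q (Units.mk0 c hc0) := by
          refine ext_sap fun x => ?_
          rw [sap_scal, Units.val_mk0, he, ← map_mul, sap_toSim]
          exact hcx x
        rw [← h3, map_inv, toSim_isoConj, mul_inv_cancel_left]
      have h4 : e ^ n = g * e ^ n * g⁻¹ * OrthOuter.scal Q (Units.mk0 c hc0) ^ n := by
        conv_lhs => rw [h2', (show Commute (g * e * g⁻¹) _ from scal_comm _ _).mul_pow, conj_pow]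
      have hd0 : d ≠ 0 := left_ne_zero_of_mul_eq_one hd
      have h5 : e ^ n = OrthOuter.scal Q (Units.mk0 d hd0) := by
        refine ext_sap fun x => ?_
        rw [sap_scal, he, ← map_pow, sap_toSim, hdx]
        rfl
      rw [h5, scal_comm, mul_inv_cancel_right, left_eq_mul] at h4
      have h6 : (OrthOuter.scal Q (Units.mk0 c hc0)) = 1 := by
        rcases mul_self_eq_one_iff.1 hc with rfl | rfl
        · rw [show Units.mk0 (1 : F) hc0 = 1 from Units.ext rfl, map_one]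
        · exfalso
          rw [← map_pow] at h4
          have h7 := congrArg (fun z => sap z (Pi.single (Classical.arbitrary ι) (1 : F))) h4
          simp only [sap_scal, OrthOuter.sap_one, Units.val_pow_eq_pow_val, Units.val_mk0,
            hodd.neg_one_pow] at h7
          have h8 := congrFun h7 (Classical.arbitrary ι)
          simp only [Pi.smul_apply, Pi.single_eq_same, smul_eq_mul, mul_one] at h8
          exact h.two (by linear_combination -h8)
      rw [h6, mul_one] at h2'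
      rw [mem_Cg, ← he]
      conv_lhs => rw [h2']
      rw [inv_mul_cancel_right]
    have h1 := key ⟨_, hsC⟩ ⟨s.2, hz⟩
    have h2' : (QuotientGroup.mk s : POmega F ⇑Q) ^ 2 = 1 := by
      rw [← QuotientGroup.mk_pow, pow_two]
      exact (congrArg QuotientGroup.mk (Subtype.ext (congrArg Subtype.val h1 :) :
        s * s = 1)).trans (QuotientGroup.mk_one _)
    have h3 : (QuotientGroup.mk s : POmega F ⇑Q) ^ n = 1 :=
      congrArg Subtype.val (pow_card_eq_one' (x := (⟨_, hz⟩ : N)))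
    obtain ⟨j, hj⟩ := hodd
    rwa [hj, pow_succ, pow_mul, h2', one_pow, one_mul] at h3
  · obtain ⟨hh, τ, hs, rfl⟩ := hsemi β hβ
    obtain ⟨rfl, t, ht⟩ := hB hh τ hs fun a haC haΩ hnil => by
      have h1 := hk _ (hfixmem ⟨a, haΩ⟩ haC)
      exact fix_unipotent (mat := FieldAut.omMat ⇑Q) hrigid
        (ψ := ⟨OrthOuter.psi hh τ, OrthOuter.semi_keep hs⟩)
        (R := τ.mapMatrix.trans (FieldAut.conjRing hh)) (fun x => by
          simp [OrthOuter.psi, MulAut.mul_apply, MulAut.conj_apply, FieldAut.conjRing,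
            FieldAut.galGL_apply_coe])
        (h := ⟨a, haΩ⟩) hnil h1
    rw [AutPOmega.semiAut_one_eq hs]
    have hsc : OrthOuter.conjAut Q (OrthOuter.scal Q t) = 1 :=
      (OrthOuter.conjAut_eq_one_iff h _).2 ⟨t, rfl⟩
    rcases ht with e | e
    · rw [show (⟨hh, AutPOmega.semi_sim hs⟩ : Sim Q) = OrthOuter.scal Q t from Subtype.ext e, hsc,
        one_pow]
    · rw [show (⟨hh, AutPOmega.semi_sim hs⟩ : Sim Q) = OrthOuter.scal Q t * g from Subtype.ext e,
        map_mul, hsc, one_mul, hg2]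

end Cfsg.Agent.LocalBalance
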