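import Cfsg.Agent.Lib.LocalBalance.Commutant
import Cfsg.Agent.Lib.OrthOuter.Parity
import Cfsg.Agent.Lib.AutPOmega.Main
import Cfsg.Agent.Lib.Orth.Klein

/-!
# Eigenspace pieces of the centraliser of an involutory similarity

* `Cg g` : the isometries commuting with a similarity
* `Piece g K` : a quadratic space over `K` inside `F^ι` on which `Cg g` induces the whole isometry group
* `Piece.sq_eq_of_normal`, `Piece.scalar_of_semi`, `Piece.exists_unipotent`
-/

set_option autoImplicit false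
set_option linter.unusedSectionVars false

namespace Cfsg.Agent.LocalBalance

open Cfsg Matrix Module Cfsg.Agent.Orth Cfsg.Agent.OrthOuter
open Cfsg.Agent.FieldAut (galGL galGL_mulVec)
open QuadraticMap (polar)

variable {ι : Type} [Fintype ι] [DecidableEq ι] {F : Type*} [Field F] [Fintype F]
variable {Q : QuadraticForm F (ι → F)}

/-- The isometries commuting with a similarity. -/
def Cg (g : Sim Q) : Subgroup (IsoGrp Q) := (Subgroup.centralizer {g}).comap (toSim Q)

theorem mem_Cg {g : Sim Q} {a : IsoGrp Q} :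
    a ∈ Cg g ↔ toSim Q a * g = g * toSim Q a := by
  rw [Cg, Subgroup.mem_comap, Subgroup.mem_centralizer_singleton_iff]

theorem mem_Cg_iff {g : Sim Q} {a : IsoGrp Q} :
    a ∈ Cg g ↔ ∀ x, ap a (sap g x) = sap g (ap a x) := by
  rw [mem_Cg]
  constructor
  · intro h x
    have h1 := congrArg (fun s : Sim Q => sap s x) h
    simpa only [sap_mul, sap_toSim] using h1
  · intro h
    refine ext_sap fun x => ?_
    simpa only [sap_mul, sap_toSim] using h x

/-- The additive map of a semilinear map. -/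
def semiMap (h : GL ι F) (τ : F ≃+* F) : (ι → F) →+ (ι → F) where
  toFun y := (h : Matrix ι ι F) *ᵥ (τ ∘ y)
  map_zero' := by
    rw [show τ ∘ (0 : ι → F) = 0 from funext fun i => map_zero τ, Matrix.mulVec_zero]
  map_add' x y := by
    rw [← Matrix.mulVec_add]
    congr 1
    exact funext fun i => map_add τ _ _

theorem semiMap_apply (h : GL ι F) (τ : F ≃+* F) (y : ι → F) :
    semiMap h τ y = (h : Matrix ι ι F) *ᵥ (τ ∘ y) := rfl

theorem semiMap_smul (h : GL ι F) (τ : F ≃+* F) (c : F) (y : ι → F) :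
    semiMap h τ (c • y) = τ c • semiMap h τ y := by
  rw [semiMap_apply, semiMap_apply, ← Matrix.mulVec_smul]
  congr 1
  exact funext fun i => map_mul τ _ _

theorem semiMap_ne_zero (h : GL ι F) (τ : F ≃+* F) {y : ι → F} (hy : y ≠ 0) :
    semiMap h τ y ≠ 0 := fun h0 => hy <| funext fun i => τ.injective <| by
  have h1 := congrArg (fun z => ((h⁻¹ : GL ι F) : Matrix ι ι F) *ᵥ z) h0
  rw [semiMap_apply, Matrix.mulVec_zero, Matrix.mulVec_mulVec, ← Units.val_mul, inv_mul_cancel,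
    Units.val_one, Matrix.one_mulVec] at h1
  exact (congrFun h1 i).trans (map_zero τ).symm

theorem semiMap_comm {h : GL ι F} {τ : F ≃+* F} {a : IsoGrp Q}
    (hfix : h * galGL τ (a : GL ι F) * h⁻¹ = a) (y : ι → F) :
    semiMap h τ (ap a y) = ap a (semiMap h τ y) := by
  rw [mul_inv_eq_iff_eq_mul] at hfix
  rw [semiMap_apply, semiMap_apply, Orth.ap_apply, Orth.ap_apply, ← galGL_mulVec, Matrix.mulVec_mulVec,
    Matrix.mulVec_mulVec, ← Units.val_mul, hfix, Units.val_mul]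

/-- A quadratic space over `K` inside `F^ι` with full isometry group induced by `Cg g`. -/
structure Piece (g : Sim Q) (K : Type*) [Field K] [Module K (ι → F)] where
  r : ℕ
  form : QuadraticForm K (Fin r → K)
  nd : form.polarBilin.Nondegenerate
  D : Emb form K (ι → F)
  e_eq : D.e = RingHom.id K
  hom : ↥(Cg g) →* IsoGrp form
  surj : Function.Surjective hom
  ap_j : ∀ (a : ↥(Cg g)) (v : Fin r → K), ap (a : IsoGrp Q) (D.j v) = D.j (ap (hom a) v)
  j_inj : Function.Injective D.j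
  lift : ∀ u w, form u = 0 → polar ⇑form u w = 0 → ∃ a : IsoGrp Q, a ∈ Cg g ∧ a ∈ Omega F ⇑Q ∧
    IsNilpotent (((a : GL ι F) : Matrix ι ι F) - 1) ∧ ∀ y, ap a y = D.ej u w y

namespace Piece

variable {g : Sim Q} {K : Type*} [Field K] [Fintype K] [Module K (ι → F)] (P : Piece g K)

theorem j_smul (c : K) (v : Fin P.r → K) : P.D.j (c • v) = c • P.D.j v := by
  rw [P.D.j_smul, P.e_eq]; rfl

/-- A normal subgroup of odd exponent modulo scalars squares to one on each piece. -/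
theorem sq_eq_of_normal (h2 : (2 : K) ≠ 0) (hr : 3 ≤ P.r) {M : Subgroup ↥(Cg g)} (hM : M.Normal)
    {N : ℕ} (hN : Odd N) (hpow : ∀ a ∈ M, ∃ c : F, c * c = 1 ∧ ∀ x, ap ((a : IsoGrp Q) ^ N) x = c • x)
    {a : ↥(Cg g)} (ha : a ∈ M) (v : Fin P.r → K) :
    ap (a : IsoGrp Q) (ap (a : IsoGrp Q) (P.D.j v)) = P.D.j v := by
  obtain ⟨c, hc, hca⟩ := scalar_of_odd_normal P.nd h2 (by rw [Fintype.card_fin]; exact hr)
    (hM.map P.hom P.surj) hN (by
      rintro _ ⟨b, hb, rfl⟩
      obtain ⟨c, hc, hcb⟩ := hpow b hb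
      rcases mul_self_eq_one_iff.1 hc with rfl | rfl
      · refine ⟨1, fun x => P.j_inj ?_⟩
        rw [← map_pow, ← P.ap_j, one_smul, SubgroupClass.coe_pow, hcb, one_smul]
      · refine ⟨-1, fun x => P.j_inj ?_⟩
        rw [← map_pow, ← P.ap_j, neg_one_smul, map_neg, SubgroupClass.coe_pow, hcb, neg_one_smul])
    (P.hom a) ⟨a, ha, rfl⟩
  rw [P.ap_j, P.ap_j, hca, hca, smul_smul, hc, one_smul]

/-- A semilinear map fixing the unipotent elements of `Ω ∩ Cg g` is a scalar on the piece. -/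
theorem scalar_of_semi (hr : 3 ≤ P.r) {h : GL ι F} {τ : F ≃+* F}
    (hfix : ∀ a : IsoGrp Q, a ∈ Cg g → a ∈ Omega F ⇑Q →
      IsNilpotent (((a : GL ι F) : Matrix ι ι F) - 1) → h * galGL τ (a : GL ι F) * h⁻¹ = a) :
    ∃ c : K, ∀ v, semiMap h τ (P.D.j v) = c • P.D.j v := by
  refine P.D.scalar_of_commutant (semiMap h τ) (fun u w hu huw y => ?_) P.nd
    (by rw [Fintype.card_fin]; exact hr)
  obtain ⟨a, hg, hΩ, hnil, ha⟩ := P.lift u w hu huw
  rw [← ha, ← ha]
  exact semiMap_comm (hfix a hg hΩ hnil) y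

theorem exists_unipotent (hr : 3 ≤ P.r) :
    ∃ a : IsoGrp Q, a ∈ Cg g ∧ a ∈ Omega F ⇑Q ∧
      IsNilpotent (((a : GL ι F) : Matrix ι ι F) - 1) ∧ a ≠ 1 := by
  have hn : 3 ≤ Fintype.card (Fin P.r) := by rw [Fintype.card_fin]; exact hr
  obtain ⟨u, f, hp⟩ := exists_hpair P.nd hn
  obtain ⟨w, hw, hQw⟩ := hp.exists_nonsing_perp P.nd hn
  obtain ⟨z, hz, hwz⟩ := hp.perp_nondeg P.nd hw (fun h0 => hQw (by rw [h0]; exact map_zero P.form))
  obtain ⟨hzu, hzf⟩ := mem_perp.1 hz
  obtain ⟨a, hg, hΩ, hnil, ha⟩ := P.lift u w hp.qe (mem_perp.1 hw).1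
  refine ⟨a, hg, hΩ, hnil, fun h1 => hwz ?_⟩
  have h2 := congrArg (P.D.B z) (ha (P.D.j f))
  rw [h1, Orth.ap_one] at h2
  simp only [Emb.ej, map_add, map_sub, map_smul, P.D.B_j, P.e_eq, RingHom.id_apply,
    pl_comm P.form z f, hzf, pl_comm P.form z u, hzu, hp.pf, smul_eq_mul, mul_zero, one_mul,
    zero_add, sub_zero] at h2
  rw [pl_comm]
  exact h2.symm

end Piece

end Cfsg.Agent.LocalBalance
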