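import Cfsg.Agent.Lib.LocalBalance.Lift
import Cfsg.Agent.Lib.AutPSL.Twisted
import Cfsg.Agent.Lib.AutPSL.Count
import Cfsg.Agent.Lib.GLOrder.Basic
import Cfsg.Agent.Lib.Linear.SLn

/-!
# Local balance in `PSL_n(q)`: field automorphisms

* `semi_fix_unipotent`, `semi_fix_eigen`, `pslConj_injective`, `pow_center`
* `exists_perm_prime`, `permSL` : elements of prime order
* `crit_field_psl` : `Crit` for a standard field automorphism of prime order
-/

set_option autoImplicit false
set_option linter.unusedSectionVars false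

namespace Cfsg.Agent.LocalBalance

open scoped MatrixGroups Matrix
open Cfsg.Agent.AutPSL (semi proj invT T tS cj semiSL)
open Cfsg.Agent.FieldAut (galGL scal scal_coe)

variable {F : Type*} [Field F] {m : ℕ}

local notation "PG" => Matrix.ProjectiveSpecialLinearGroup (Fin (m + 2)) F
local notation "SLg" => Matrix.SpecialLinearGroup (Fin (m + 2)) F
local notation "G2" => GL (Fin (m + 2)) F
local notation "M2" => Matrix (Fin (m + 2)) (Fin (m + 2)) F
local notation "I" => Fin (m + 2)

theorem isNilpotent_tS {v w : I → F} (h : w ⬝ᵥ v = 0) : IsNilpotent ((tS v w : M2) - 1) :=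
  ⟨2, by rw [AutPSL.tS_coe h, add_sub_cancel_left, pow_two, AutPSL.vecMulVec_mul_vecMulVec', h, zero_smul]⟩

theorem semi_fix_unipotent {g : G2} {τ : F ≃+* F} {s : SLg} (hu : IsNilpotent ((s : M2) - 1))
    (h : semi g τ (proj I F s) = proj I F s) :
    g * galGL τ (Matrix.SpecialLinearGroup.toGL s) * g⁻¹ = Matrix.SpecialLinearGroup.toGL s := by
  rw [AutPSL.semi_proj, eq_comm, AutPSL.proj_eq_iff] at h
  obtain ⟨c, -, hc⟩ := h
  have hc1 : c = 1 := FieldAut.eq_one_of_smul_unipotent
    (R := (τ.mapMatrix).trans (FieldAut.conjRing g)) hu hc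
  rw [hc1, one_smul] at hc
  exact Units.ext hc

theorem semi_fix_eigen {g : G2} {τ : F ≃+* F} {v w : I → F} (h : w ⬝ᵥ v = 0) (hw : w ≠ 0)
    (hfix : semi g τ (T v w) = T v w) : ∃ l : F, (g : M2) *ᵥ (τ ∘ v) = l • v :=
  eigen_of_fix (semi_fix_unipotent (isNilpotent_tS h) hfix) hw (AutPSL.tS_coe h)

theorem pow_center {z : SLg} (hz : z ∈ Subgroup.center SLg) : z ^ (m + 2) = 1 := by
  obtain ⟨r, hr, hr'⟩ := Matrix.SpecialLinearGroup.mem_center_iff.1 hz
  refine Subtype.ext ?_
  rw [Matrix.SpecialLinearGroup.coe_pow, ← hr', ← map_pow, Fintype.card_fin] at *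
  rw [hr, map_one]
  rfl

theorem pslConj_injective : Function.Injective (MulAut.conj : PG →* MulAut PG) := by
  refine (injective_iff_map_eq_one _).2 fun k hk => ?_
  obtain ⟨s, rfl⟩ := AutPSL.proj_surjective k
  rw [← AutPSL.cj_toGL, AutPSL.cj_eq_one_iff] at hk
  obtain ⟨a, ha⟩ := hk
  refine AutPSL.proj_eq_one_of_forall (c := (a : F)) ?_
  have h := congrArg Units.val ha
  rw [scal_coe] at h
  exact h

theorem semi_eq_std {g : G2} {a : Fˣ} (τ : F ≃+* F) (h : g = scal a) : semi g τ = semi 1 τ := by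
  have e : semi g τ = cj g * semi 1 τ := by
    rw [AutPSL.cj_apply, AutPSL.semi_mul, map_one, mul_one]
    congr 1
  rw [e, h, AutPSL.cj_scal, one_mul]

/-- A `p`-cycle when `p ∣ n` is odd. -/
theorem exists_perm_prime {n p : ℕ} [Fact p.Prime] (hodd : Odd p) (hn : p ≤ n) :
    ∃ π : Equiv.Perm (Fin n), orderOf π = p ∧ Equiv.Perm.sign π = 1 := by
  classical
  have hp : p.Prime := Fact.out
  have hcard : p ∣ Nat.card (alternatingGroup (Fin n)) := by
    haveI : Nontrivial (Fin n) := Fin.nontrivial_iff_two_le.2 (hp.two_le.trans hn)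
    have h2 := two_mul_nat_card_alternatingGroup (α := Fin n)
    rw [Nat.card_perm, Nat.card_fin] at h2
    exact ((Nat.coprime_primes hp Nat.prime_two).2
      (by rintro rfl; exact absurd hodd (by decide))).dvd_of_dvd_mul_left
      (h2 ▸ Nat.dvd_factorial hp.pos hn)
  obtain ⟨π, hπ⟩ := exists_prime_orderOf_dvd_card' p hcard
  exact ⟨π.1, by rw [Subgroup.orderOf_coe]; exact hπ, Equiv.Perm.mem_alternatingGroup.1 π.2⟩

theorem permMatrix_inj {n : ℕ} {π π' : Equiv.Perm (Fin n)} {c : F}
    (h : π.permMatrix F = c • π'.permMatrix F) : π = π' := by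
  refine Equiv.ext fun i => ?_
  have h1 := congrFun (congrFun h i) (π i)
  by_contra hne
  simp [Equiv.Perm.permMatrix, PEquiv.toMatrix_apply, Ne.symm hne] at h1

/-- An element of order `p` modulo scalars with entries in the prime field. -/
theorem exists_rational_elt (p : ℕ) [Fact p.Prime] (h2 : p = 2 → (2 : F) ≠ 0)
    (hp : p = 2 ∨ (Odd p ∧ p ≤ m + 2)) :
    ∃ s : SLg, (∀ σ : F ≃+* F, (s : M2).map σ = (s : M2)) ∧
      s ^ p ∈ Subgroup.center SLg ∧ s ∉ Subgroup.center SLg := by
  classical
  rcases hp with rfl | ⟨hodd, hle⟩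
  · rcases Nat.eq_zero_or_pos m with rfl | hm
    · refine ⟨⟨!![0, 1; -1, 0], by simp [Matrix.det_fin_two]⟩, fun σ => ?_, ?_, fun hc => ?_⟩
      · ext i j; fin_cases i <;> fin_cases j <;> simp
      · refine Matrix.SpecialLinearGroup.mem_center_iff.2 ⟨-1, by simp, ?_⟩
        show _ = (!![0, 1; -1, 0] : Matrix (Fin 2) (Fin 2) F) ^ 2
        rw [pow_two]
        ext i j; fin_cases i <;> fin_cases j <;> simp [Matrix.mul_apply, Fin.sum_univ_two]
      · obtain ⟨r, -, hr⟩ := Matrix.SpecialLinearGroup.mem_center_iff.1 hc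
        simpa using congrFun (congrFun hr 0) 1
    · set i0 : I := ⟨0, by omega⟩
      set i1 : I := ⟨1, by omega⟩
      set i2 : I := ⟨2, by omega⟩
      set d : I → F := fun i => if i = i0 ∨ i = i1 then -1 else 1 with hd
      have hdet : (Matrix.diagonal d).det = 1 := by
        rw [Matrix.det_diagonal, ← Finset.prod_subset (Finset.subset_univ ({i0, i1} : Finset I))]
        · rw [Finset.prod_pair (by simp [i0, i1, Fin.ext_iff])]; simp [hd]
        · intro x _ hx; simp at hx; simp [hd, hx]
      refine ⟨⟨_, hdet⟩, fun σ => ?_, ?_, fun hc => ?_⟩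
      · ext i j
        rcases eq_or_ne i j with rfl | hij
        · by_cases h : i = i0 ∨ i = i1 <;> simp [hd, h]
        · simp [hij]
      · refine Matrix.SpecialLinearGroup.mem_center_iff.2 ⟨1, one_pow _, ?_⟩
        show _ = Matrix.diagonal d ^ 2
        rw [map_one]
        rw [Matrix.diagonal_pow, ← Matrix.diagonal_one]
        congr 1
        funext i
        by_cases h : i = i0 ∨ i = i1 <;> simp [hd, h]
      · obtain ⟨r, -, hr⟩ := Matrix.SpecialLinearGroup.mem_center_iff.1 hc
        have c0 := congrFun (congrFun hr i0) i0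
        have c2 := congrFun (congrFun hr i2) i2
        have e0 : d i0 = -1 := by simp [hd]
        have n0 : i2 ≠ i0 := Fin.ne_of_val_ne (show (2 : ℕ) ≠ 0 by omega)
        have n1 : i2 ≠ i1 := Fin.ne_of_val_ne (show (2 : ℕ) ≠ 1 by omega)
        have e2 : d i2 = 1 := by simp [hd, n0, n1]
        simp only [Matrix.scalar_apply, Matrix.diagonal_apply_eq] at c0 c2
        change r = d i0 at c0
        change r = d i2 at c2
        rw [e0] at c0
        rw [e2] at c2
        exact h2 rfl (by linear_combination c0 - c2)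
  · obtain ⟨π, hπ, hsign⟩ := exists_perm_prime (p := p) hodd hle
    have hdet : (Matrix.permMatrixHom π : M2).det = 1 := by
      show (π⁻¹.permMatrix F).det = 1
      rw [Matrix.det_permutation, map_inv, hsign]; simp
    refine ⟨⟨_, hdet⟩, fun σ => ?_, ?_, fun hc => ?_⟩
    · ext i j
      simp [Equiv.Perm.permMatrix, PEquiv.toMatrix_apply, apply_ite σ]
    · refine Matrix.SpecialLinearGroup.mem_center_iff.2 ⟨1, one_pow _, ?_⟩
      show _ = (Matrix.permMatrixHom π : M2) ^ p
      rw [map_one, ← map_pow, ← hπ, pow_orderOf_eq_one, map_one]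
    · obtain ⟨r, -, hr⟩ := Matrix.SpecialLinearGroup.mem_center_iff.1 hc
      have hπ1 : π⁻¹ = 1 := by
        refine permMatrix_inj (F := F) (c := r) ?_
        rw [Matrix.permMatrix_one, Matrix.smul_one_eq_diagonal, ← Matrix.scalar_apply]
        exact hr.symm
      rw [inv_eq_one] at hπ1
      rw [hπ1, orderOf_one] at hπ
      exact (Fact.out : p.Prime).ne_one hπ.symm

variable [Fintype F]

theorem exists_perp_ne {K : Type*} [Field K] (v : I → K) :
    ∃ w : I → K, w ⬝ᵥ v = 0 ∧ w ≠ 0 := by
  by_cases h : ∃ i, v i ≠ 0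
  · obtain ⟨i, hi⟩ := h
    obtain ⟨j, hj⟩ := exists_ne i
    refine ⟨v i • Pi.single j 1 - v j • Pi.single i 1, ?_, fun h0 => ?_⟩
    · simp [sub_dotProduct, mul_comm]
    · have := congrFun h0 j
      simp [hj] at this
      exact hi this
  · push Not at h
    exact ⟨Pi.single 0 1, by simp [h], by simp⟩

theorem crit_field_psl {r : ℕ} [Fact r.Prime] [CharP F r] {p : ℕ} [Fact p.Prime] (hpr : p ≠ r)
    {σ : F ≃+* F} (hσ : orderOf σ = p) :
    Crit p (semi (1 : G2) σ : MulAut PG) ∧
      (p = 2 → ¬ Nat.Coprime p (Nat.card (fixK (semi (1 : G2) σ : MulAut PG)))) := by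
  classical
  have hp : p.Prime := Fact.out
  haveI : Finite (F ≃+* F) := Finite.of_injective (fun a : F ≃+* F => (a : F → F)) DFunLike.coe_injective
  set F₀ := FieldAut.fixF σ with hF₀
  haveI : Fintype F₀ := Fintype.ofFinite _
  haveI : CharP F₀ r := Subfield.charP _ r
  set e : F₀ →+* F := F₀.subtype
  have hef : ∀ c, σ (e c) = e c := fun c => (FieldAut.mem_fixF σ).1 c.2
  set Ψ : MulAut SLg := semiSL 1 σ with hΨ
  have hΨc : ∀ s : SLg, (Ψ s : M2) = (s : M2).map σ := fun s => by
    rw [hΨ, AutPSL.semiSL_coe]; simp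
  let φ : Matrix.SpecialLinearGroup I F₀ →* PG := (proj I F).comp (Matrix.SpecialLinearGroup.map e)
  have hmapfix : ∀ s₀, Ψ (Matrix.SpecialLinearGroup.map e s₀) = Matrix.SpecialLinearGroup.map e s₀ :=
    fun s₀ => Subtype.ext (by
      rw [hΨc]
      ext i j
      exact hef _)
  have hrange : fixS Ψ = φ.range := by
    ext y
    constructor
    · rintro ⟨s, hs, rfl⟩
      have hent : ∀ i j, (s : M2) i j ∈ F₀ := fun i j =>
        (FieldAut.mem_fixF σ).2 (by
          conv_rhs => rw [← mem_fixK.1 hs, hΨc, Matrix.map_apply])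
      let M : Matrix I I F₀ := fun i j => ⟨_, hent i j⟩
      have hM : M.det = 1 := e.injective (by rw [RingHom.map_det, map_one]; exact s.2)
      exact ⟨⟨M, hM⟩, rfl⟩
    · rintro ⟨s₀, rfl⟩
      exact ⟨_, hmapfix s₀, rfl⟩
  have hTfix : ∀ v w : I → F₀, w ⬝ᵥ v = 0 →
      ((e ∘ w) ⬝ᵥ (e ∘ v) = 0) ∧ Ψ (tS (e ∘ v) (e ∘ w)) = tS (e ∘ v) (e ∘ w) := fun v w h => by
    have h' : (e ∘ w) ⬝ᵥ (e ∘ v) = 0 := by rw [← RingHom.map_dotProduct, h, map_zero]
    refine ⟨h', Subtype.ext ?_⟩
    rw [hΨc, AutPSL.tS_coe h']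
    ext i j
    by_cases hij : i = j <;> simp [hij, Matrix.vecMulVec_apply, hef]
  have hne : ∃ h, Ψ h = h ∧ h ∉ Subgroup.center SLg := by
    have h01 : (0 : I) ≠ 1 := by simp [Fin.ext_iff]
    obtain ⟨h', hfix⟩ := hTfix (Pi.single 0 1) (Pi.single 1 1) (by simp [h01])
    refine ⟨_, hfix, fun hc => AutPSL.T_ne_one (fun h => ?_) (fun h => ?_) h' ((QuotientGroup.eq_one_iff _).2 hc)⟩
    · simpa using congrFun h (0 : I)
    · simpa using congrFun h (1 : I)
  have hrad : p ∣ Nat.card (fixS Ψ) → ∀ M ≤ fixS Ψ, (∀ g ∈ fixS Ψ, ∀ a ∈ M, g * a * g⁻¹ ∈ M) →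
      (Nat.card M).Coprime p → ∀ a ∈ M, ∀ s ∈ fixS Ψ, a * s * a⁻¹ = s := by
    intro hd M hM hn hc a ha s hs
    rw [hrange] at hd hM hn hs
    by_cases hbig : 1 ≤ m ∨ 4 ≤ Nat.card F₀
    · haveI : IsSimpleGroup (Matrix.ProjectiveSpecialLinearGroup I F₀) := by
        by_cases hm : 1 ≤ m
        · exact Linear.isSimpleGroup_psl (by simp; omega)
        · obtain rfl : m = 0 := by omega
          exact Matrix.ProjectiveSpecialLinearGroup.rank_two_simple (hbig.resolve_left hm)
      haveI : IsSimpleGroup φ.range := by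
        refine isSimpleGroup_range φ (fun z hz => ?_) (fun h => ?_)
        · obtain ⟨c, -, hc'⟩ := Matrix.SpecialLinearGroup.mem_center_iff.1 hz
          refine AutPSL.proj_eq_one_of_forall (c := e c) ?_
          show (z : Matrix I I F₀).map e = _
          rw [← hc']
          ext i j; by_cases hij : i = j <;> simp [hij]
        · obtain ⟨x, hx, hxc⟩ := hne
          have h1 : (QuotientGroup.mk x : PG) ∈ φ.range := hrange ▸ mk_mem_fixS hx
          rw [h, Subgroup.mem_bot, QuotientGroup.eq_one_iff] at h1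
          exact hxc h1
      rw [show a = 1 from Subgroup.mem_bot.1 (rad_of_simple hd hM hn hc ▸ ha), one_mul, inv_one, mul_one]
    · push Not at hbig
      obtain ⟨hm, hq⟩ := hbig
      obtain rfl : m = 0 := by omega
      have hdvd : Nat.card φ.range ∣ Nat.card F₀ * (Nat.card F₀ ^ 2 - 1) := by
        rw [← GLOrder.card_SL_two]
        exact Subgroup.card_range_dvd φ
      have hq2 : 1 < Nat.card F₀ := Finite.one_lt_card
      have hrcast : (r : F₀) = 0 := CharP.cast_eq_zero F₀ r
      have hqr : r = Nat.card F₀ := by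
        have h0 : ((Nat.card F₀ : ℕ) : F₀) = 0 := by
          rw [Nat.card_eq_fintype_card]; exact Nat.cast_card_eq_zero F₀
        rw [CharP.cast_eq_zero_iff F₀ r] at h0
        have hle := Nat.le_of_dvd (by omega) h0
        have h2le := (Fact.out : r.Prime).two_le
        have hle3 : r < 4 := by omega
        interval_cases r <;> interval_cases h3 : Nat.card F₀ <;> omega
      have hcardM : Nat.card M ∣ Nat.card φ.range := Subgroup.card_dvd_of_le hM
      have hp2 := hp.two_le
      interval_cases h3 : Nat.card F₀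
      · -- `PSL₂(2)`
        have hp3 : p = 3 := by
          have h6 := Nat.le_of_dvd (by norm_num) (hd.trans hdvd)
          have h7 := hd.trans hdvd
          norm_num at h6
          interval_cases p <;> first | omega | norm_num at hp | norm_num at h7
        subst hp3
        have hM2 : Nat.card M ∣ 2 := ((hc : (Nat.card M).Coprime 3).dvd_of_dvd_mul_right (n := 3) (m := 2)
          ((hcardM.trans hdvd).trans (by norm_num)))
        have hnorm := hn s hs a ha
        by_cases ha1 : a = 1
        · rw [ha1]; group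
        have h2 : Nat.card M = 2 := by
          rcases (Nat.dvd_prime Nat.prime_two).1 hM2 with h | h
          · exact absurd (Subgroup.mem_bot.1 ((Subgroup.card_eq_one.1 h) ▸ ha)) ha1
          · exact h
        have hall : ∀ b ∈ M, b = 1 ∨ b = a := by
          intro b hb
          by_contra! hcon
          haveI : Fintype M := Fintype.ofFinite _
          have h3 : ({1, ⟨a, ha⟩, ⟨b, hb⟩} : Finset M).card = 3 := by
            rw [Finset.card_eq_three]
            exact ⟨_, _, _, fun e => ha1 (congrArg Subtype.val e).symm,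
              fun e => hcon.1 (congrArg Subtype.val e).symm,
              fun e => hcon.2 (congrArg Subtype.val e).symm, rfl⟩
          have h4 := Finset.card_le_univ ({1, ⟨a, ha⟩, ⟨b, hb⟩} : Finset M)
          rw [h3, ← Nat.card_eq_fintype_card, h2] at h4
          omega
        rcases hall _ hnorm with h | h
        · exact absurd (conj_eq_one_iff.1 h) ha1
        · rw [mul_inv_eq_iff_eq_mul] at h ⊢
          exact h.symm
      · -- `PSL₂(3)`
        subst hqr
        have hp2' : p = 2 := by
          have h24 := Nat.le_of_dvd (by norm_num) (hd.trans hdvd)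
          have h7 := hd.trans hdvd
          norm_num at h24
          interval_cases p <;> first | omega | norm_num at hp | norm_num at h7
        subst hp2'
        have hM3 : Nat.card M ∣ 3 := (hc.pow_right 3).dvd_of_dvd_mul_right (n := 2 ^ 3) (m := 3)
          ((hcardM.trans hdvd).trans (by norm_num))
        rcases (Nat.dvd_prime Nat.prime_three).1 hM3 with h | h
        · rw [Subgroup.card_eq_one.1 h, Subgroup.mem_bot] at ha
          rw [ha]; group
        exfalso
        haveI : (M.subgroupOf φ.range).Normal := ⟨fun b hb g => hn g.1 g.2 _ hb⟩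
        have hin : ∀ u ∈ φ.range, u ^ 3 = 1 → u ∈ M := by
          intro u hu hu3
          have h1 := Subgroup.pow_index_mem (M.subgroupOf φ.range) ⟨u, hu⟩
          have hidx : (M.subgroupOf φ.range).index ∣ 8 := by
            refine Nat.Coprime.dvd_of_dvd_mul_left (m := 3) (n := 8) ?_ ?_
            · refine (Nat.Prime.coprime_iff_not_dvd Nat.prime_three).2 (fun h9 => ?_) |>.symm
              have h10 := Subgroup.card_mul_index (M.subgroupOf φ.range)
              rw [Nat.card_congr (Subgroup.subgroupOfEquivOfLe hM).toEquiv, h] at h10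
              have h11 : 3 * 3 ∣ 24 := (Nat.mul_dvd_mul_left 3 h9).trans
                (h10 ▸ (hdvd.trans (by norm_num)))
              norm_num at h11
            · exact ((Subgroup.index_dvd_card _).trans hdvd).trans (by norm_num)
          obtain ⟨t, ht⟩ := hidx
          have h8 : (⟨u, hu⟩ : φ.range) ^ 8 ∈ M.subgroupOf φ.range := by
            rw [ht, pow_mul]; exact pow_mem h1 t
          have h9 : u ^ 8 ∈ M := h8
          have e9 : u = (u ^ 8) ^ 2 := by
            rw [← pow_mul, show 8 * 2 = 3 * 5 + 1 by norm_num, pow_succ, pow_mul, hu3, one_pow, one_mul]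
          exact e9 ▸ pow_mem h9 2
        obtain ⟨hA, hAf⟩ := hTfix (Pi.single 0 1) (Pi.single 1 1) (by simp)
        obtain ⟨hB, hBf⟩ := hTfix (Pi.single 1 1) (Pi.single 0 1) (by simp)
        have h3F : (3 : F) = 0 := by exact_mod_cast CharP.cast_eq_zero F 3
        have hT3 : ∀ {v w : Fin (0 + 2) → F}, w ⬝ᵥ v = 0 → T v w ^ 3 = 1 := fun {v w} hvw => by
          have h0 : w + w + w = 0 := by
            funext i; simp only [Pi.add_apply, Pi.zero_apply]; linear_combination (w i) * h3F
          rw [pow_succ, pow_two, ← AutPSL.T_add hvw hvw,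
            ← AutPSL.T_add (by rw [add_dotProduct, hvw, add_zero]) hvw, h0, AutPSL.T_zero_right]
        have mA := hin _ (hrange ▸ mk_mem_fixS hAf) (hT3 hA)
        have mB := hin _ (hrange ▸ mk_mem_fixS hBf) (hT3 hB)
        haveI : Fact (Nat.Prime 3) := ⟨Nat.prime_three⟩
        haveI := isCyclic_of_prime_card (p := 3) h
        obtain ⟨γ, hγ⟩ := IsCyclic.exists_generator (α := M)
        obtain ⟨i, hi⟩ := hγ ⟨_, mA⟩
        obtain ⟨j, hj⟩ := hγ ⟨_, mB⟩
        have hcom := congrArg Subtype.val (((Commute.refl γ).zpow_zpow i j).eq)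
        simp only at hi hj
        rw [hi, hj] at hcom
        change proj _ F (tS _ _) * proj _ F (tS _ _) = proj _ F (tS _ _) * proj _ F (tS _ _) at hcom
        rw [← map_mul, ← map_mul, AutPSL.proj_eq_iff] at hcom
        obtain ⟨c, -, hc'⟩ := hcom
        rw [Matrix.SpecialLinearGroup.coe_mul, Matrix.SpecialLinearGroup.coe_mul, AutPSL.tS_coe hA,
          AutPSL.tS_coe hB] at hc'
        have c01 := congrFun (congrFun hc' 0) 1
        have c11 := congrFun (congrFun hc' 1) 1
        simp [Matrix.mul_apply, Matrix.vecMulVec_apply, Fin.sum_univ_two] at c01 c11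
        subst c01
        exact (one_ne_zero (α := F)) (by linear_combination c11)
  have hrig : ∀ β : MulAut PG, β * semi 1 σ = semi 1 σ * β →
      (∀ h, Ψ h = h → β (QuotientGroup.mk h) = QuotientGroup.mk h) → β ^ p = 1 := by
    intro β _ hk
    have hT : ∀ v w : I → F₀, w ⬝ᵥ v = 0 → β (T (e ∘ v) (e ∘ w)) = T (e ∘ v) (e ∘ w) :=
      fun v w h => hk _ (hTfix v w h).2
    obtain ⟨g, τ, rfl⟩ : ∃ g τ, β = semi g τ := by
      rcases Nat.eq_zero_or_pos m with rfl | hm
      · exact AutPSL.exists_semi_of_two β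
      rcases AutPSL.exists_semi_or β with h | ⟨g, τ, rfl⟩
      · exact h
      exfalso
      have h01 : (0 : I) ≠ 1 := by simp [Fin.ext_iff]
      set i2 : I := ⟨2, by omega⟩
      have h02 : (0 : I) ≠ i2 := by simp [i2, Fin.ext_iff]
      have key : ∀ i : I, (0 : I) ≠ i →
          ∃ l : F, l ≠ 0 ∧ (g : M2) *ᵥ Pi.single i 1 = l • (Pi.single 0 1 : I → F) := by
        intro i hi
        have h := hT (Pi.single 0 1) (Pi.single i 1) (by simp [hi])
        have es : ∀ a : I, e ∘ (Pi.single a 1 : I → F₀) = (Pi.single a 1 : I → F) := fun a => by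
          funext b; simp [Pi.single_apply, apply_ite e]
        have h0 : (Pi.single i 1 : I → F) ⬝ᵥ Pi.single 0 1 = 0 := by simp [hi]
        rw [es, es, MulAut.mul_apply, AutPSL.invT_T h0] at h
        have h0' : (-Pi.single 0 1 : I → F) ⬝ᵥ Pi.single i 1 = 0 := by simp [hi.symm]
        obtain ⟨e1, e2⟩ := AutPSL.semi_T g τ h0'
        rw [e1] at h
        obtain ⟨k, hk0, hk1, -⟩ := AutPSL.T_inj (by simp) (by simp) h0 e2 h.symm
        exact ⟨k, hk0, by rw [← hk1]; congr 1; funext b; simp [AutPSL.smap, Pi.single_apply, apply_ite τ]⟩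
      obtain ⟨l, hl, h1⟩ := key 1 h01
      obtain ⟨l', hl', h2'⟩ := key i2 h02
      have h3 : (g : M2) *ᵥ (l' • Pi.single 1 1 - l • Pi.single i2 1) = 0 := by
        rw [Matrix.mulVec_sub, Matrix.mulVec_smul, Matrix.mulVec_smul, h1, h2', smul_comm, sub_self]
      have h4 := Matrix.mulVec_injective_of_isUnit g.isUnit (h3.trans (Matrix.mulVec_zero _).symm)
      have h12 : (1 : I) ≠ i2 := by simp [i2, Fin.ext_iff]
      have h5 := congrFun h4 1
      simp [h12] at h5
      exact hl' h5
    obtain ⟨hτ, a, ha⟩ := fix_of_eigen e 1 g τ fun v => by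
      obtain ⟨w, hw, hw0⟩ := exists_perp_ne v
      obtain ⟨l, hl⟩ := semi_fix_eigen (hTfix v w hw).1
        (fun h => hw0 (funext fun i => e.injective ((congrFun h i).trans (map_zero e).symm))) (hT v w hw)
      exact ⟨l, by simpa using hl⟩
    rw [map_one, inv_one, one_mul, mul_one] at ha
    obtain ⟨i, rfl⟩ := mem_powers_iff_mem_zpowers.2 (mem_zpowers_of_fix (σ := σ) (τ := τ)
      fun c hc => hτ ⟨c, (FieldAut.mem_fixF σ).2 hc⟩)
    rw [semi_eq_std _ ha, AutPSL.field_pow]
    show semi (1 : G2) ((σ ^ i) ^ p) = 1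
    rw [← pow_mul, mul_comm, pow_mul, ← hσ, pow_orderOf_eq_one, one_pow]
    exact AutPSL.semi_one
  have hx : ∀ h : SLg, semi (1 : G2) σ (QuotientGroup.mk h) = QuotientGroup.mk (Ψ h) := fun _ => rfl
  rcases hp.eq_two_or_odd' with hp2 | hodd
  · have h2F : (2 : F) ≠ 0 := fun h => by
      have h' : ((2 : ℕ) : F) = 0 := by exact_mod_cast h
      rw [CharP.cast_eq_zero_iff F r] at h'
      exact hpr (hp2.trans ((Nat.prime_dvd_prime_iff_eq Fact.out Nat.prime_two).1 h').symm)
    obtain ⟨hc, he⟩ := crit_lift (p := p) Ψ _ hx (N := (m + 2) * 2)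
      (fun z hz => by rw [pow_mul, pow_center hz, one_pow]) pslConj_injective hne
      (fun _ => by
        obtain ⟨s, hs, hsp, hsc⟩ := exists_rational_elt (m := m) p (fun _ => h2F) (.inl hp2)
        exact ⟨s, Subtype.ext ((hΨc s).trans (hs σ)), hsp, hsc⟩) hrad hrig
    exact ⟨hc, fun _ => he (by rw [hp2]; exact dvd_mul_left 2 _)⟩
  · refine ⟨(crit_lift (p := p) Ψ _ hx (N := m + 2) (fun z hz => pow_center hz) pslConj_injective hne
      (fun hd => ?_) hrad hrig).1, fun h => absurd (h ▸ hodd) (by decide)⟩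
    obtain ⟨s, hs, hsp, hsc⟩ := exists_rational_elt (F := F) (m := m) p
      (fun h => absurd (h ▸ hodd) (by decide)) (.inr ⟨hodd, Nat.le_of_dvd (by omega) hd⟩)
    exact ⟨s, Subtype.ext ((hΨc s).trans (hs σ)), hsp, hsc⟩

end Cfsg.Agent.LocalBalance
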