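import Cfsg.Agent.Lib.LocalBalance.Lift
import Cfsg.Agent.Lib.LocalBalance.Commutant
import Cfsg.Agent.Lib.AutPSL.GraphTwo
import Cfsg.Agent.S0270

/-!
# Isometry groups of bilinear forms over a subfield inside `GL_n`

* `ιGL k e` : `a ↦ k (e a) k⁻¹`
* `altTransv`, `fix_of_alt` : rigidity of the isometries of an alternating form
* `simple_image_alt` : their image modulo scalars is simple
* `iotaEmb`, `fix_of_symm`, `exists_unipotent_symm` : rigidity of the isometries of a symmetric form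
* `exists_iso_of_odd_pow`, `core_symm` : normal subgroups of odd order
-/

set_option autoImplicit false
set_option linter.unusedSectionVars false

namespace Cfsg.Agent.LocalBalance

open scoped MatrixGroups Matrix
open Cfsg.Agent.FieldAut (galGL mapGL scal scal_coe)
open Cfsg.Agent.AutPSL (isoMat mem_isoMat qfOf polar_qfOf qfOf_apply)
open QuadraticMap (polar)

variable {F : Type*} [Field F] {F₀ : Type*} [Field F₀] {n : ℕ}

local notation "I" => Fin n

/-- `a ↦ k (e a) k⁻¹`. -/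
noncomputable def ιGL (k : GL I F) (e : F₀ →+* F) : GL I F₀ →* GL I F :=
  (MulAut.conj k).toMonoidHom.comp (mapGL e)

theorem ιGL_apply (k : GL I F) (e : F₀ →+* F) (a : GL I F₀) : ιGL k e a = k * mapGL e a * k⁻¹ := rfl

theorem ιGL_mulVec (k : GL I F) (e : F₀ →+* F) (a : GL I F₀) (y : I → F) :
    (ιGL k e a : Matrix I I F) *ᵥ y =
      (k : Matrix I I F) *ᵥ (((a : Matrix I I F₀).map e) *ᵥ (((k⁻¹ : GL I F) : Matrix I I F) *ᵥ y)) := by
  rw [ιGL_apply, Units.val_mul, Units.val_mul, ← Matrix.mulVec_mulVec, ← Matrix.mulVec_mulVec]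
  rfl

theorem ιGL_det (k : GL I F) (e : F₀ →+* F) (a : GL I F₀) :
    (ιGL k e a : Matrix I I F).det = e (a : Matrix I I F₀).det := by
  rw [ιGL_apply, Units.val_mul, Units.val_mul, Matrix.det_units_conj, RingHom.map_det]
  rfl

theorem ιGL_injective (k : GL I F) (e : F₀ →+* F) : Function.Injective (ιGL k e) := fun a b h => by
  refine Units.ext (Matrix.map_injective e.injective ?_)
  exact congrArg Units.val ((MulAut.conj k).injective h)

theorem ιGL_unipotent (k : GL I F) (e : F₀ →+* F) {a : GL I F₀}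
    (ha : IsNilpotent ((a : Matrix I I F₀) - 1)) : IsNilpotent ((ιGL k e a : Matrix I I F) - 1) := by
  have h := (ha.map e.mapMatrix).map (FieldAut.conjRing k)
  rwa [map_sub e.mapMatrix, map_one e.mapMatrix, map_sub (FieldAut.conjRing k),
    map_one (FieldAut.conjRing k)] at h

theorem ιGL_scal (k : GL I F) (e : F₀ →+* F) (c : F₀ˣ) :
    ιGL k e (scal c) = scal (Units.map e.toMonoidHom c) := by
  have hm : mapGL e (scal c : GL I F₀) = scal (Units.map e.toMonoidHom c) := by
    ext i j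
    by_cases h : i = j <;> simp [FieldAut.mapGL_coe, scal_coe, h]
  rw [ιGL_apply, hm, ← FieldAut.scal_comm, mul_inv_cancel_right]

theorem exists_scal_of_ιGL [Nonempty I] (k : GL I F) (e : F₀ →+* F) {a : GL I F₀} {c : Fˣ}
    (h : ιGL k e a = scal c) : ∃ c₀ : F₀ˣ, a = scal c₀ := by
  rw [ιGL_apply, mul_inv_eq_iff_eq_mul, FieldAut.scal_comm, mul_right_inj] at h
  obtain ⟨i⟩ := (inferInstance : Nonempty I)
  have he : ∀ r s, e ((a : Matrix I I F₀) r s) = if r = s then (c : F) else 0 := fun r s => by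
    have h1 := congrFun (congrFun (congrArg (Units.val : GL I F → Matrix I I F) h) r) s
    rw [scal_coe, FieldAut.mapGL_coe] at h1
    simpa [Matrix.one_apply] using h1
  have hne : (a : Matrix I I F₀) i i ≠ 0 := fun h0 => c.ne_zero (by
    have := he i i
    rwa [h0, map_zero, if_pos rfl, eq_comm] at this)
  refine ⟨Units.mk0 _ hne, Units.ext (Matrix.ext fun r s => e.injective ?_)⟩
  rw [scal_coe, he, Matrix.smul_apply, Units.val_mk0, Matrix.one_apply, smul_eq_mul]
  split_ifs <;> simp [he]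

/-! ### Alternating forms -/

section Alt

variable {H : GL (Fin n) F₀}
  (halt : ∀ x : Fin n → F₀, x ⬝ᵥ ((H : Matrix (Fin n) (Fin n) F₀) *ᵥ x) = 0)
include halt

theorem alt_swap (x y : I → F₀) :
    y ⬝ᵥ ((H : Matrix I I F₀) *ᵥ x) = -(x ⬝ᵥ ((H : Matrix I I F₀) *ᵥ y)) := by
  have h := halt (x + y)
  rw [Matrix.mulVec_add, add_dotProduct, dotProduct_add, dotProduct_add, halt, halt] at h
  linear_combination h

theorem altTransv_exists (v : I → F₀) :
    ∃ u : GL I F₀, (u : Matrix I I F₀) = 1 + Matrix.vecMulVec v ((H : Matrix I I F₀) *ᵥ v) ∧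
      u ∈ isoMat (H : Matrix I I F₀) ∧ (u : Matrix I I F₀).det = 1 ∧
      IsNilpotent ((u : Matrix I I F₀) - 1) := by
  set w := (H : Matrix I I F₀) *ᵥ v with hw
  have hwv : w ⬝ᵥ v = 0 := by rw [dotProduct_comm]; exact halt v
  refine ⟨Matrix.SpecialLinearGroup.toGL (AutPSL.tS v w), AutPSL.tS_coe hwv, ?_,
    (AutPSL.tS v w).2, ⟨2, ?_⟩⟩
  · refine AutPSL.eq_of_dot fun x y => ?_
    rw [← AutPSL.dot_congr]
    show ((AutPSL.tS v w : Matrix I I F₀) *ᵥ x) ⬝ᵥ
      ((H : Matrix I I F₀) *ᵥ ((AutPSL.tS v w : Matrix I I F₀) *ᵥ y)) = _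
    rw [AutPSL.tS_mulVec hwv, AutPSL.tS_mulVec hwv, Matrix.mulVec_add, Matrix.mulVec_smul, ← hw]
    simp only [add_dotProduct, dotProduct_add, smul_dotProduct, dotProduct_smul, smul_eq_mul]
    have h1 : x ⬝ᵥ w = w ⬝ᵥ x := dotProduct_comm _ _
    have h2 : v ⬝ᵥ ((H : Matrix I I F₀) *ᵥ y) = -(w ⬝ᵥ y) := by
      rw [alt_swap halt, ← hw, dotProduct_comm]
    have h3 : v ⬝ᵥ w = 0 := by rw [dotProduct_comm]; exact hwv
    rw [h1, h2, h3]
    ring
  · show ((AutPSL.tS v w : Matrix I I F₀) - 1) ^ 2 = 0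
    rw [AutPSL.tS_coe hwv, add_sub_cancel_left, pow_two, AutPSL.vecMulVec_mul_vecMulVec', hwv, zero_smul]

theorem fix_of_alt [Nontrivial I] (k : GL I F) (e : F₀ →+* F) {g : GL I F} {τ : F ≃+* F}
    (hfix : ∀ a ∈ isoMat (H : Matrix I I F₀), (a : Matrix I I F₀).det = 1 →
      IsNilpotent ((a : Matrix I I F₀) - 1) → g * galGL τ (ιGL k e a) * g⁻¹ = ιGL k e a) :
    (∀ c, τ (e c) = e c) ∧ ∃ a : Fˣ, g = scal a * (k * (galGL τ k)⁻¹) := by
  refine fix_of_eigen e k g τ fun v => ?_
  by_cases hv : v = 0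
  · refine ⟨0, ?_⟩
    subst hv
    rw [show e ∘ (0 : I → F₀) = 0 from funext fun _ => map_zero e, Matrix.mulVec_zero,
      show τ ∘ (0 : I → F) = 0 from funext fun _ => map_zero τ, Matrix.mulVec_zero, smul_zero]
  obtain ⟨u, hu, hiso, hdet, hnil⟩ := altTransv_exists halt v
  set w := (H : Matrix I I F₀) *ᵥ v with hw
  refine eigen_of_fix (hfix u hiso hdet hnil)
    (w := (e ∘ w) ᵥ* ((k⁻¹ : GL I F) : Matrix I I F)) (fun h0 => ?_) ?_
  · have h1 := congrArg (fun z => z ᵥ* (k : Matrix I I F)) h0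
    simp only [Matrix.vecMul_vecMul, Units.inv_mul, Matrix.vecMul_one, Matrix.zero_vecMul] at h1
    have h2 : w = 0 := funext fun i => e.injective ((congrFun h1 i).trans (map_zero e).symm)
    exact hv (Matrix.mulVec_injective_of_isUnit H.isUnit (h2.trans (Matrix.mulVec_zero _).symm))
  · have hmap : (u : Matrix I I F₀).map e = 1 + Matrix.vecMulVec (e ∘ v) (e ∘ w) := by
      rw [hu]
      ext i j
      by_cases h : i = j <;> simp [h, Matrix.vecMulVec_apply]
    rw [ιGL_apply, Units.val_mul, Units.val_mul, FieldAut.mapGL_coe, hmap, mul_add, mul_one, add_mul,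
      Units.mul_inv, Matrix.mul_vecMulVec, Matrix.vecMulVec_mul]

theorem simple_image_alt [Fintype F₀] (h2 : (2 : F₀) ≠ 0) {l : ℕ} (hl : n = 2 * l) (hl2 : 2 ≤ l)
    {X : Type*} [Group X] (f : isoMat (H : Matrix I I F₀) →* X)
    (hker : ∀ (a : isoMat (H : Matrix I I F₀)) (c : F₀ˣ), (a : GL I F₀) = scal c → f a = 1) (hne : f.range ≠ ⊥) :
    IsSimpleGroup f.range := by
  let g : Fin l ⊕ Fin l ≃ I := Fintype.equivOfCardEq (by simp [hl, two_mul])
  obtain ⟨P, hP⟩ := AutPSL.exists_congr_negJ (Equiv.refl I) g (H : Matrix I I F₀) halt H.det_ne_zero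
  set M := (-(Matrix.J (Fin l) F₀)).submatrix (g.trans (Equiv.refl I)).symm (g.trans (Equiv.refl I)).symm
    with hM
  let h : Matrix.symplecticGroup (Fin l) F₀ →* isoMat (H : Matrix I I F₀) :=
    ((MulAut.conj P).toMonoidHom.comp ((AutPSL.glReindex g).toMonoidHom.comp
      (Matrix.symplecticGroup (Fin l) F₀).subtype.toHomUnits)).codRestrict _ fun a => by
      show P * AutPSL.glReindex g ((Matrix.symplecticGroup (Fin l) F₀).subtype.toHomUnits a) * P⁻¹ ∈ _
      set b := AutPSL.glReindex g ((Matrix.symplecticGroup (Fin l) F₀).subtype.toHomUnits a) with hbdef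
      have hb : (b : Matrix I I F₀)ᵀ * M * (b : Matrix I I F₀) = M := by
        rw [hbdef, AutPSL.glReindex_coe, hM]
        show (a.1.submatrix g.symm g.symm)ᵀ * _ * a.1.submatrix g.symm g.symm = _
        rw [Matrix.transpose_submatrix, Equiv.trans_refl, Matrix.submatrix_mul_equiv,
          Matrix.submatrix_mul_equiv]
        congr 1
        rw [Matrix.mul_neg, Matrix.neg_mul]
        exact congrArg Neg.neg (SymplecticGroup.mem_iff'.1 a.2)
      rw [mem_isoMat]
      have hPb : (P : Matrix I I F₀)ᵀ * ((P * b * P⁻¹ : GL I F₀) : Matrix I I F₀)ᵀ *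
          (H : Matrix I I F₀) * (((P * b * P⁻¹ : GL I F₀) : Matrix I I F₀) * (P : Matrix I I F₀)) =
          M := by
        rw [← Matrix.transpose_mul, ← Units.val_mul, inv_mul_cancel_right, Units.val_mul,
          Matrix.transpose_mul,
          show (b : Matrix I I F₀)ᵀ * (P : Matrix I I F₀)ᵀ * (H : Matrix I I F₀) *
              ((P : Matrix I I F₀) * (b : Matrix I I F₀)) =
            (b : Matrix I I F₀)ᵀ * ((P : Matrix I I F₀)ᵀ * (H : Matrix I I F₀) * (P : Matrix I I F₀)) *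
              (b : Matrix I I F₀) by noncomm_ring, hP, hb]
      have hunit : IsUnit (P : Matrix I I F₀) := P.isUnit
      have hunitT : IsUnit (P : Matrix I I F₀)ᵀ := (Matrix.isUnit_transpose _).2 hunit
      refine hunit.mul_left_injective (hunitT.mul_right_injective ?_)
      simp only [← mul_assoc] at hPb ⊢
      rw [hPb, hP]
  have hsurj : Function.Surjective h := by
    rintro ⟨a, ha⟩
    set b := (AutPSL.glReindex g).symm (P⁻¹ * a * P) with hb
    have hbM : ((P⁻¹ * a * P : GL I F₀) : Matrix I I F₀)ᵀ * M * ((P⁻¹ * a * P : GL I F₀) : Matrix I I F₀)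
        = M := by
      rw [← hP, show ((P⁻¹ * a * P : GL I F₀) : Matrix I I F₀)ᵀ *
          ((P : Matrix I I F₀)ᵀ * (H : Matrix I I F₀) * (P : Matrix I I F₀)) *
          ((P⁻¹ * a * P : GL I F₀) : Matrix I I F₀) =
        (((P : Matrix I I F₀) * ((P⁻¹ * a * P : GL I F₀) : Matrix I I F₀))ᵀ * (H : Matrix I I F₀) *
          ((P : Matrix I I F₀) * ((P⁻¹ * a * P : GL I F₀) : Matrix I I F₀))) by
          rw [Matrix.transpose_mul]; noncomm_ring]
      rw [← Units.val_mul, ← mul_assoc, mul_inv_cancel_left, Units.val_mul, Matrix.transpose_mul,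
        show (P : Matrix I I F₀)ᵀ * (a : Matrix I I F₀)ᵀ * (H : Matrix I I F₀) *
            ((a : Matrix I I F₀) * (P : Matrix I I F₀)) =
          (P : Matrix I I F₀)ᵀ * ((a : Matrix I I F₀)ᵀ * (H : Matrix I I F₀) * (a : Matrix I I F₀)) *
            (P : Matrix I I F₀) by noncomm_ring, mem_isoMat.1 ha]
    have hbs : (b : Matrix (Fin l ⊕ Fin l) (Fin l ⊕ Fin l) F₀) ∈ Matrix.symplecticGroup (Fin l) F₀ := by
      have e1 : (P⁻¹ * a * P : GL I F₀) = AutPSL.glReindex g b := ((AutPSL.glReindex g).apply_symm_apply _).symm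
      rw [e1, AutPSL.glReindex_coe, hM, Equiv.trans_refl] at hbM
      rw [SymplecticGroup.mem_iff']
      have h1 := congrArg (fun Y => Y.submatrix g g) hbM
      rw [Matrix.transpose_submatrix, Matrix.submatrix_mul_equiv, Matrix.submatrix_mul_equiv] at h1
      simp only [Matrix.submatrix_submatrix, Equiv.symm_comp_self, Matrix.submatrix_id_id, Matrix.mul_neg,
        Matrix.neg_mul, neg_inj] at h1
      exact h1
    refine ⟨⟨_, hbs⟩, Subtype.ext ?_⟩
    show P * AutPSL.glReindex g ((Matrix.symplecticGroup (Fin l) F₀).subtype.toHomUnits ⟨_, hbs⟩) * P⁻¹ = a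
    rw [show (Matrix.symplecticGroup (Fin l) F₀).subtype.toHomUnits ⟨_, hbs⟩ = b from Units.ext rfl, hb,
      MulEquiv.apply_symm_apply]
    group
  have hr : (f.comp h).range = f.range := by
    rw [MonoidHom.range_comp, MonoidHom.range_eq_top.2 hsurj, MonoidHom.range_eq_map]
  haveI : IsSimpleGroup (Matrix.symplecticGroup (Fin l) F₀ ⧸
      Subgroup.center (Matrix.symplecticGroup (Fin l) F₀)) :=
    S0270.result l hl2 fun _ => by
      have h1 : 1 < Fintype.card F₀ := Fintype.one_lt_card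
      by_contra h3
      have h2' : Fintype.card F₀ = 2 := by omega
      exact h2 (by
        have := Nat.cast_card_eq_zero F₀
        rw [h2'] at this
        exact_mod_cast this)
  have hsimple := isSimpleGroup_range (f.comp h) (fun z hz => ?_) (by rw [hr]; exact hne)
  · rwa [hr] at hsimple
  · have hz' := hz
    rw [GLOrder.center_Sp] at hz'
    rw [MonoidHom.mem_ker, MonoidHom.comp_apply]
    have key : ∀ c : F₀ˣ, z.1 = (c : F₀) • 1 → f (h z) = 1 := fun c hc => hker _ c <| by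
      show P * AutPSL.glReindex g ((Matrix.symplecticGroup (Fin l) F₀).subtype.toHomUnits z) * P⁻¹ =
        scal c
      rw [show AutPSL.glReindex g ((Matrix.symplecticGroup (Fin l) F₀).subtype.toHomUnits z) = scal c
          from Units.ext (by
          rw [AutPSL.glReindex_coe, scal_coe]
          show z.1.submatrix g.symm g.symm = _
          rw [hc]
          ext i j
          by_cases hij : i = j <;> simp [hij]), ← FieldAut.scal_comm, mul_inv_cancel_right]
    rcases hz' with e1 | e1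
    · exact key 1 (by rw [Units.val_one, one_smul]; exact e1)
    · exact key (-1) (by rw [Units.val_neg, Units.val_one, neg_one_smul]; exact e1)

end Alt

/-! ### Symmetric forms -/

section Symm

variable [Fintype F₀] {H : GL (Fin n) F₀}
  (hH : (H : Matrix (Fin n) (Fin n) F₀)ᵀ = (H : Matrix (Fin n) (Fin n) F₀))
  (h2 : (2 : F₀) ≠ 0)
include hH h2

local notation "QH" => qfOf (H : Matrix (Fin n) (Fin n) F₀)

theorem qfH_nondeg : (QH).polarBilin.Nondegenerate := by
  refine LinearMap.BilinForm.nondegenerate_toMatrix'_iff.1 (Matrix.nondegenerate_iff_det_ne_zero.2 ?_)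
  rw [AutPSL.toMatrix_qfOf hH, Matrix.det_smul]
  exact mul_ne_zero (pow_ne_zero _ h2) H.det_ne_zero

theorem mem_iso_qfH {a : GL I F₀} :
    a ∈ Cfsg.isometryGroup F₀ ⇑QH ↔ a ∈ isoMat (H : Matrix I I F₀) := by
  rw [FieldAut.mem_iso_iff, mem_isoMat]
  constructor
  · intro h
    refine AutPSL.eq_of_dot fun x y => mul_left_cancel₀ h2 ?_
    rw [← AutPSL.dot_congr, ← polar_qfOf hH, ← polar_qfOf hH]
    simp only [polar, ← Matrix.mulVec_add, h]
  · intro h v
    have h1 := AutPSL.dot_congr (H : Matrix I I F₀) (a : Matrix I I F₀) v v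
    rw [h] at h1
    rw [qfOf_apply, qfOf_apply, h1]

theorem iso_det_of_omega {a : Orth.IsoGrp QH} (ha : a ∈ Cfsg.Omega F₀ ⇑QH) :
    ((a : GL I F₀) : Matrix I I F₀).det = 1 := by
  have h := Abelianization.commutator_subset_ker
    ((Matrix.GeneralLinearGroup.det).comp (Cfsg.isometryGroup F₀ ⇑QH).subtype) ha
  exact congrArg Units.val h

variable (k : GL (Fin n) F) (e : F₀ →+* F)

/-- The form over `F₀` inside `F^n`. -/
noncomputable def iotaEmb : Emb QH F (I → F) where
  e := e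
  j :=
    { toFun := fun v => (k : Matrix I I F) *ᵥ (e ∘ v)
      map_zero' := by
        rw [show e ∘ (0 : I → F₀) = 0 from funext fun _ => map_zero e, Matrix.mulVec_zero]
      map_add' := fun v v' => by
        rw [← Matrix.mulVec_add]; congr 1; exact funext fun _ => map_add e _ _ }
  B u :=
    { toFun := fun y => (e ∘ ((2 : F₀) • ((H : Matrix I I F₀) *ᵥ u))) ⬝ᵥ
        (((k⁻¹ : GL I F) : Matrix I I F) *ᵥ y)
      map_add' := fun y y' => by rw [Matrix.mulVec_add, dotProduct_add]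
      map_smul' := fun c y => by rw [Matrix.mulVec_smul, dotProduct_smul]; rfl }
  j_smul c v := by
    show (k : Matrix I I F) *ᵥ _ = _ • ((k : Matrix I I F) *ᵥ _)
    rw [← Matrix.mulVec_smul]
    congr 1
    exact funext fun i => map_mul e c (v i)
  B_j u v := by
    show (e ∘ _) ⬝ᵥ (((k⁻¹ : GL I F) : Matrix I I F) *ᵥ ((k : Matrix I I F) *ᵥ (e ∘ v))) = _
    rw [Matrix.mulVec_mulVec, ← Units.val_mul, inv_mul_cancel, Units.val_one, Matrix.one_mulVec,
      ← RingHom.map_dotProduct, polar_qfOf hH, smul_dotProduct, smul_eq_mul, dotProduct_comm,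
      Matrix.dotProduct_mulVec v, ← Matrix.mulVec_transpose, hH, dotProduct_comm]

theorem iotaEmb_ej {u w : I → F₀} (hu : QH u = 0) (huw : polar ⇑QH u w = 0) (y : I → F) :
    (iotaEmb hH k e).ej u w y =
      (ιGL k e (Orth.eich QH u w : GL I F₀) : Matrix I I F) *ᵥ y := by
  set M : Matrix I I F := ((Orth.eich QH u w : GL I F₀) : Matrix I I F₀).map e
  obtain ⟨z, rfl⟩ : ∃ z, y = (k : Matrix I I F) *ᵥ z :=
    ⟨((k⁻¹ : GL I F) : Matrix I I F) *ᵥ y, by
      rw [Matrix.mulVec_mulVec, ← Units.val_mul, mul_inv_cancel, Units.val_one, Matrix.one_mulVec]⟩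
  rw [ιGL_mulVec, Matrix.mulVec_mulVec z, ← Units.val_mul, inv_mul_cancel, Units.val_one, Matrix.one_mulVec]
  have hB : ∀ a, (iotaEmb hH k e).B a ((k : Matrix I I F) *ᵥ z) =
      (e ∘ ((2 : F₀) • ((H : Matrix I I F₀) *ᵥ a))) ⬝ᵥ z := fun a => by
    show _ ⬝ᵥ (((k⁻¹ : GL I F) : Matrix I I F) *ᵥ _) = _
    rw [Matrix.mulVec_mulVec, ← Units.val_mul, inv_mul_cancel, Units.val_one, Matrix.one_mulVec]
  show _ = (k : Matrix I I F) *ᵥ (M *ᵥ z)
  rw [Emb.ej, hB, hB]
  show (k : Matrix I I F) *ᵥ z + _ • ((k : Matrix I I F) *ᵥ (e ∘ w)) -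
    _ • ((k : Matrix I I F) *ᵥ (e ∘ u)) = _
  rw [← Matrix.mulVec_smul (k : Matrix I I F), ← Matrix.mulVec_smul (k : Matrix I I F), ← Matrix.mulVec_add,
    ← Matrix.mulVec_sub]
  congr 1
  have hM : ∀ r s, M r s = e ((if r = s then 1 else 0) +
      ((2 : F₀) • ((H : Matrix I I F₀) *ᵥ u)) s * w r -
      (((2 : F₀) • ((H : Matrix I I F₀) *ᵥ w)) s + QH w * ((2 : F₀) • ((H : Matrix I I F₀) *ᵥ u)) s) * u r) :=
    fun r s => by
    have hc := congrFun (Orth.eich_ap (Q := QH) hu huw (Pi.single s 1)) r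
    rw [Orth.ap_apply, Matrix.mulVec_single_one] at hc
    show e (((Orth.eich QH u w : GL I F₀) : Matrix I I F₀) r s) = _
    rw [show ((Orth.eich QH u w : GL I F₀) : Matrix I I F₀) r s = _ from hc]
    congr 1
    have hp : ∀ a : I → F₀, polar ⇑QH a (Pi.single s 1) = ((2 : F₀) • ((H : Matrix I I F₀) *ᵥ a)) s :=
      fun a => by
        rw [polar_qfOf hH, Pi.smul_apply, smul_eq_mul, Matrix.dotProduct_mulVec, ← Matrix.mulVec_transpose,
          hH, dotProduct_single_one]
    rw [hp, hp]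
    simp [Pi.single_apply]
  revert hM
  generalize (2 : F₀) • ((H : Matrix I I F₀) *ᵥ u) = A
  generalize (2 : F₀) • ((H : Matrix I I F₀) *ᵥ w) = B
  intro hM
  funext r
  simp only [Matrix.mulVec, dotProduct, hM, map_add, map_sub, map_mul, apply_ite e, map_one, map_zero,
    Pi.add_apply, Pi.sub_apply, Pi.smul_apply, Function.comp_apply, smul_eq_mul, add_mul, sub_mul,
    Finset.sum_add_distrib, Finset.sum_sub_distrib, Finset.sum_mul, Finset.mul_sum, ite_mul, one_mul,
    zero_mul, Finset.sum_ite_eq, Finset.mem_univ, if_true]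
  simp only [iotaEmb, mul_assoc, mul_comm, mul_left_comm]

theorem omega_eich (hn : 3 ≤ n) (u w : I → F₀) : Orth.eich QH u w ∈ Cfsg.Omega F₀ ⇑QH := by
  refine Orth.eichGen_le_omega (qfH_nondeg hH h2) (by simpa using hn) (.inl ?_)
    (Orth.eich_mem_eichGen u w)
  exact ⟨2, h2, fun h => one_ne_zero (α := F₀) (by linear_combination h)⟩

theorem fix_of_symm (hn : 3 ≤ n) {g : GL I F} {τ : F ≃+* F}
    (hfix : ∀ a ∈ isoMat (H : Matrix I I F₀), (a : Matrix I I F₀).det = 1 →
      IsNilpotent ((a : Matrix I I F₀) - 1) → g * galGL τ (ιGL k e a) * g⁻¹ = ιGL k e a) :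
    (∀ c, τ (e c) = e c) ∧ ∃ a : Fˣ, g = scal a * (k * (galGL τ k)⁻¹) := by
  let S : (I → F) →+ (I → F) :=
    { toFun := fun y => (g : Matrix I I F) *ᵥ (τ ∘ y)
      map_zero' := by rw [show τ ∘ (0 : I → F) = 0 from funext fun _ => map_zero τ, Matrix.mulVec_zero]
      map_add' := fun x y => by
        rw [← Matrix.mulVec_add]; congr 1; exact funext fun _ => map_add τ _ _ }
  obtain ⟨a, ha⟩ := (iotaEmb hH k e).scalar_of_commutant S (fun u w hu huw y => by
    rw [iotaEmb_ej hH h2 k e hu huw, iotaEmb_ej hH h2 k e hu huw]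
    have h := hfix _ ((mem_iso_qfH hH h2).1 (Orth.eich QH u w).2)
      (iso_det_of_omega hH h2 (omega_eich hH h2 hn u w)) (FieldAut.eich_unipotent hu huw)
    rw [mul_inv_eq_iff_eq_mul] at h
    show (g : Matrix I I F) *ᵥ (τ ∘ (_ *ᵥ y)) = _ *ᵥ ((g : Matrix I I F) *ᵥ (τ ∘ y))
    rw [← FieldAut.galGL_mulVec, Matrix.mulVec_mulVec, Matrix.mulVec_mulVec, ← Units.val_mul, h,
      Units.val_mul]) (qfH_nondeg hH h2) (by simpa using hn)
  haveI : Nontrivial I := Fin.nontrivial_iff_two_le.2 (by omega)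
  exact fix_of_eigen e k g τ fun v => ⟨a, ha v⟩

/-- Some unipotent isometry is non-trivial. -/
theorem exists_unipotent_symm (hn : 3 ≤ n) :
    ∃ a ∈ isoMat (H : Matrix I I F₀), (a : Matrix I I F₀).det = 1 ∧
      IsNilpotent ((a : Matrix I I F₀) - 1) ∧ a ≠ 1 := by
  by_contra! hall
  let i0 : I := ⟨0, by omega⟩
  let i1 : I := ⟨1, by omega⟩
  let L : (I → F₀) →+ (I → F₀) :=
    { toFun := fun y => Pi.single i0 (y i0)
      map_zero' := Pi.single_zero i0
      map_add' := fun x y => Pi.single_add i0 _ _ }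
  obtain ⟨a, ha⟩ := (iotaEmb hH (1 : GL I F₀) (RingHom.id F₀)).scalar_of_commutant L
    (fun u w hu huw y => by
      rw [iotaEmb_ej hH h2 _ _ hu huw, iotaEmb_ej hH h2 _ _ hu huw,
        hall _ ((mem_iso_qfH hH h2).1 (Orth.eich QH u w).2)
          (iso_det_of_omega hH h2 (omega_eich hH h2 hn u w)) (FieldAut.eich_unipotent hu huw),
        map_one, Units.val_one, Matrix.one_mulVec, Matrix.one_mulVec]) (qfH_nondeg hH h2) (by simpa using hn)
  have hj : ∀ v, (iotaEmb hH (1 : GL I F₀) (RingHom.id F₀)).j v = v := fun v => by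
    show ((1 : GL I F₀) : Matrix I I F₀) *ᵥ _ = v
    rw [Units.val_one, Matrix.one_mulVec]; rfl
  have h0 := congrFun (ha (Pi.single i0 1)) i0
  have h1 := congrFun (ha (Pi.single i1 1)) i1
  have hne : i1 ≠ i0 := Fin.ne_of_val_ne (show (1 : ℕ) ≠ 0 by omega)
  rw [hj] at h0 h1
  simp [L, hne] at h0 h1
  exact one_ne_zero (h0.trans h1.symm)

omit h2 in
/-- A similarity of odd order modulo scalars is a multiple of an isometry. -/
theorem exists_iso_of_odd_pow [Nonempty I] {a : GL I F₀} {c : F₀ˣ} {N : ℕ} (hN : Odd N)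
    (hsim : (a : Matrix I I F₀)ᵀ * (H : Matrix I I F₀) * (a : Matrix I I F₀) =
      (c : F₀) • (H : Matrix I I F₀))
    {l : F₀ˣ} (hpow : a ^ N = scal l) :
    ∃ (d : F₀ˣ) (o : GL I F₀), o ∈ isoMat (H : Matrix I I F₀) ∧ a = scal d * o := by
  set H' := (H : Matrix I I F₀)
  have hk : ∀ i : ℕ, ((a ^ i : GL I F₀) : Matrix I I F₀)ᵀ * H' * ((a ^ i : GL I F₀) : Matrix I I F₀) =
      ((c : F₀) ^ i) • H' := by
    intro i
    induction i with
    | zero => simp
    | succ i ih =>
      rw [pow_succ, Units.val_mul, Matrix.transpose_mul,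
        show (a : Matrix I I F₀)ᵀ * ((a ^ i : GL I F₀) : Matrix I I F₀)ᵀ * H' *
            (((a ^ i : GL I F₀) : Matrix I I F₀) * (a : Matrix I I F₀)) =
          (a : Matrix I I F₀)ᵀ * (((a ^ i : GL I F₀) : Matrix I I F₀)ᵀ * H' *
            ((a ^ i : GL I F₀) : Matrix I I F₀)) * (a : Matrix I I F₀) by noncomm_ring,
        ih, Matrix.mul_smul, Matrix.smul_mul, hsim, smul_smul, pow_succ]
  have h1 := hk N
  rw [hpow, scal_coe, Matrix.transpose_smul, Matrix.transpose_one, Matrix.smul_mul, one_mul,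
    Matrix.smul_mul, Matrix.mul_smul, mul_one, smul_smul] at h1
  have hH0 : H' ≠ 0 := fun h => H.ne_zero h
  have h3 := smul_left_injective F₀ hH0 h1
  obtain ⟨j, rfl⟩ := hN
  set d : F₀ˣ := l * (c ^ j)⁻¹
  have hd : (d : F₀) * d = c := by
    simp only [d, Units.val_mul, Units.val_inv_eq_inv_val, Units.val_pow_eq_pow_val]
    rw [pow_succ, pow_mul, pow_two] at h3
    field_simp
    linear_combination h3
  refine ⟨d, scal d⁻¹ * a, ?_, by rw [← mul_assoc, ← map_mul, mul_inv_cancel, map_one, one_mul]⟩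
  rw [mem_isoMat, Units.val_mul, scal_coe, Matrix.smul_mul, one_mul, Matrix.transpose_smul,
    Matrix.smul_mul, Matrix.smul_mul, Matrix.mul_smul, smul_smul, hsim, smul_smul]
  conv_rhs => rw [← one_smul F₀ H']
  congr 1
  rw [Units.val_inv_eq_inv_val, ← hd]
  field_simp

/-- No non-trivial subgroup of odd order is normalised by the whole isometry group. -/
theorem core_symm (hn : 3 ≤ n) {X : Type*} [Group X] [Finite X]
    (hinj : Function.Injective (MulAut.conj : X →* MulAut X))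
    (c : Orth.IsoGrp QH →* MulAut X)
    (hker : ∀ o, c o = 1 ↔ ∃ a : F₀, ∀ y, Orth.ap o y = a • y)
    {N : Subgroup X} (hodd : Odd (Nat.card N)) (hinv : ∀ o, ∀ z ∈ N, c o z ∈ N)
    (hlift : ∀ z ∈ N, ∃ o, c o = MulAut.conj z) : N = ⊥ := by
  let M : Subgroup (Orth.IsoGrp QH) := (N.map MulAut.conj).comap c
  have hM : M.Normal := ⟨by
    rintro o ⟨z, hz, hzo⟩ g
    refine ⟨c g z, hinv g z hz, ?_⟩
    rw [map_mul, map_mul, map_inv, ← hzo, apply_conj]⟩
  refine (Subgroup.eq_bot_iff_forall _).2 fun z hz => ?_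
  obtain ⟨o, ho⟩ := hlift z hz
  obtain ⟨a, -, ha⟩ := scalar_of_odd_normal (qfH_nondeg hH h2) h2 (by simpa using hn) hM hodd
    (fun o' ⟨z', hz', hzo⟩ => (hker _).1 (by
      rw [map_pow, ← hzo, ← map_pow,
        show z' ^ Nat.card N = 1 from congrArg Subtype.val (pow_card_eq_one' (x := (⟨z', hz'⟩ : N))),
        map_one]))
    o ⟨z, hz, ho.symm⟩
  exact hinj ((ho.symm.trans ((hker o).2 ⟨a, ha⟩)).trans (map_one _).symm)

end Symm

end Cfsg.Agent.LocalBalance
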