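import Cfsg.Agent.Lib.LocalBalance.LinearForms

/-!
# Non-central involutions of determinant one preserving a form

* `exists_invol_of_data` : `(1 + a bᵀ)(1 + a' b'ᵀ)`
* `exists_invol_alt`, `exists_invol_symm`
-/

set_option autoImplicit false

namespace Cfsg.Agent.LocalBalance

open scoped MatrixGroups Matrix
open Cfsg.Agent.FieldAut (scal scal_coe)
open Cfsg.Agent.AutPSL (isoMat mem_isoMat)

variable {F : Type*} [Field F] {n : ℕ}

local notation "I" => Fin n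

theorem det_rk1 (a b : I → F) : (1 + Matrix.vecMulVec a b).det = 1 + b ⬝ᵥ a := by
  rw [Matrix.vecMulVec_eq Unit, Matrix.det_one_add_replicateCol_mul_replicateRow]

theorem exists_common_perp (hn : 3 ≤ n) (b b' : I → F) : ∃ x : I → F, x ≠ 0 ∧ b ⬝ᵥ x = 0 ∧ b' ⬝ᵥ x = 0 := by
  let f : (I → F) →ₗ[F] F × F :=
    { toFun := fun x => (b ⬝ᵥ x, b' ⬝ᵥ x)
      map_add' := fun x y => by simp [dotProduct_add]
      map_smul' := fun c x => by simp [dotProduct_smul] }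
  have hker : LinearMap.ker f ≠ ⊥ := LinearMap.ker_ne_bot_of_finrank_lt (by
    rw [Module.finrank_prod, Module.finrank_self, Module.finrank_fin_fun]; omega)
  obtain ⟨x, hx, hx0⟩ := Submodule.exists_mem_ne_zero_of_ne_bot hker
  rw [LinearMap.mem_ker] at hx
  exact ⟨x, hx0, congrArg Prod.fst hx, congrArg Prod.snd hx⟩

theorem exists_invol_of_data (hn : 3 ≤ n) (h2 : (2 : F) ≠ 0) (H : Matrix I I F) {a b a' b' : I → F}
    (hab : b ⬝ᵥ a = -2) (hab' : b' ⬝ᵥ a' = -2) (h1 : b ⬝ᵥ a' = 0) (h1' : b' ⬝ᵥ a = 0)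
    (hiso : ∀ x y : I → F, (x + (b ⬝ᵥ x) • a + (b' ⬝ᵥ x) • a') ⬝ᵥ (H *ᵥ (y + (b ⬝ᵥ y) • a + (b' ⬝ᵥ y) • a')) =
      x ⬝ᵥ (H *ᵥ y)) :
    ∃ h : GL I F, h ∈ isoMat H ∧ (h : Matrix I I F).det = 1 ∧ h ^ 2 = 1 ∧ ∀ c : Fˣ, h ≠ scal c := by
  set M : Matrix I I F := (1 + Matrix.vecMulVec a b) * (1 + Matrix.vecMulVec a' b') with hM
  have hdet : M.det = 1 := by rw [hM, Matrix.det_mul, det_rk1, det_rk1, hab, hab']; ring
  have hap : ∀ x : I → F, M *ᵥ x = x + (b ⬝ᵥ x) • a + (b' ⬝ᵥ x) • a' := fun x => by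
    rw [hM, ← Matrix.mulVec_mulVec]
    simp only [Matrix.add_mulVec, Matrix.one_mulVec, Matrix.vecMulVec_mulVec, op_smul_eq_smul,
      dotProduct_add, dotProduct_smul, h1, smul_zero, add_zero, smul_eq_mul, mul_zero]
    abel
  have hsq : M * M = 1 := Matrix.ext_of_mulVec_single fun i => by
    rw [← Matrix.mulVec_mulVec, Matrix.one_mulVec, hap, hap]
    simp only [dotProduct_add, dotProduct_smul, h1, h1', hab, hab', smul_eq_mul]
    funext j
    simp only [Pi.add_apply, Pi.smul_apply, smul_eq_mul]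
    ring
  refine ⟨Matrix.GeneralLinearGroup.mkOfDetNeZero M (by rw [hdet]; exact one_ne_zero), ?_, hdet,
    Units.ext (by rw [pow_two, Units.val_mul]; exact hsq), fun c hc => ?_⟩
  · refine AutPSL.eq_of_dot fun x y => ?_
    rw [← AutPSL.dot_congr]
    show (M *ᵥ x) ⬝ᵥ (H *ᵥ (M *ᵥ y)) = _
    rw [hap, hap, hiso]
  · have hv : ∀ x : I → F, M *ᵥ x = (c : F) • x := fun x => by
      have e := congrArg Units.val hc
      rw [scal_coe] at e
      change M = _ at e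
      rw [e, Matrix.smul_mulVec, Matrix.one_mulVec]
    obtain ⟨x, hx0, hx, hx'⟩ := exists_common_perp hn b b'
    have ha0 : a ≠ 0 := fun h0 => h2 (by
      rw [h0, dotProduct_zero] at hab; linear_combination hab)
    have e1 : ((c : F) - 1) • x = 0 := by
      rw [sub_smul, one_smul, ← hv, hap, hx, hx', zero_smul, zero_smul, add_zero, add_zero, sub_self]
    have hc1 : (c : F) = 1 := sub_eq_zero.1 ((smul_eq_zero.1 e1).resolve_right hx0)
    have e2 := (hap a).symm.trans (hv a)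
    rw [hab, h1', zero_smul, add_zero, hc1, one_smul] at e2
    exact smul_ne_zero (neg_ne_zero.2 h2) ha0 (add_eq_left.1 e2)

variable {H : GL (Fin n) F}

theorem exists_invol_alt (hn : 3 ≤ n) (h2 : (2 : F) ≠ 0)
    (halt : ∀ x : I → F, x ⬝ᵥ ((H : Matrix I I F) *ᵥ x) = 0) :
    ∃ h : GL I F, h ∈ isoMat (H : Matrix I I F) ∧ (h : Matrix I I F).det = 1 ∧ h ^ 2 = 1 ∧
      ∀ c : Fˣ, h ≠ scal c := by
  let v : I → F := Pi.single ⟨0, by omega⟩ 1
  obtain ⟨u, huv⟩ : ∃ u : I → F, v ⬝ᵥ ((H : Matrix I I F) *ᵥ u) = 1 := ⟨((H⁻¹ : GL I F) : Matrix I I F) *ᵥ v, by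
    rw [Matrix.mulVec_mulVec, ← Units.val_mul, mul_inv_cancel, Units.val_one, Matrix.one_mulVec]
    simp [v]⟩
  have hvu : u ⬝ᵥ ((H : Matrix I I F) *ᵥ v) = -1 := by rw [alt_swap halt, huv]
  refine exists_invol_of_data hn h2 _ (a := v) (a' := u) (b := (-2 : F) • ((H : Matrix I I F) *ᵥ u))
    (b' := (2 : F) • ((H : Matrix I I F) *ᵥ v)) ?_ ?_ ?_ ?_ fun x y => ?_
  · rw [smul_dotProduct, dotProduct_comm, huv]; simp
  · rw [smul_dotProduct, dotProduct_comm, hvu]; simp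
  · rw [smul_dotProduct, dotProduct_comm, halt]; simp
  · rw [smul_dotProduct, dotProduct_comm, halt]; simp
  · simp only [Matrix.mulVec_add, Matrix.mulVec_smul, add_dotProduct, dotProduct_add, smul_dotProduct,
      dotProduct_smul, smul_eq_mul, huv, hvu, halt]
    have e1 : v ⬝ᵥ ((H : Matrix I I F) *ᵥ y) = -((H : Matrix I I F) *ᵥ v ⬝ᵥ y) := by
      rw [alt_swap halt, dotProduct_comm]
    have e2 : u ⬝ᵥ ((H : Matrix I I F) *ᵥ y) = -((H : Matrix I I F) *ᵥ u ⬝ᵥ y) := by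
      rw [alt_swap halt, dotProduct_comm]
    rw [e1, e2, dotProduct_comm x ((H : Matrix I I F) *ᵥ v), dotProduct_comm x ((H : Matrix I I F) *ᵥ u)]
    ring

variable (hH : (H : Matrix (Fin n) (Fin n) F)ᵀ = (H : Matrix (Fin n) (Fin n) F))
include hH

theorem symm_swap (x y : I → F) :
    y ⬝ᵥ ((H : Matrix I I F) *ᵥ x) = x ⬝ᵥ ((H : Matrix I I F) *ᵥ y) := by
  rw [Matrix.dotProduct_mulVec, ← Matrix.mulVec_transpose, hH, dotProduct_comm]

theorem exists_aniso_symm (hn : 3 ≤ n) (h2 : (2 : F) ≠ 0) :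
    ∃ v w : I → F, v ⬝ᵥ ((H : Matrix I I F) *ᵥ v) ≠ 0 ∧ w ⬝ᵥ ((H : Matrix I I F) *ᵥ w) ≠ 0 ∧
      v ⬝ᵥ ((H : Matrix I I F) *ᵥ w) = 0 := by
  obtain ⟨v, hv⟩ : ∃ v, v ⬝ᵥ ((H : Matrix I I F) *ᵥ v) ≠ 0 := by
    by_contra! hall
    haveI : Nonempty I := ⟨⟨0, by omega⟩⟩
    refine H.ne_zero (AutPSL.eq_of_dot fun x y => ?_)
    have h := hall (x + y)
    rw [Matrix.mulVec_add, add_dotProduct, dotProduct_add, dotProduct_add, hall, hall, symm_swap hH x y] at h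
    exact mul_left_cancel₀ h2 (by simp only [Matrix.zero_mulVec, dotProduct_zero]; linear_combination h)
  set c := v ⬝ᵥ ((H : Matrix I I F) *ᵥ v)
  suffices ∃ w, v ⬝ᵥ ((H : Matrix I I F) *ᵥ w) = 0 ∧ w ⬝ᵥ ((H : Matrix I I F) *ᵥ w) ≠ 0 by
    obtain ⟨w, h1, h2'⟩ := this; exact ⟨v, w, hv, h2', h1⟩
  by_contra! hall
  let π : (I → F) → (I → F) := fun x => x - (v ⬝ᵥ ((H : Matrix I I F) *ᵥ x) / c) • v
  have hπ : ∀ x, v ⬝ᵥ ((H : Matrix I I F) *ᵥ π x) = 0 := fun x => by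
    simp only [π, Matrix.mulVec_sub, Matrix.mulVec_smul, dotProduct_sub, dotProduct_smul, smul_eq_mul]
    rw [div_mul_cancel₀ _ hv, sub_self]
  -- a vector orthogonal to `v` is orthogonal to everything
  obtain ⟨x, hx0, hx, -⟩ := exists_common_perp hn ((H : Matrix I I F) *ᵥ v) 0
  have hxv : v ⬝ᵥ ((H : Matrix I I F) *ᵥ x) = 0 := by
    rw [symm_swap hH, dotProduct_comm]; exact hx
  refine hx0 (Matrix.mulVec_injective_of_isUnit H.isUnit ?_)
  show (H : Matrix I I F) *ᵥ x = (H : Matrix I I F) *ᵥ 0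
  rw [Matrix.mulVec_zero]
  refine funext fun i => ?_
  set y : I → F := Pi.single i 1
  have h1 := hall (x + π y) (by rw [Matrix.mulVec_add, dotProduct_add, hxv, hπ, add_zero])
  rw [Matrix.mulVec_add, add_dotProduct, dotProduct_add, dotProduct_add, hall x hxv, hall _ (hπ y),
    symm_swap hH x (π y)] at h1
  have h2x : x ⬝ᵥ ((H : Matrix I I F) *ᵥ π y) = 0 := mul_left_cancel₀ h2 (by linear_combination h1)
  simp only [π, Matrix.mulVec_sub, Matrix.mulVec_smul, dotProduct_sub, dotProduct_smul, smul_eq_mul,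
    symm_swap hH v x, hxv, mul_zero, sub_zero] at h2x
  rw [← symm_swap hH] at h2x
  simpa [y] using h2x

theorem exists_invol_symm (hn : 3 ≤ n) (h2 : (2 : F) ≠ 0) :
    ∃ h : GL I F, h ∈ isoMat (H : Matrix I I F) ∧ (h : Matrix I I F).det = 1 ∧ h ^ 2 = 1 ∧
      ∀ c : Fˣ, h ≠ scal c := by
  obtain ⟨v, w, hv, hw, hvw⟩ := exists_aniso_symm hH hn h2
  have hwv : w ⬝ᵥ ((H : Matrix I I F) *ᵥ v) = 0 := by rw [symm_swap hH, hvw]
  refine exists_invol_of_data hn h2 _ (a := v) (a' := w)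
    (b := (-2 / (v ⬝ᵥ ((H : Matrix I I F) *ᵥ v))) • ((H : Matrix I I F) *ᵥ v))
    (b' := (-2 / (w ⬝ᵥ ((H : Matrix I I F) *ᵥ w))) • ((H : Matrix I I F) *ᵥ w)) ?_ ?_ ?_ ?_ fun x y => ?_
  · rw [smul_dotProduct, dotProduct_comm ((H : Matrix I I F) *ᵥ v) v, smul_eq_mul, div_mul_cancel₀ _ hv]
  · rw [smul_dotProduct, dotProduct_comm ((H : Matrix I I F) *ᵥ w) w, smul_eq_mul, div_mul_cancel₀ _ hw]
  · rw [smul_dotProduct, dotProduct_comm ((H : Matrix I I F) *ᵥ v) w, hwv]; simp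
  · rw [smul_dotProduct, dotProduct_comm ((H : Matrix I I F) *ᵥ w) v, hvw]; simp
  · simp only [Matrix.mulVec_add, Matrix.mulVec_smul, add_dotProduct, dotProduct_add, smul_dotProduct,
      dotProduct_smul, smul_eq_mul, hvw, hwv]
    have e1 : ∀ a z : I → F, a ⬝ᵥ ((H : Matrix I I F) *ᵥ z) = (H : Matrix I I F) *ᵥ a ⬝ᵥ z := fun a z => by
      rw [symm_swap hH, dotProduct_comm]
    rw [e1 v y, e1 w y, dotProduct_comm x ((H : Matrix I I F) *ᵥ v), dotProduct_comm x ((H : Matrix I I F) *ᵥ w)]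
    field_simp
    ring

end Cfsg.Agent.LocalBalance
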