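import Cfsg.Agent.Lib.LocalBalance.Linear
import Cfsg.Agent.Lib.LocalBalance.LinearInv
import Cfsg.Agent.Lib.AutPSL.GraphInv
import Cfsg.Agent.Lib.AutPSL.TwistedGF
import Cfsg.Agent.Lib.Unitary.Simple
import Cfsg.Agent.Lib.Unitary.Center

/-!
# Local balance in `PSL_n(q)`: involutions outside the semilinear automorphisms

* `crit_twist` : the common frame
* `crit_gam` : graph automorphisms `gam B`
* `crit_gf` : the graph-field automorphism
-/

set_option autoImplicit false
set_option linter.unusedSectionVars false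

namespace Cfsg.Agent.LocalBalance

open scoped MatrixGroups Matrix
open Cfsg.Agent.AutPSL (semi proj invT invTSL semiSL cj ctr gam isoMat mem_isoMat tw)
open Cfsg.Agent.FieldAut (galGL scal scal_coe)

variable {F : Type*} [Field F] [Fintype F] {m : ℕ}

local notation "PG" => Matrix.ProjectiveSpecialLinearGroup (Fin (m + 2)) F
local notation "SLg" => Matrix.SpecialLinearGroup (Fin (m + 2)) F
local notation "G2" => GL (Fin (m + 2)) F
local notation "M2" => Matrix (Fin (m + 2)) (Fin (m + 2)) F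
local notation "I" => Fin (m + 2)
local notation "toG" => Matrix.SpecialLinearGroup.toGL

theorem not_center_of_ne_scal {s : SLg} (h : ∀ c : Fˣ, (toG s : G2) ≠ scal c) :
    s ∉ Subgroup.center SLg := by
  intro hc
  obtain ⟨r, hr, hr'⟩ := Matrix.SpecialLinearGroup.mem_center_iff.1 hc
  have hr0 : r ≠ 0 := by
    intro h0
    rw [h0, zero_pow (by simp)] at hr
    exact zero_ne_one hr
  refine h (Units.mk0 r hr0) (Units.ext ?_)
  show (s : M2) = _
  rw [scal_coe, ← hr', Units.val_mk0, Matrix.scalar_apply, Matrix.smul_one_eq_diagonal]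

theorem exists_sl_of_gl {h : G2} (hd : (h : M2).det = 1) : ∃ s : SLg, (toG s : G2) = h :=
  ⟨⟨_, hd⟩, Units.ext rfl⟩

/-- An involution `x` outside the semilinear automorphisms. -/
theorem crit_twist [Fact (Nat.Prime 2)] {x : MulAut PG} {g₀ : G2} {τ₀ : F ≃+* F}
    (hxe : x = semi g₀ τ₀ * invT) (hxx : x * x = 1) (Ψ : MulAut SLg)
    (hx : ∀ h : SLg, x (QuotientGroup.mk h) = QuotientGroup.mk (Ψ h))
    (hinv : ∃ h : SLg, Ψ h = h ∧ h ^ 2 = 1 ∧ h ∉ Subgroup.center SLg)
    (hrad : 2 ∣ Nat.card (fixS Ψ) → ∀ M ≤ fixS Ψ, (∀ g ∈ fixS Ψ, ∀ a ∈ M, g * a * g⁻¹ ∈ M) →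
      (Nat.card M).Coprime 2 → ∀ a ∈ M, ∀ s ∈ fixS Ψ, a * s * a⁻¹ = s)
    (hrig : ∀ (g : G2) (τ : F ≃+* F),
      (∀ h, Ψ h = h → semi g τ (QuotientGroup.mk h : PG) = QuotientGroup.mk h) →
      semi g τ = (1 : MulAut PG)) :
    Crit 2 x ∧ ¬ Nat.Coprime 2 (Nat.card (fixK x)) := by
  obtain ⟨h, hh, h2, hc⟩ := hinv
  obtain ⟨hcr, he⟩ := crit_lift (p := 2) Ψ x hx (N := (m + 2) * 2)
    (fun z hz => by rw [pow_mul, pow_center hz, one_pow]) pslConj_injective ⟨h, hh, hc⟩
    (fun _ => ⟨h, hh, by rw [h2]; exact one_mem _, hc⟩) hrad fun β _ hk => by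
      rcases AutPSL.exists_semi_or β with ⟨g, τ, rfl⟩ | ⟨g, τ, rfl⟩
      · rw [hrig g τ hk, one_pow]
      · have e : semi g τ * invT * x =
            semi (g * Matrix.GeneralLinearGroup.map (τ : F →+* F) (ctr g₀)) (τ₀.trans τ) := by
          rw [hxe, mul_assoc, ← mul_assoc invT, AutPSL.invT_semi, mul_assoc (semi (ctr g₀) τ₀),
            AutPSL.invT_sq, mul_one, AutPSL.semi_mul]
        have h1 : semi g τ * invT * x = 1 := by
          rw [e]
          refine hrig _ _ fun a ha => ?_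
          rw [← e, MulAut.mul_apply, hx, ha]
          exact hk a ha
        rw [eq_inv_of_mul_eq_one_left h1, inv_eq_of_mul_eq_one_left hxx, pow_two, hxx]
  exact ⟨hcr, he (dvd_mul_left 2 _)⟩

theorem semi_trivial_of_fix {g : G2} {τ : F ≃+* F}
    (h : (∀ c, τ ((RingHom.id F) c) = (RingHom.id F) c) ∧
      ∃ a : Fˣ, g = scal a * ((1 : G2) * (galGL τ (1 : G2))⁻¹)) :
    semi g τ = (1 : MulAut PG) := by
  obtain ⟨hτ, a, ha⟩ := h
  rw [map_one, inv_one, mul_one, mul_one] at ha
  obtain rfl : τ = RingEquiv.refl F := RingEquiv.ext hτ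
  rw [semi_eq_std _ ha, AutPSL.semi_one]

theorem ιGL_one_id (a : G2) : ιGL (1 : G2) (RingHom.id F) a = a := by
  rw [ιGL_apply, one_mul, inv_one, mul_one]
  exact Units.ext (Matrix.map_id _)

/-! ### Graph automorphisms -/

/-- The lift of `gam B`. -/
noncomputable def gamSL (B : G2) : MulAut SLg := invTSL.trans (semiSL B⁻¹ (RingEquiv.refl F))

theorem gam_mk (B : G2) (h : SLg) :
    gam B (QuotientGroup.mk h : PG) = QuotientGroup.mk (gamSL B h) := rfl

theorem gamSL_fix (B : G2) (h : SLg) : gamSL B h = h ↔ (toG h : G2) ∈ isoMat (B : M2) := by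
  have e : (gamSL B h : M2) = ((B⁻¹ * ctr (toG h) * B : G2) : M2) := by
    show (semiSL B⁻¹ (RingEquiv.refl F) (invTSL h) : M2) = _
    rw [AutPSL.semiSL_coe, RingEquiv.coe_refl, Matrix.map_id, inv_inv, Units.val_mul, Units.val_mul]
    congr 2
  refine (Subtype.ext_iff (a1 := gamSL B h) (a2 := h)).trans ?_
  show (gamSL B h : M2) = _ ↔ _
  rw [e, mem_isoMat]
  show ((B⁻¹ * ctr (toG h) * B : G2) : M2) = (toG h : G2).1 ↔ _
  rw [← Units.ext_iff, mul_assoc, inv_mul_eq_iff_eq_mul]
  constructor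
  · intro h1
    have h2 := congrArg Units.val h1
    rw [Units.val_mul, Units.val_mul] at h2
    rw [mul_assoc, ← h2, ← mul_assoc, AutPSL.transpose_mul_ctr, one_mul]
  · intro h1
    refine Units.ext ?_
    rw [Units.val_mul, Units.val_mul]
    have h2 := congrArg (fun X : M2 => (ctr (toG h) : G2).1 * X) h1
    simp only [← mul_assoc, AutPSL.ctr_mul_transpose, one_mul] at h2
    exact h2.symm

theorem cj_fixS (B : G2) {a : G2} (ha : a ∈ isoMat (B : M2)) {z : PG} (hz : z ∈ fixS (gamSL B)) :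
    cj a z ∈ fixS (gamSL B) := by
  obtain ⟨s, hs, rfl⟩ := hz
  refine ⟨semiSL a (RingEquiv.refl F) s, (gamSL_fix B _).2 ?_, rfl⟩
  have e : (toG (semiSL a (RingEquiv.refl F) s) : G2) = a * toG s * a⁻¹ := Units.ext (by
    show (semiSL a (RingEquiv.refl F) s : M2) = _
    rw [AutPSL.semiSL_coe, RingEquiv.coe_refl, Matrix.map_id, Units.val_mul, Units.val_mul]
    rfl)
  rw [e]
  exact mul_mem (mul_mem ha ((gamSL_fix B s).1 hs)) (inv_mem ha)

theorem gam_hfix (B : G2) {g : G2} {τ : F ≃+* F}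
    (hk : ∀ h, gamSL B h = h → semi g τ (QuotientGroup.mk h : PG) = QuotientGroup.mk h) :
    ∀ a ∈ isoMat (B : M2), (a : M2).det = 1 → IsNilpotent ((a : M2) - 1) →
      g * galGL τ (ιGL (1 : G2) (RingHom.id F) a) * g⁻¹ = ιGL (1 : G2) (RingHom.id F) a := by
  intro a ha hd hn
  obtain ⟨s, rfl⟩ := exists_sl_of_gl hd
  rw [ιGL_one_id]
  exact semi_fix_unipotent hn (hk s ((gamSL_fix B s).2 ha))

theorem crit_gam [Fact (Nat.Prime 2)] (hm : 1 ≤ m) (h2 : (2 : F) ≠ 0) {B : G2}
    (hB : (B : M2)ᵀ = (B : M2) ∨ (B : M2)ᵀ = -(B : M2)) :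
    Crit 2 (gam B : MulAut PG) ∧ ¬ Nat.Coprime 2 (Nat.card (fixK (gam B : MulAut PG))) := by
  classical
  haveI : Nontrivial I := inferInstance
  have hxx : gam B * gam B = (1 : MulAut PG) := by
    rw [← pow_two]; exact orderOf_dvd_iff_pow_eq_one.1 ((AutPSL.orderOf_gam_iff hm B).2 hB).dvd
  have hxe : gam B = semi B⁻¹ (RingEquiv.refl F) * invT := rfl
  rcases hB with hsym | hskew
  · obtain ⟨h, hh, hd, hh2, hns⟩ := exists_invol_symm hsym (n := m + 2) (by omega) h2
    obtain ⟨s, rfl⟩ := exists_sl_of_gl hd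
    refine crit_twist hxe hxx (gamSL B) (gam_mk B)
      ⟨s, (gamSL_fix B s).2 hh, Subtype.ext (congrArg Units.val hh2 :), not_center_of_ne_scal hns⟩
      (fun _ M hM hn hc a ha z hz => ?_) fun g τ hk => semi_trivial_of_fix
        (fix_of_symm hsym h2 1 (RingHom.id F) (by omega) (gam_hfix B hk))
    set S := fixS (gamSL B)
    let C := (Cfsg.pPrimeCore 2 ↥S).map S.subtype
    have hle : M ≤ C := by
      haveI hMn : (M.subgroupOf S).Normal := ⟨fun b hb g => hn g.1 g.2 _ hb⟩
      have h1 : M.subgroupOf S ≤ Cfsg.pPrimeCore 2 ↥S := Cores.le_pPrimeCore hMn (by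
        rwa [Cores.card_subgroupOf hM])
      exact fun b hb => ⟨⟨b, hM hb⟩, h1 hb, rfl⟩
    have hcard : Odd (Nat.card C) := by
      rw [Nat.odd_iff, ← Nat.two_dvd_ne_zero, Cores.card_map_subtype]
      exact Cores.not_dvd_card_pPrimeCore
    let cc : Orth.IsoGrp (AutPSL.qfOf (B : M2)) →* MulAut PG := cj.comp (Subgroup.subtype _)
    have hmem : ∀ o : Orth.IsoGrp (AutPSL.qfOf (B : M2)), (o : G2) ∈ isoMat (B : M2) := fun o =>
      (mem_iso_qfH hsym h2).1 o.2
    have hC : C = ⊥ := by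
      refine core_symm hsym h2 (by omega) pslConj_injective cc (fun o => ?_) hcard
        (fun o z hzC => ?_) fun z hzC => ?_
      · show cj (o : G2) = 1 ↔ _
        rw [AutPSL.cj_eq_one_iff]
        constructor
        · rintro ⟨u, hu⟩
          refine ⟨u, fun y => ?_⟩
          rw [Orth.ap_apply, hu, scal_coe, Matrix.smul_mulVec, Matrix.one_mulVec]
        · rintro ⟨u, hu⟩
          obtain ⟨w, -, hw⟩ := eq_scal_of_diag (g := (o : G2)) (a := u) fun i => by
            have := hu (Pi.single i 1)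
            rwa [Orth.ap_apply] at this
          exact ⟨w, hw⟩
      · have hS : ∀ y ∈ S, cc o y ∈ S := fun y hy => cj_fixS B (hmem o) hy
        have hS' : ∀ y ∈ S, (cc o).symm y ∈ S := fun y hy => by
          show (cc o)⁻¹ y ∈ S
          rw [← map_inv]
          exact cj_fixS B (hmem o⁻¹) hy
        let φ : MulAut ↥S :=
          { toFun := fun y => ⟨cc o y.1, hS _ y.2⟩
            invFun := fun y => ⟨(cc o).symm y.1, hS' _ y.2⟩
            left_inv := fun y => Subtype.ext ((cc o).symm_apply_apply _)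
            right_inv := fun y => Subtype.ext ((cc o).apply_symm_apply _)
            map_mul' := fun y y' => Subtype.ext (map_mul (cc o) _ _) }
        obtain ⟨w, hw, rfl⟩ := hzC
        haveI hch : (Cfsg.pPrimeCore 2 ↥S).Characteristic := inferInstance
        refine ⟨φ w, ?_, rfl⟩
        rw [← (Subgroup.characteristic_iff_comap_eq.1 hch φ)] at hw
        exact hw
      · obtain ⟨⟨_, t, ht, rfl⟩, -, rfl⟩ := hzC
        exact ⟨⟨toG t, (mem_iso_qfH hsym h2).2 ((gamSL_fix B t).1 ht)⟩, AutPSL.cj_toGL t⟩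
    have ha1 : a = 1 := Subgroup.mem_bot.1 (hC ▸ hle ha)
    rw [ha1, one_mul, inv_one, mul_one]
  · have halt := AutPSL.alt_of_skew h2 hskew
    obtain ⟨h, hh, hd, hh2, hns⟩ := exists_invol_alt (H := B) (n := m + 2) (by omega) h2 halt
    obtain ⟨s, rfl⟩ := exists_sl_of_gl hd
    refine crit_twist hxe hxx (gamSL B) (gam_mk B)
      ⟨s, (gamSL_fix B s).2 hh, Subtype.ext (congrArg Units.val hh2 :), not_center_of_ne_scal hns⟩
      (fun hd2 M hM hn hc a ha z hz => ?_) fun g τ hk => semi_trivial_of_fix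
        (fix_of_alt halt 1 (RingHom.id F) (gam_hfix B hk))
    obtain ⟨l, hl⟩ : Even (m + 2) := by
      rw [← Nat.not_odd_iff_even]
      exact fun ho => AutPSL.not_skew_odd h2 ho hskew
    set S := fixS (gamSL B)
    let f : isoMat (B : M2) →* MulAut PG := cj.comp (Subgroup.subtype _)
    let T := S.map (MulAut.conj : PG →* MulAut PG)
    have hTle : T ≤ f.range := by
      rintro _ ⟨_, ⟨t, ht, rfl⟩, rfl⟩
      exact ⟨⟨toG t, (gamSL_fix B t).1 ht⟩, AutPSL.cj_toGL t⟩
    have hTne : T ≠ ⊥ := fun h0 => by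
      rw [Subgroup.map_eq_bot_iff_of_injective _ pslConj_injective] at h0
      have h1 : (QuotientGroup.mk s : PG) ∈ S := mk_mem_fixS ((gamSL_fix B s).2 hh)
      rw [h0, Subgroup.mem_bot, QuotientGroup.eq_one_iff] at h1
      exact not_center_of_ne_scal hns h1
    haveI : IsSimpleGroup f.range := simple_image_alt halt h2 (l := l) (by omega) (by omega) f
      (fun b c hb => by show cj (b : G2) = 1; rw [hb, AutPSL.cj_scal])
      fun h0 => hTne (le_bot_iff.1 (h0 ▸ hTle))
    have hTn : (T.subgroupOf f.range).Normal := ⟨by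
      rintro ⟨_, hy⟩ ⟨w, hw, e⟩ ⟨_, ⟨b, rfl⟩⟩
      refine ⟨cj (b : G2) w, cj_fixS B b.2 hw, ?_⟩
      show MulAut.conj (cj (b : G2) w) = _
      rw [← apply_conj, e]
      rfl⟩
    have hTtop : f.range ≤ T := by
      rcases (Subgroup.Normal.eq_bot_or_eq_top (H := T.subgroupOf f.range) hTn) with h0 | h0
      · exact absurd (disjoint_self.1 ((Subgroup.subgroupOf_eq_bot.1 h0).mono_right hTle)) hTne
      · exact Subgroup.subgroupOf_eq_top.1 h0
    haveI : IsSimpleGroup S :=
      ((S.equivMapOfInjective _ pslConj_injective).trans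
        (MulEquiv.subgroupCongr (le_antisymm hTle hTtop))).isSimpleGroup
    rw [show a = 1 from Subgroup.mem_bot.1 (rad_of_simple hd2 hM hn hc ▸ ha), one_mul, inv_one, mul_one]

/-! ### The graph-field automorphism -/

theorem gf_fix {q : ℕ} {σ : F ≃+* F} (hσ2 : orderOf σ = 2) (hF : Fintype.card F = q ^ 2) (h : SLg) :
    (invTSL.trans (semiSL (1 : G2) σ) : MulAut SLg) h = h ↔ h ∈ Cfsg.SU (m + 2) F q := by
  have e : ((invTSL.trans (semiSL (1 : G2) σ) : MulAut SLg) h : M2) = (tw σ (toG h)).1 := by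
    show (semiSL (1 : G2) σ (invTSL h) : M2) = _
    rw [AutPSL.semiSL_coe, inv_one, Units.val_one, one_mul, mul_one, tw, FieldAut.galGL_apply_coe]
    congr 1
  have hσc : (σ : F → F) = Unitary.conjHom hF := funext fun x => AutPSL.sigma_eq_pow hσ2 hF x
  refine (Subtype.ext_iff (a1 := (invTSL.trans (semiSL (1 : G2) σ) : MulAut SLg) h) (a2 := h)).trans ?_
  show ((invTSL.trans (semiSL (1 : G2) σ) : MulAut SLg) h : M2) = _ ↔ _
  rw [e, show h ∈ Cfsg.SU (m + 2) F q ↔ (toG h : G2) ∈ Cfsg.GU (m + 2) F q from Iff.rfl,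
    FieldAut.mem_GU_iff_matrix hF, ← hσc]
  show _ = (toG h : G2).1 ↔ _
  constructor
  · intro h1
    have h2 := AutPSL.tw_spec' (σ := σ) (toG h)
    rw [h1] at h2
    have h3 := congrArg Matrix.transpose h2
    rwa [Matrix.transpose_mul, Matrix.transpose_one, Matrix.transpose_transpose] at h3
  · intro h1
    have h' : ((toG h : G2).1.map σ)ᵀ * (toG h : G2).1 = 1 := by
      have := congrArg Matrix.transpose h1
      rwa [Matrix.transpose_mul, Matrix.transpose_one, Matrix.transpose_transpose] at this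
    calc (tw σ (toG h)).1 = (tw σ (toG h)).1 * (((toG h : G2).1.map σ)ᵀ * (toG h : G2).1) := by
          rw [h', Matrix.mul_one]
      _ = _ := by rw [← Matrix.mul_assoc, AutPSL.tw_spec, Matrix.one_mul]

theorem crit_gf [Fact (Nat.Prime 2)] (hm : 1 ≤ m) (h2 : (2 : F) ≠ 0) {q : ℕ} {σ : F ≃+* F}
    (hσ2 : orderOf σ = 2) (hF : Fintype.card F = q ^ 2) :
    Crit 2 (semi (1 : G2) σ * invT : MulAut PG) ∧
      ¬ Nat.Coprime 2 (Nat.card (fixK (semi (1 : G2) σ * invT : MulAut PG))) := by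
  classical
  set Ψ : MulAut SLg := invTSL.trans (semiSL (1 : G2) σ) with hΨ
  have hmem : ∀ h, Ψ h = h ↔ h ∈ Cfsg.SU (m + 2) F q := fun h => gf_fix hσ2 hF h
  let φ : Cfsg.SU (m + 2) F q →* PG := (proj I F).comp (Subgroup.subtype _)
  have hrange : fixS Ψ = φ.range := by
    ext y
    exact ⟨fun ⟨s, hs, e⟩ => ⟨⟨s, (hmem s).1 hs⟩, e⟩, fun ⟨s, e⟩ => ⟨s.1, (hmem s.1).2 s.2, e⟩⟩
  have hinv : ∃ h : SLg, Ψ h = h ∧ h ^ 2 = 1 ∧ h ∉ Subgroup.center SLg := by
    let d : I → F := fun i => if i = ⟨0, by omega⟩ ∨ i = ⟨1, by omega⟩ then -1 else 1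
    have hd1 : ∀ i, d i = -1 ∨ d i = 1 := fun i => by
      dsimp only [d]; split_ifs <;> simp
    have hdd : ∀ i, d i * d i = 1 := fun i => by rcases hd1 i with h | h <;> simp [h]
    have hdet : (Matrix.diagonal d).det = 1 := by
      rw [Matrix.det_diagonal,
        ← Finset.prod_subset (Finset.subset_univ ({⟨0, by omega⟩, ⟨1, by omega⟩} : Finset I))]
      · rw [Finset.prod_pair (by simp [Fin.ext_iff])]; simp [d]
      · intro x _ hx; simp at hx; simp [d, hx]
    let s : SLg := ⟨_, hdet⟩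
    refine ⟨s, (hmem s).2 ?_, Subtype.ext ?_, not_center_of_ne_scal fun c hc => ?_⟩
    · show (toG s : G2) ∈ Cfsg.GU (m + 2) F q
      rw [FieldAut.mem_GU_iff_matrix hF]
      show (Matrix.diagonal d)ᵀ * (Matrix.diagonal d).map (Unitary.conjHom hF) = 1
      rw [Matrix.diagonal_transpose, Matrix.diagonal_map (map_zero _), Matrix.diagonal_mul_diagonal,
        ← Matrix.diagonal_one]
      congr 1
      funext i
      rcases hd1 i with h | h <;> simp [h, Unitary.neg_pow_q hF]
    · rw [Matrix.SpecialLinearGroup.coe_pow, pow_two, Matrix.SpecialLinearGroup.coe_one]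
      show Matrix.diagonal d * Matrix.diagonal d = 1
      rw [Matrix.diagonal_mul_diagonal, ← Matrix.diagonal_one]
      exact congrArg _ (funext hdd)
    · have e := congrArg Units.val hc
      rw [scal_coe] at e
      change Matrix.diagonal d = _ at e
      have e0 := congrFun (congrFun e ⟨0, by omega⟩) ⟨0, by omega⟩
      have e2 := congrFun (congrFun e ⟨2, by omega⟩) ⟨2, by omega⟩
      have n0 : (⟨2, by omega⟩ : I) ≠ ⟨0, by omega⟩ := Fin.ne_of_val_ne (show (2 : ℕ) ≠ 0 by omega)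
      have n1 : (⟨2, by omega⟩ : I) ≠ ⟨1, by omega⟩ := Fin.ne_of_val_ne (show (2 : ℕ) ≠ 1 by omega)
      rw [Matrix.diagonal_apply_eq, Matrix.smul_apply, Matrix.one_apply_eq, smul_eq_mul, mul_one] at e0 e2
      simp only [d, n0, n1, or_self, if_false, true_or, if_true] at e0 e2
      exact h2 (by linear_combination e2 - e0)
  have hxx : (semi (1 : G2) σ * invT : MulAut PG) * (semi (1 : G2) σ * invT) = 1 := by
    rw [← pow_two]; exact AutPSL.gf_sq hσ2
  refine crit_twist rfl hxx Ψ (fun h => rfl) hinv (fun hd2 M hM hn hc a ha z hz => ?_) fun g τ hk => ?_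
  · haveI : IsSimpleGroup (Cfsg.SU (m + 2) F q ⧸ Subgroup.center (Cfsg.SU (m + 2) F q)) := by
      refine Unitary.isSimpleGroup_PSU hF ?_
      by_cases h1 : 2 ≤ m
      · exact Or.inl (by omega)
      · refine Or.inr ⟨by omega, ?_⟩
        by_contra hq
        have hq2 := Unitary.two_le_q hF
        obtain rfl : q = 2 := by omega
        have h4 := Nat.cast_card_eq_zero F
        rw [hF] at h4
        have h4' : (2 : F) * 2 = 0 := by push_cast at h4; linear_combination h4
        exact h2 (mul_self_eq_zero.1 h4')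
    rw [hrange] at hd2 hM hn
    haveI : IsSimpleGroup φ.range := by
      refine isSimpleGroup_range φ (fun z hz => ?_) fun h0 => ?_
      · obtain ⟨c, hc'⟩ := (Unitary.mem_center_SU_iff hF (by omega) z).1 hz
        refine AutPSL.proj_eq_one_of_forall (c := c) ?_
        show ((z : SLg) : M2) = _
        rw [hc', Matrix.scalar_apply, Matrix.smul_one_eq_diagonal]
      · obtain ⟨h, hh, -, hhc⟩ := hinv
        have h1 : (QuotientGroup.mk h : PG) ∈ φ.range := hrange ▸ mk_mem_fixS hh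
        rw [h0, Subgroup.mem_bot, QuotientGroup.eq_one_iff] at h1
        exact hhc h1
    rw [show a = 1 from Subgroup.mem_bot.1 (rad_of_simple hd2 hM hn hc ▸ ha), one_mul, inv_one, mul_one]
  · obtain ⟨c, hc0, hc⟩ : ∃ c : F, c ≠ 0 ∧ c + c ^ q = 0 := by
      have hne : σ ≠ 1 := fun h => by rw [h, orderOf_one] at hσ2; omega
      obtain ⟨θ, hθ⟩ : ∃ θ, σ θ ≠ θ := by
        by_contra! hall; exact hne (RingEquiv.ext hall)
      refine ⟨θ - σ θ, sub_ne_zero.2 (Ne.symm hθ), ?_⟩
      rw [← AutPSL.sigma_eq_pow hσ2 hF, map_sub, AutPSL.sigma_invol hσ2]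
      ring
    have hfix := fix_of_eigen_herm hF (by omega : 3 ≤ m + 2) (RingHom.id F) g τ fun i j hij t ht => by
      set v : I → F := Pi.single i 1 + t • Pi.single j 1 with hv
      have hv0 := FieldAut.isotropic_pair hF hij ht
      let u := Unitary.suTransvection hF v hv0 c hc
      have hnil : IsNilpotent (((u : SLg) : M2) - 1) := by
        refine ⟨2, ?_⟩
        show (Cfsg.unitaryTransvection (m + 2) q v c - 1) ^ 2 = 0
        have e : (fun k => v k ^ q) ⬝ᵥ v = 0 := by
          simpa [dotProduct, Cfsg.hermForm, mul_comm, hv] using hv0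
        rw [Cfsg.unitaryTransvection, add_sub_cancel_left, pow_two, Matrix.smul_mul, Matrix.mul_smul,
          AutPSL.vecMulVec_mul_vecMulVec', e, zero_smul, smul_zero, smul_zero]
      have hgu := semi_fix_unipotent hnil (hk _ ((hmem _).2 u.2))
      obtain ⟨l, hl⟩ := eigen_of_fix hgu (v := v) (w := c • fun k => v k ^ q)
        (fun h0 => hc0 (by
          have h1 := congrFun h0 i
          simpa [hv, hij, Unitary.zero_pow_q hF] using h1))
        (by
          show Cfsg.unitaryTransvection (m + 2) q v c = _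
          rw [Cfsg.unitaryTransvection, Matrix.vecMulVec_smul])
      refine ⟨l, ?_⟩
      have hτv : τ ∘ v = Pi.single i 1 + τ t • Pi.single j 1 := by
        funext k; simp [hv, Pi.single_apply, apply_ite τ]
      rw [hτv] at hl
      exact hl
    refine semi_trivial_of_fix ⟨hfix.1, hfix.2.imp fun a ha => ?_⟩
    rw [ha, map_one, inv_one, mul_one, mul_one]

end Cfsg.Agent.LocalBalance
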