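import Cfsg.Agent.Lib.LocalBalance.LinearGraph

/-!
# Local balance in `PSL_n(q)`

`psl_local_balance` : the criterion for automorphisms which are not inner-diagonal
-/

set_option autoImplicit false
set_option linter.unusedSectionVars false

namespace Cfsg.Agent.LocalBalance

open scoped MatrixGroups Matrix
open Cfsg.Agent.AutPSL (semi proj invT cj ctr gam)
open Cfsg.Agent.FieldAut (galGL scal)

variable {F : Type*} [Field F] [Fintype F] {m : ℕ}

local notation "PG" => Matrix.ProjectiveSpecialLinearGroup (Fin (m + 2)) F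
local notation "G2" => GL (Fin (m + 2)) F

theorem semi_eq_cj_mul (g : G2) (τ : F ≃+* F) : semi g τ = cj g * semi 1 τ := by
  rw [AutPSL.cj_apply, AutPSL.semi_mul, map_one, mul_one]
  congr 1

theorem exists_semi_pow (g : G2) (τ : F ≃+* F) (k : ℕ) :
    ∃ g', (semi g τ) ^ k = semi g' (τ ^ k) := by
  refine ⟨FieldAut.twNorm τ k g, ?_⟩
  rw [semi_eq_cj_mul g, AutPSL.field_pow_coset, AutPSL.field_pow, ← semi_eq_cj_mul]

theorem isFieldAutPSL_iff (φ : MulAut PG) :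
    Cfsg.IsFieldAutPSL φ ↔ ∃ σ : F ≃+* F, φ = semi 1 σ := by
  refine exists_congr fun σ => ?_
  rw [← AutPSL.isInduced_iff]
  simp [Cfsg.IsInducedBySemilinearPSL]

theorem conj_crit {x y : MulAut PG} {k : MulAut PG} {p : ℕ} (hy : x = k * y * k⁻¹) (h : Crit p y) :
    Crit p x := by
  refine Crit.of_conj (α := k⁻¹) ?_
  rwa [hy, show k⁻¹ * (k * y * k⁻¹) * k⁻¹⁻¹ = y by group]

theorem conj_card {x y : MulAut PG} {k : MulAut PG} (hy : x = k * y * k⁻¹) :
    Nat.card (fixK x) = Nat.card (fixK y) := by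
  rw [hy, ← map_fixK]
  exact Nat.card_congr ((fixK y).equivMapOfInjective _ k.injective).toEquiv.symm

theorem psl_local_balance {r : ℕ} [Fact r.Prime] [CharP F r] {p : ℕ} [Fact p.Prime] (hpr : p ≠ r)
    (A : Subgroup (MulAut PG)) (hinn : ∀ k : PG, MulAut.conj k ∈ A) (β : MulAut PG)
    (hord : orderOf β = p) (hnot : ¬ Cfsg.IsInnerDiagonalAutPSL β) :
    Cfsg.pPrimeCore p ↥(A ⊓ Subgroup.centralizer {β}) ≠ ⊥ ↔
      ((∃ γ φ : MulAut PG, Cfsg.IsInnerDiagonalAutPSL γ ∧ Cfsg.IsFieldAutPSL φ ∧ β = φ.trans γ) ∧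
        Nat.Coprime p (Nat.card (fixK β))) := by
  classical
  have hp : p.Prime := Fact.out
  have hβp : β ^ p = 1 := by rw [← hord, pow_orderOf_eq_one]
  suffices key : Crit p β ∧ (Nat.Coprime p (Nat.card (fixK β)) →
      ∃ γ φ : MulAut PG, Cfsg.IsInnerDiagonalAutPSL γ ∧ Cfsg.IsFieldAutPSL φ ∧ β = φ.trans γ) by
    rw [core_ne_bot_iff key.1 A hinn]
    exact ⟨fun h => ⟨key.2 h, h⟩, fun h => h.2⟩
  have hsemi : ∀ (g : G2) (τ : F ≃+* F), β = semi g τ → Crit p β ∧ (Nat.Coprime p (Nat.card (fixK β)) →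
      ∃ γ φ : MulAut PG, Cfsg.IsInnerDiagonalAutPSL γ ∧ Cfsg.IsFieldAutPSL φ ∧ β = φ.trans γ) := by
    intro g τ he
    have hτ1 : τ ≠ 1 := fun h => hnot ((AutPSL.isInnerDiag_iff β).2 ⟨g, by rw [he, h]; rfl⟩)
    obtain ⟨g', hg'⟩ := exists_semi_pow g τ p
    rw [← he, hβp] at hg'
    have hτp : τ ^ p = 1 := (AutPSL.semi_eq_one_iff.1 hg'.symm).1
    have hτ : orderOf τ = p := orderOf_eq_prime hτp hτ1
    rw [semi_eq_cj_mul g τ] at he
    obtain ⟨k, hk⟩ := AutPSL.field_coset hτ hp.pos g (he ▸ hord)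
    refine ⟨conj_crit (he.trans hk) (crit_field_psl (m := m) hpr hτ).1, fun _ => ?_⟩
    exact ⟨cj g, semi 1 τ, (AutPSL.isInnerDiag_iff _).2 ⟨g, rfl⟩, (isFieldAutPSL_iff _).2 ⟨τ, rfl⟩, he⟩
  rcases AutPSL.exists_semi_or β with ⟨g, τ, he⟩ | ⟨g, τ, he⟩
  · exact hsemi g τ he
  · rcases Nat.eq_zero_or_pos m with rfl | hm
    · obtain ⟨g', τ', he'⟩ := AutPSL.exists_semi_of_two β
      exact hsemi g' τ' he'
    have hsq : β * β = semi (g * Matrix.GeneralLinearGroup.map (τ : F →+* F) (ctr g)) (τ.trans τ) := by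
      rw [he, mul_assoc, ← mul_assoc invT, AutPSL.invT_semi, mul_assoc (semi (ctr g) τ),
        AutPSL.invT_sq, mul_one, AutPSL.semi_mul]
    have hp2 : p = 2 := by
      by_contra hne
      obtain ⟨j, hj⟩ := hp.odd_of_ne_two hne
      obtain ⟨g', hg'⟩ := exists_semi_pow (g * Matrix.GeneralLinearGroup.map (τ : F →+* F) (ctr g))
        (τ.trans τ) (j + 1)
      rw [← hsq, ← pow_two, ← pow_mul, show 2 * (j + 1) = p + 1 by omega, pow_succ, hβp, one_mul, he]
        at hg'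
      exact AutPSL.semi_mul_invT_ne hm _ _ _ _ hg'.symm
    subst hp2
    have h2 : (2 : F) ≠ 0 := fun h => by
      have h' : ((2 : ℕ) : F) = 0 := by exact_mod_cast h
      rw [CharP.cast_eq_zero_iff F r] at h'
      exact hpr ((Nat.prime_dvd_prime_iff_eq Fact.out Nat.prime_two).1 h').symm
    rw [pow_two, hsq, AutPSL.semi_eq_one_iff] at hβp
    have hτ2 : τ ^ 2 = 1 := by rw [pow_two]; exact hβp.1
    by_cases hτ : τ = 1
    · have heg : β = gam g⁻¹ := by
        rw [he, hτ, gam, inv_inv]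
        rfl
      obtain ⟨hc, hn⟩ := crit_gam hm h2 ((AutPSL.orderOf_gam_iff hm g⁻¹).1 (heg ▸ hord))
      exact ⟨heg ▸ hc, fun h => absurd (heg ▸ h) hn⟩
    · have hτo : orderOf τ = 2 := orderOf_eq_prime hτ2 hτ
      have hF : Fintype.card F = Nat.card (FieldAut.fixF τ) ^ 2 := by
        rw [FieldAut.pow_card_fixed τ hτo, Nat.card_eq_fintype_card]
      rw [semi_eq_cj_mul g τ, mul_assoc] at he
      obtain ⟨k, hk⟩ := AutPSL.gf_coset hτo hF g (he ▸ hord)
      obtain ⟨hc, hn⟩ := crit_gf hm h2 hτo hF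
      exact ⟨conj_crit (he.trans hk) hc, fun h => absurd ((conj_card (he.trans hk)) ▸ h) hn⟩

end Cfsg.Agent.LocalBalance
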