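import Cfsg.Agent.Lib.LocalBalance.GraphInv
import Cfsg.Agent.Lib.LocalBalance.FieldStd
import Cfsg.Agent.Lib.OrthEven.MinusField
import Cfsg.Agent.Lib.AutPOmega.OutMinusOdd

/-!
# Local balance for `PΩ⁻_{2m+2}(q)`

* `Crit.of_congr`
* `exists_fixed_aniso` : a binary anisotropic form fixed by the field automorphisms of odd prime order
* `minus_split` : an outer automorphism of prime order is a graph involution or of field type
* `omega_minus_local_balance`
-/

set_option autoImplicit false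
set_option linter.unusedSectionVars false

namespace Cfsg.Agent.LocalBalance

open Cfsg Matrix Module Cfsg.Agent.Orth
open Cfsg.Agent.FieldAut (galGL fixF mem_fixF omMat omMat_injective CoeffFixed)
open QuadraticMap (polar)

theorem map_fixK_congr {K K' : Type*} [Group K] [Group K'] (ψ : K ≃* K') (x : MulAut K) :
    (fixK x).map ψ.toMonoidHom = fixK (MulAut.congr ψ x) := by
  ext k
  rw [Subgroup.mem_map_equiv, mem_fixK, mem_fixK]
  show x (ψ.symm k) = ψ.symm k ↔ ψ (x (ψ.symm k)) = k
  exact ψ.eq_symm_apply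

theorem card_fixK_congr {K K' : Type*} [Group K] [Group K'] (ψ : K ≃* K') (x : MulAut K) :
    Nat.card (fixK (MulAut.congr ψ x)) = Nat.card (fixK x) := by
  rw [← map_fixK_congr]
  exact Nat.card_congr ((fixK x).equivMapOfInjective _ ψ.injective).toEquiv.symm

theorem Crit.of_congr {K K' : Type*} [Group K] [Group K'] {p : ℕ} (ψ : K ≃* K') {x : MulAut K}
    (h : Crit p (MulAut.congr ψ x)) : Crit p x := by
  have hmap := map_fixK_congr ψ x
  have hcard := card_fixK_congr ψ x
  have hmem : ∀ k, k ∈ fixK x ↔ ψ k ∈ fixK (MulAut.congr ψ x) := fun k => by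
    rw [← hmap]
    exact ⟨fun hk => ⟨k, hk, rfl⟩, fun ⟨j, hj, e⟩ => ψ.injective e ▸ hj⟩
  refine ⟨fun e => h.ne ?_, fun a b e => ψ.injective (h.inj ?_), fun hd N hN hn hc => ?_,
    fun hd β hβ hk => ?_⟩
  · rw [← hmap, e, Subgroup.map_bot]
  · refine MulEquiv.ext fun z => ?_
    obtain ⟨w, rfl⟩ := ψ.surjective z
    simpa [MulAut.conj_apply] using congrArg (fun f : MulAut K => ψ (f w)) e
  · have := h.core (hcard ▸ hd) (N.map ψ.toMonoidHom) (hmap ▸ Subgroup.map_mono hN) ?_ ?_
    · exact (Subgroup.map_eq_bot_iff_of_injective _ ψ.injective).1 this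
    · rintro g hg _ ⟨n, hn', rfl⟩
      obtain ⟨g', rfl⟩ := ψ.surjective g
      exact ⟨g' * n * g'⁻¹, hn g' ((hmem g').2 hg) n hn', by simp⟩
    · rwa [← Nat.card_congr (N.equivMapOfInjective _ ψ.injective).toEquiv]
  · have h1 := h.rigid (hcard ▸ hd) (MulAut.congr ψ β) (by rw [← map_mul, ← map_mul, hβ])
      fun k hk' => ?_
    · rw [← map_pow] at h1
      exact (MulAut.congr ψ).injective (h1.trans (map_one _).symm)
    · obtain ⟨j, rfl⟩ := ψ.surjective k
      show ψ (β (ψ.symm (ψ j))) = ψ j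
      rw [MulEquiv.symm_apply_apply, hk j ((hmem j).2 hk')]

variable {F : Type*} [Field F] [Fintype F]

/-- An anisotropic binary form fixed by all field automorphisms of order dividing `p` odd. -/
theorem exists_fixed_aniso {p : ℕ} (hp : p.Prime) (hodd : Odd p) {σ : F ≃+* F} (hσ : orderOf σ = p) :
    ∃ a b : F, Aniso a b ∧ σ a = a ∧ σ b = b := by
  haveI : Fintype (fixF σ) := Fintype.ofFinite _
  obtain ⟨ζ, hζ, -⟩ := Forms.exists_no_root (F := fixF σ)
  have hζσ : σ (ζ : F) = (ζ : F) := (mem_fixF σ).1 ζ.2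
  refine ⟨1, ζ, fun x y hxy => ?_, map_one σ, hζσ⟩
  rcases eq_or_ne y 0 with rfl | hy
  · exact ⟨by simpa using hxy, rfl⟩
  exfalso
  set z := x / y with hz
  have hzr : z ^ 2 + z + (ζ : F) = 0 := by rw [hz]; field_simp; linear_combination hxy
  have hσz : σ z = z := by
    have h1 : σ z ^ 2 + σ z + (ζ : F) = 0 := by
      rw [← hζσ, ← map_pow, ← map_add, ← map_add, hzr, map_zero]
    rcases mul_eq_zero.1 (show (σ z - z) * (σ z + z + 1) = 0 by linear_combination h1 - hzr) with h | h
    · exact sub_eq_zero.1 h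
    · have hσσ : σ (σ z) = z := by
        rw [eq_neg_of_add_eq_zero_left (a := σ z) (b := z + 1) (by linear_combination h), map_neg,
          map_add, map_one]
        linear_combination -h
      obtain ⟨j, hj⟩ := hodd
      have h2 : ∀ n : ℕ, (σ ^ (2 * n)) z = z := by
        intro n
        induction n with
        | zero => rfl
        | succ n ih =>
          rw [show 2 * (n + 1) = 2 * n + 1 + 1 by ring, pow_succ, pow_succ, RingAut.mul_apply,
            RingAut.mul_apply, hσσ, ih]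
      have h3 : σ ^ p = 1 := hσ ▸ pow_orderOf_eq_one σ
      have h4 : (σ ^ (2 * (j + 1))) z = z := h2 (j + 1)
      rwa [show 2 * (j + 1) = p + 1 by omega, pow_succ, h3, one_mul] at h4
  exact hζ ⟨z, (mem_fixF σ).2 hσz⟩ (Subtype.ext (by simpa using hzr))

theorem mem_zpowers_of_pow_eq_one {p : ℕ} (hp : p.Prime) {σ τ : F ≃+* F} (hσ : orderOf σ = p)
    (hτ : τ ^ p = 1) : τ ∈ Subgroup.zpowers σ := by
  classical
  haveI := OrthEven.ringAut_isCyclic F
  haveI : Finite (F ≃+* F) := Finite.of_injective (fun a : F ≃+* F => (a : F → F)) DFunLike.coe_injective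
  haveI : Fintype (F ≃+* F) := Fintype.ofFinite _
  have h1 := IsCyclic.card_pow_eq_one_le (α := F ≃+* F) hp.pos
  have hsub : (Finset.range p).image (fun i => σ ^ i) ⊆ Finset.univ.filter fun a => a ^ p = 1 := by
    intro a ha
    obtain ⟨i, -, rfl⟩ := Finset.mem_image.1 ha
    rw [Finset.mem_filter]
    exact ⟨Finset.mem_univ _, by rw [← pow_mul, mul_comm, pow_mul, ← hσ, pow_orderOf_eq_one, one_pow]⟩
  have hcard : ((Finset.range p).image fun i => σ ^ i).card = p := by
    rw [Finset.card_image_of_injOn, Finset.card_range]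
    intro i hi j hj e
    simp only [Finset.coe_range, Set.mem_Iio] at hi hj
    exact pow_injOn_Iio_orderOf (by simp [hσ, hi]) (by simp [hσ, hj]) e
  have heq := Finset.eq_of_subset_of_card_le hsub (h1.trans_eq hcard.symm)
  have hmem : τ ∈ (Finset.range p).image fun i => σ ^ i := by rw [heq]; simp [hτ]
  obtain ⟨i, -, rfl⟩ := Finset.mem_image.1 hmem
  exact pow_mem (Subgroup.mem_zpowers σ) i

variable {m : ℕ} {a b : F}

local notation "J" => (Fin m ⊕ Fin m) ⊕ Fin 2

theorem sq_mem_minusS (hm : 2 ≤ m) (hab : Aniso a b) {g : GL J F}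
    (hg : g ∈ Geo.quadSimilarityGroup (F := F) (quadFormMinus m F a b)) :
    g * g ∈ OrthEven.minusS m a b hm hab := by
  open OrthEven in
  refine ⟨mul_mem hg hg, ?_⟩
  obtain ⟨K, _, _, h2, -⟩ := OrthEven.exists_quadratic_ext hab
  haveI : FiniteDimensional F K := FiniteDimensional.of_finrank_eq_succ h2
  haveI : Finite K := Module.finite_of_finite F
  obtain ⟨θ, θ', hne, hs, hp⟩ := OrthEven.exists_roots hab K h2
  obtain ⟨L, -, hL⟩ := OrthEven.exists_planeEquiv m hne
  have hL' : ∀ v, quadFormPlus (m + 1) K (L v)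
      = quadFormMinus m K (algebraMap F K a) (algebraMap F K b) v := by rw [← hs, ← hp]; exact hL
  have hsim := OrthEven.conjL_sim L _ _ hL' (OrthEven.mapGL_sim_minus (algebraMap F K) hg)
  rw [OrthEven.preservesMinus_iff hm hab (mul_mem hg hg) K h2,
    OrthEven.preservesK_iff hm _ hs hp hL (mul_mem hg hg), map_mul, map_mul,
    (OrthEven.splitPlus (F := K) (show 3 ≤ m + 1 by omega)).par_mul hsim hsim]
  rcases OrthEven.cls_eq_or (U₀ := OrthEven.baseU (m + 1) K)
    ((OrthEven.baseU (m + 1) K).map (Matrix.toLin'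
      (OrthEven.conjL L (FieldAut.mapGL (algebraMap F K) g)).1)) with h | h <;>
    · rw [OrthEven.par, h]; norm_num

theorem isInnerDiag_of (hm : 2 ≤ m) (hab : Aniso a b) {g : GL J F}
    (hg : g ∈ OrthEven.minusS m a b hm hab) {β : MulAut (POmega F (quadFormMinus m F a b))}
    (hβ : β = OrthEven.cA (quadFormMinus m F a b) ⟨g, hg.1⟩) :
    Cfsg.IsInnerDiagonalAutPOmegaMinus m a b β :=
  ⟨g, hg.1, hg.2, (OrthEven.isConjInduced_iff hg.1 β).2 hβ⟩

/-- A similarity of odd prime order modulo scalars preserves the classes. -/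
theorem isInnerDiag_of_odd (hm : 3 ≤ m) (hab : Aniso a b) {p : ℕ} (hp : Odd p)
    (g : Geo.quadSimilarityGroup (F := F) (quadFormMinus m F a b))
    (h1 : OrthEven.cA (quadFormMinus m F a b) g ^ p = 1) :
    Cfsg.IsInnerDiagonalAutPOmegaMinus m a b (OrthEven.cA (quadFormMinus m F a b) g) := by
  obtain ⟨j, rfl⟩ := hp
  refine isInnerDiag_of (g := ((g * g) ^ (j + 1) : Geo.quadSimilarityGroup (F := F) _).1) (by omega)
    hab ?_ ?_
  · rw [SubgroupClass.coe_pow]
    exact pow_mem (sq_mem_minusS (by omega) hab g.2) _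
  · rw [Subtype.coe_eta, map_pow, map_mul, ← pow_two, ← pow_mul,
      show 2 * (j + 1) = 2 * j + 1 + 1 by ring, pow_succ, h1, one_mul]

/-- An automorphism outside the inner-diagonal ones of prime order `p` (`p ≠ char`). -/
theorem minus_split (hm : 3 ≤ m) (hab : Aniso a b) {r : ℕ} [Fact r.Prime] [CharP F r] {p : ℕ}
    [Fact p.Prime] (hpr : p ≠ r) {x : MulAut (POmega F (quadFormMinus m F a b))} (hord : orderOf x = p)
    (hnot : ¬ Cfsg.IsInnerDiagonalAutPOmegaMinus m a b x) :
    (p = 2 ∧ ∃ (hodd : Odd (Fintype.card F)) (g : OrthOuter.Sim (quadMinus m F a b)),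
      OrthOuter.sgn (OrthOuter.ctxMinus hodd (show 2 ≤ m by omega) hab).exists_ne (m + 1) g ≠ 1 ∧
      x = OrthOuter.conjAut (quadMinus m F a b) g) ∨
    (Odd p ∧ ∃ σ : F ≃+* F, orderOf σ = p ∧
      ∀ {a' b' : F} (_ : Aniso a' b'), σ a' = a' → σ b' = b' →
        ∀ ψ : POmega F (quadFormMinus m F a b) ≃* POmega F (quadFormMinus m F a' b'),
        ∃ (k : MulAut (POmega F (quadFormMinus m F a' b'))) (τ : F ≃+* F) (hτ : CoeffFixed (quadFormMinus m F a' b') τ),
          τ a' = a' ∧ τ b' = b' ∧ orderOf τ = p ∧ MulAut.congr ψ x = k * OrthEven.phiP hτ * k⁻¹) := by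
  classical
  have hp : p.Prime := Fact.out
  set QM := quadMinus m F a b with hQM
  have H := AutPOmega.hypMinus hm hab
  have hxp : x ^ p = 1 := hord ▸ pow_orderOf_eq_one x
  obtain ⟨g, σ, hs, hx⟩ := AutPOmega.exists_semi_eq H x
  have hσp : σ ^ p = 1 := by
    have hf : AutPOmega.fieldPart H x = σ := by rw [hx]; exact AutPOmega.fieldPart_semi H hs
    rw [← hf]
    exact (map_pow (AutPOmega.fieldPart H) x p).symm.trans ((congrArg _ hxp).trans (map_one _))
  have hcharodd : p = 2 → Odd (Fintype.card F) := by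
    intro hp2
    obtain ⟨n, -, hn⟩ := FiniteField.card F r
    rw [hn]
    refine Odd.pow (Fact.out (p := r.Prime) |>.odd_of_ne_two fun hr2 => hpr ?_)
    rw [hp2, hr2]
  rcases hp.eq_two_or_odd' with hp2 | hpo
  · left
    have hodd := hcharodd hp2
    have hC := OrthOuter.ctxMinus hodd (show 2 ≤ m by omega) hab
    have hdisc : quadraticChar F ((-1) ^ (m + 1) * (Orth.gram ⇑QM).det) = -1 := by
      rw [hQM, Orth.coe_quadMinus, Orth.det_gram_quadMinus, ← mul_assoc, ← mul_pow]
      norm_num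
      exact OrthOuter.chi_disc hodd hab
    obtain ⟨g', hg'⟩ := OrthOuter.exists_sim_of_involution hC hdisc (β := x)
      (by rw [AutPOmega.gammaPOmega_eq_top H]; trivial) (hp2 ▸ hxp)
    refine ⟨hp2, hodd, g', fun e => hnot ?_, hg'⟩
    exact ⟨g'.1, g'.2, (OrthOuter.preservesMinus_iff hodd (by omega) hab g').2 e,
      (OrthOuter.induced_iff g' x).2 hg'⟩
  · right
    have hσ1 : σ ≠ 1 := by
      rintro rfl
      refine hnot ?_
      have hcf : CoeffFixed (quadFormMinus m F a b) (1 : F ≃+* F) :=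
        OrthEven.coeffFixed_minus rfl rfl
      have hx' : x = OrthEven.cA (quadFormMinus m F a b)
          ⟨g, FieldAut.sim_of_semisimilarity hcf hs⟩ := by
        refine (OrthEven.isConjInduced_iff (FieldAut.sim_of_semisimilarity hcf hs) x).1 ?_
        exact (FieldAut.isInd_semilinear_om (Qf := quadFormMinus m F a b) g _ x).2
          ((FieldAut.isInd_iff (mat := omMat ⇑QM) omMat_injective (OrthOuter.semi_keep (Q := QM) hs)).2
            hx)
      rw [hx'] at hxp ⊢
      exact isInnerDiag_of_odd hm hab hpo _ hxp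
    have hoσ : orderOf σ = p := orderOf_eq_prime hσp hσ1
    refine ⟨hpo, σ, hoσ, fun {a' b'} hab' ha' hb' ψ => ?_⟩
    set Q' := quadMinus m F a' b' with hQ'
    have H' := AutPOmega.hypMinus hm hab'
    set x' := MulAut.congr ψ x with hx'def
    have hxp' : x' ^ p = 1 := by rw [← map_pow, hxp, map_one]
    obtain ⟨g', τ, hs', hx'⟩ := AutPOmega.exists_semi_eq H' x'
    have hτp : τ ^ p = 1 := by
      have hf : AutPOmega.fieldPart H' x' = τ := by rw [hx']; exact AutPOmega.fieldPart_semi H' hs'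
      rw [← hf]
      exact (map_pow (AutPOmega.fieldPart H') x' p).symm.trans ((congrArg _ hxp').trans (map_one _))
    obtain ⟨i, hi⟩ := Subgroup.mem_zpowers_iff.1 (mem_zpowers_of_pow_eq_one hp hoσ hτp)
    have hfixz : ∀ c : F, σ c = c → τ c = c := fun c hc => by
      have hst : σ ∈ MulAction.stabilizer (F ≃+* F) c := hc
      have := Subgroup.zpow_mem _ hst i
      rw [hi] at this
      exact this
    have hτf : CoeffFixed (quadFormMinus m F a' b') τ :=
      OrthEven.coeffFixed_minus (hfixz a' ha') (hfixz b' hb')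
    have hg' : g' ∈ Geo.quadSimilarityGroup (F := F) (quadFormMinus m F a' b') :=
      FieldAut.sim_of_semisimilarity hτf hs'
    have hτ1 : τ ≠ 1 := by
      rintro rfl
      refine hnot ?_
      have hmap := OrthEven.inndiagMinus_congr hm hab hab' ψ
      have hin : x' ∈ inndiagPOmegaMinus m F a' b' := by
        refine Subgroup.subset_closure ?_
        have hx'' : x' = OrthEven.cA (quadFormMinus m F a' b') ⟨g', hg'⟩ :=
          (OrthEven.isConjInduced_iff hg' x').1
            ((FieldAut.isInd_semilinear_om (Qf := quadFormMinus m F a' b') g' _ x').2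
            ((FieldAut.isInd_iff (mat := omMat ⇑Q') omMat_injective (OrthOuter.semi_keep (Q := Q') hs')).2
              hx'))
        rw [hx''] at hxp' ⊢
        exact isInnerDiag_of_odd hm hab' hpo _ hxp'
      rw [← hmap] at hin
      obtain ⟨y, hy, e⟩ := hin
      obtain rfl := (MulAut.congr ψ).injective e
      rw [SetLike.mem_coe, OrthEven.inndiagMinus_range (show 2 ≤ m by omega) hab] at hy
      obtain ⟨⟨h, hh⟩, hh'⟩ := hy
      exact isInnerDiag_of (show 2 ≤ m by omega) hab hh hh'.symm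
    have hoτ : orderOf τ = p := orderOf_eq_prime hτp hτ1
    haveI : Nonempty J := ⟨.inr 0⟩
    have D : FieldAut.Setup (omMat (quadFormMinus m F a' b'))
        (Geo.quadSimilarityGroup (F := F) (quadFormMinus m F a' b')) τ p :=
      ⟨OrthEven.rigid_of_hyp H', inferInstance, fun _ h => FieldAut.keep_conj_sim h,
        FieldAut.keep_gal_om hτf, fun _ h => FieldAut.galGL_sim hτf h, hoτ, hp.pos⟩
    have hδ : x' = OrthEven.cA (quadFormMinus m F a' b') ⟨g', hg'⟩ * OrthEven.phiP hτf := by
      rw [hx', AutPOmega.semiAut, OrthEven.cA, OrthEven.phiP, FieldAut.conjAut_apply]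
      refine Eq.trans ?_ (map_mul (FieldAut.indAut omMat_injective) _ _)
      exact congrArg (FieldAut.indAut omMat_injective) (Subtype.ext rfl)
    have hordx : orderOf x' = p := ((MulAut.congr ψ).orderOf_eq x).trans hord
    obtain ⟨k, -, hk⟩ := D.coset_conj (fun g₁ hg₁ hz => by
        obtain ⟨k', hk', c, hc⟩ := OrthEven.minus_desc (show 2 ≤ m by omega) hab' hoτ hp
          (hfixz a' ha') (hfixz b' hb') hg₁ hz
        exact ⟨k', hk'.1, c, hc⟩)
      (δ := OrthEven.cA (quadFormMinus m F a' b') ⟨g', hg'⟩) ⟨_, rfl⟩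
      ((congrArg orderOf hδ.symm).trans hordx)
    exact ⟨k, τ, hτf, hfixz a' ha', hfixz b' hb', hoτ, hδ.trans hk⟩

theorem omega_minus_local_balance (hm : 3 ≤ m) (hab : Aniso a b) {r : ℕ} [Fact r.Prime] [CharP F r]
    (A : Subgroup (MulAut (POmega F (quadFormMinus m F a b))))
    (hinn : ∀ k : POmega F (quadFormMinus m F a b), MulAut.conj k ∈ A) {p : ℕ} [Fact p.Prime]
    (hpr : p ≠ r) (x : MulAut (POmega F (quadFormMinus m F a b))) (hord : orderOf x = p)
    (hnot : ¬ Cfsg.IsInnerDiagonalAutPOmegaMinus m a b x) :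
    Cfsg.pPrimeCore p ↥(A ⊓ Subgroup.centralizer {x}) ≠ ⊥ ↔
      (Cfsg.IsFieldAutClassPOmegaMinus m x ∧ Nat.Coprime p (Nat.card (fixK x))) := by
  classical
  have hp : p.Prime := Fact.out
  rcases minus_split hm hab hpr hord hnot with
    ⟨rfl, hodd, g, hsgn, rfl⟩ | ⟨hpo, σ, hσ, hconj⟩
  · have hg2 : OrthOuter.conjAut (quadMinus m F a b) g ^ 2 = 1 :=
      (congrArg (OrthOuter.conjAut (quadMinus m F a b) g ^ ·) hord.symm).trans (pow_orderOf_eq_one _)
    obtain ⟨hcrit, hev⟩ := crit_graph (OrthOuter.ctxMinus hodd (show 2 ≤ m by omega) hab) hsgn hg2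
      (fun β _ => AutPOmega.exists_semi_eq (AutPOmega.hypMinus hm hab) β)
    refine iff_of_false (fun h => hev ((core_ne_bot_iff hcrit A hinn).1 h)) fun h => ?_
    obtain ⟨a', b', hab', ψ, σ', D, ha', hb', -, -⟩ :=
      OrthEven.minus_field_reduce hm hab h.1 Nat.prime_two hord
    exact absurd (OrthEven.odd_of_fix hab' D.ordσ Nat.prime_two ha' hb') (by decide)
  · obtain ⟨a', b', hab', ha', hb'⟩ := exists_fixed_aniso hp hpo hσ
    obtain ⟨Λ, hΛ⟩ := OrthEven.exists_minus_isometry (m := m) hab hab'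
    have hiso : ∀ g, MulAut.conj Λ g ∈ isometryGroup F (quadFormMinus m F a' b') ↔
        g ∈ isometryGroup F (quadFormMinus m F a b) := fun g => by
      rw [FieldAut.mem_iso_iff, FieldAut.mem_iso_iff, MulAut.conj_apply]
      constructor <;> intro h v
      · have h1 := h (Λ.1 *ᵥ v)
        rw [Units.val_mul, Units.val_mul, Matrix.mulVec_mulVec, mul_assoc, ← Units.val_mul Λ⁻¹,
          inv_mul_cancel, Units.val_one, mul_one, ← Matrix.mulVec_mulVec, hΛ, hΛ] at h1
        exact h1
      · rw [Units.val_mul, Units.val_mul, ← Matrix.mulVec_mulVec, ← Matrix.mulVec_mulVec, hΛ, h,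
          ← hΛ, Matrix.mulVec_mulVec, ← Units.val_mul, mul_inv_cancel, Units.val_one,
          Matrix.one_mulVec]
    set ψ := OrthEven.indEquiv omMat_injective omMat_injective (MulAut.conj Λ)
      (OrthEven.omMat_range_map _ hiso)
    obtain ⟨k, τ, hτf, haτ, hbτ, hoτ, hk⟩ := hconj hab' ha' hb' ψ
    set ψ' := ψ.trans (k⁻¹ : MulAut (POmega F (quadFormMinus m F a' b'))) with hψ'
    have hx' : MulAut.congr ψ' x = OrthEven.phiP hτf := by
      refine MulEquiv.ext fun y => ?_
      have h1 := DFunLike.congr_fun hk (k y)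
      simp only [MulAut.mul_apply, MulAut.inv_apply_self] at h1
      show (k⁻¹ : MulAut _) (ψ (x (ψ.symm (k y)))) = _
      rw [show ψ (x (ψ.symm (k y))) = MulAut.congr ψ x (k y) from rfl, h1, MulAut.inv_apply_self]
    haveI : Fintype (fixF τ) := Fintype.ofFinite _
    have hcrit' : Crit p (OrthEven.phiP hτf) :=
      crit_field_std (e := (fixF τ).subtype) (Q := quadMinus m F a' b')
        (Q₀ := quadMinus m (fixF τ) ⟨a', (mem_fixF τ).2 haτ⟩ ⟨b', (mem_fixF τ).2 hbτ⟩)
        (fun v => by simp [Orth.coe_quadMinus, quadFormMinus]) (AutPOmega.hypMinus hm hab')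
        (quadMinus_nondeg m fun u v h => by
          obtain ⟨h1, h2⟩ := hab' u v (congrArg Subtype.val h)
          exact ⟨Subtype.ext h1, Subtype.ext h2⟩)
        (fun c => (mem_fixF τ).1 c.2) (fun c hc => ⟨⟨c, (mem_fixF τ).2 hc⟩, rfl⟩) hτf hpo
        (hoτ ▸ pow_orderOf_eq_one τ)
    have hcrit : Crit p x := Crit.of_congr ψ' (hx' ▸ hcrit')
    rw [core_ne_bot_iff hcrit A hinn]
    refine ⟨fun h => ⟨⟨a', b', ψ', τ, hab', ?_, haτ, hbτ, ?_⟩, h⟩, And.right⟩
    · intro h1
      rw [h1] at hoτ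
      exact hp.ne_one (hoτ ▸ orderOf_one)
    · exact (OrthEven.isFieldAut_iff hτf _).2 hx'

end Cfsg.Agent.LocalBalance
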