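import Cfsg.Agent.Lib.LocalBalance.PlusSemi
import Cfsg.Agent.Lib.Triality.Out

/-!
# The coset structure of `Aut PΩ⁺₈(q)` modulo triality-stable automorphisms

* `Trip`, `DGrp` : similarities with triples, and their classes times field automorphisms
* `exists_coset` : every class is `d t^c i^e`
* `semi_or_triality` : an automorphism of prime order is semilinear, or `p = 2` and a conjugate is,
  or `p = 3` and it or its inverse is `conj(a) τ φ`
* `semi_of_commute` : the centraliser of an improper similarity is semilinear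
-/

set_option autoImplicit false
set_option linter.unusedSectionVars false

namespace Cfsg.Agent.LocalBalance

open Cfsg Matrix Cfsg.Agent.Orth Cfsg.Agent.AutPOmega Cfsg.Agent.Triality
open Cfsg.Agent.OrthEven (par baseU)
open Cfsg.Agent.OrthOuter (Sim sap toSim conjAut)

variable {F : Type*} [Field F] [Fintype F]

set_option quotPrecheck false in
local notation "P8" => POmega F ⇑(Q4 F)

variable (F) in
/-- Similarities with a triality triple. -/
noncomputable def Trip : Subgroup (Sim (Q4 F)) where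
  carrier := {a | ∃ b c, TriSim a b c}
  one_mem' := ⟨1, 1, 1, one_ne_zero, fun x y z => by simp [OrthOuter.sap_one]⟩
  mul_mem' := fun ⟨b, c, l, hl, h⟩ ⟨b', c', l', hl', h'⟩ => ⟨b * b', c * c', l * l', mul_ne_zero hl hl',
    fun x y z => by rw [OrthOuter.sap_mul, OrthOuter.sap_mul, OrthOuter.sap_mul, h, h', mul_assoc]⟩
  inv_mem' := fun {a} ⟨b, c, l, hl, h⟩ => ⟨b⁻¹, c⁻¹, l⁻¹, inv_ne_zero hl, fun x y z => by
    rw [eq_inv_mul_iff_mul_eq₀ hl, ← h, OrthOuter.sap_sap_inv, OrthOuter.sap_sap_inv,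
      OrthOuter.sap_sap_inv]⟩

/-- Semilinear classes. -/
def SemiCls (y : Out P8) : Prop :=
  ∃ (g : GL IJ F) (σ : F ≃+* F) (hs : IsSemisimilarityPair ⇑(Q4 F) g σ),
    y = QuotientGroup.mk (semiAut (Q4 F) hs)

theorem SemiCls.mul {y z : Out P8} (hy : SemiCls y) (hz : SemiCls z) : SemiCls (y * z) := by
  obtain ⟨g, σ, hs, rfl⟩ := hy
  obtain ⟨h, τ, ht, rfl⟩ := hz
  exact ⟨_, _, OrthOuter.semisim_mul hs ht, by rw [← QuotientGroup.mk_mul, semiAut_mul]⟩

theorem semiCls_oc (x : Sim (Q4 F)) : SemiCls (oc (Q4 F) x) := by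
  obtain ⟨hs, e⟩ := conjAut_eq_semiAut x
  exact ⟨_, _, hs, congrArg QuotientGroup.mk e⟩

theorem SemiCls.exists_semi {α : MulAut P8} (h : SemiCls (QuotientGroup.mk α : Out P8)) :
    ∃ (g : GL IJ F) (σ : F ≃+* F) (hs : IsSemisimilarityPair ⇑(Q4 F) g σ), α = semiAut (Q4 F) hs := by
  obtain ⟨g, σ, hs, e⟩ := h
  obtain ⟨_, ⟨o, -, rfl⟩, ho⟩ : (semiAut (Q4 F) hs)⁻¹ * α ∈ (OrthOuter.omegaS (Q4 F)).map (conjAut (Q4 F)) := by
    rw [← OrthOuter.inn_eq]; exact QuotientGroup.eq.1 e.symm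
  obtain ⟨ho', e'⟩ := conjAut_eq_semiAut (toSim (Q4 F) o)
  exact ⟨_, _, OrthOuter.semisim_mul hs ho', by rw [← semiAut_mul hs ho', ← e', ho, mul_inv_cancel_left]⟩

theorem SemiCls.inv {y : Out P8} (hy : SemiCls y) : SemiCls y⁻¹ := by
  haveI := finite_aut (F := F)
  have hpow : ∀ n : ℕ, SemiCls (y ^ n) := by
    intro n
    induction n with
    | zero => rw [pow_zero]; exact map_one (oc (Q4 F)) ▸ semiCls_oc 1
    | succ n ih => exact pow_succ y n ▸ ih.mul hy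
  have hm := (mem_powers_iff_mem_zpowers (x := y) (y := y⁻¹)).2 (inv_mem (Subgroup.mem_zpowers y))
  obtain ⟨n, hn⟩ := hm
  exact (congrArg SemiCls hn).mp (hpow n)

theorem semiCls_tOut_pow {c : ℕ} (h : SemiCls (tOut F ^ c)) : 3 ∣ c := by
  have h' : SemiCls (QuotientGroup.mk (triality F ^ c) : Out P8) := by
    rw [QuotientGroup.mk_pow]; exact h
  obtain ⟨g, τ, hg, e⟩ := h'.exists_semi
  have h3 : triality F ^ 3 = 1 := by rw [pow_succ, sq, triality_cube]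
  rw [pow_eq_pow_mod c h3] at e
  have hlt := Nat.mod_lt c (show 0 < 3 by norm_num)
  refine Nat.dvd_of_mod_eq_zero ?_
  by_contra hne
  interval_cases hm : c % 3
  · exact hne rfl
  · exact triality_ne_semi hg (by rwa [pow_one] at e)
  · refine triality_ne_semi (OrthOuter.semisim_mul hg hg) ?_
    rw [← semiAut_mul hg hg, ← e]
    calc triality F = triality F * triality F ^ 3 := by rw [h3, mul_one]
      _ = _ := by rw [← pow_succ', ← pow_add]

theorem oc_cIso : oc (Q4 F) (toSim _ (cIso F)) = iOut F := rfl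

theorem trip_conj_graph {a : Sim (Q4 F)} (ha : a ∈ Trip F) :
    toSim _ (cIso F) * a * (toSim _ (cIso F))⁻¹ ∈ Trip F := by
  obtain ⟨b, c, l, hl, h⟩ := ha
  set g := toSim (Q4 F) (cIso F)
  have hi : g⁻¹ = g := inv_eq_of_mul_eq_one_right (by rw [← map_mul, cIso_mul_self, map_one])
  have hs : ∀ (a' : Sim (Q4 F)) (x : IJ → F), sap (g * a' * g⁻¹) x = oConj (sap a' (oConj x)) := by
    intro a' x
    rw [hi, OrthOuter.sap_mul, OrthOuter.sap_mul, OrthOuter.sap_toSim, OrthOuter.sap_toSim, ap_cIso,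
      ap_cIso]
  have hcyc : TriSim (g * b * g⁻¹) (g * a * g⁻¹) (g * c * g⁻¹) := ⟨l, hl, fun x y z => by
    rw [hs, hs, hs, tri_conj, h, ← tri_conj (oConj y), oConj_oConj, oConj_oConj]
    congr 1
    rw [oConj_oConj]⟩
  exact ⟨_, _, hcyc.shift⟩

theorem trip_gal (σ : F ≃+* F) {a a' : Sim (Q4 F)} (ha : a ∈ Trip F)
    (h : ∀ x : IJ → F, sap a' (σ ∘ x) = σ ∘ sap a x) (mk : ∀ b : Sim (Q4 F), ∃ b' : Sim (Q4 F),
      ∀ x : IJ → F, sap b' (σ ∘ x) = σ ∘ sap b x) : a' ∈ Trip F := by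
  obtain ⟨b, c, l, hl, ht⟩ := ha
  obtain ⟨b', hb'⟩ := mk b
  obtain ⟨c', hc'⟩ := mk c
  refine ⟨b', c', σ l, fun h0 => hl ((map_eq_zero σ).1 h0), fun x y z => ?_⟩
  obtain ⟨x, rfl⟩ : ∃ v : IJ → F, σ ∘ v = x := ⟨σ.symm ∘ x, funext fun i => by simp⟩
  obtain ⟨y, rfl⟩ : ∃ v : IJ → F, σ ∘ v = y := ⟨σ.symm ∘ y, funext fun i => by simp⟩
  obtain ⟨z, rfl⟩ : ∃ v : IJ → F, σ ∘ v = z := ⟨σ.symm ∘ z, funext fun i => by simp⟩
  have h1 := congrArg σ (ht x y z)
  rw [h, hb', hc']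
  rw [map_mul] at h1
  exact (map_tri σ.toRingHom _ _ _).symm.trans (h1.trans (congrArg (σ l * ·) (map_tri σ.toRingHom _ _ _)))

/-- A field automorphism applied to a similarity. -/
noncomputable def galSim (σ : F ≃+* F) (b : Sim (Q4 F)) : Sim (Q4 F) :=
  ⟨FieldAut.galGL σ (b : GL IJ F), FieldAut.galGL_sim (OrthEven.coeffFixed_plus σ) b.2⟩

theorem sap_galSim (σ : F ≃+* F) (b : Sim (Q4 F)) (x : IJ → F) :
    sap (galSim σ b) (σ ∘ x) = σ ∘ sap b x := FieldAut.galGL_mulVec σ _ _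

theorem galOut_oc (σ : F ≃+* F) (a : Sim (Q4 F)) :
    galOut F σ * oc (Q4 F) a = oc (Q4 F) (galSim σ a) * galOut F σ := by
  show QuotientGroup.mk (galHom 4 F σ) * QuotientGroup.mk (conjAut (Q4 F) a) =
    (QuotientGroup.mk (conjAut (Q4 F) _) : Out P8) * QuotientGroup.mk (galHom 4 F σ)
  rw [← QuotientGroup.mk_mul, ← QuotientGroup.mk_mul]
  exact congrArg _ (gal_conjAut σ a (galSim σ a) rfl)

theorem galSim_mem (σ : F ≃+* F) {a : Sim (Q4 F)} (ha : a ∈ Trip F) : galSim σ a ∈ Trip F :=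
  trip_gal σ ha (sap_galSim σ a) fun b => ⟨_, sap_galSim σ b⟩

variable (F) in
/-- Classes of triples times field automorphisms. -/
noncomputable def DGrp : Subgroup (Out P8) where
  carrier := {y | ∃ a ∈ Trip F, ∃ σ : F ≃+* F, y = oc (Q4 F) a * galOut F σ}
  one_mem' := ⟨1, one_mem _, 1, by rw [map_one, map_one, one_mul]⟩
  mul_mem' := by
    rintro _ _ ⟨a, ha, σ, rfl⟩ ⟨b, hb, τ, rfl⟩
    refine ⟨a * galSim σ b, mul_mem ha (galSim_mem σ hb), σ * τ, ?_⟩
    rw [map_mul, map_mul, mul_assoc, ← mul_assoc (galOut F σ), galOut_oc]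
    simp only [mul_assoc]
  inv_mem' := by
    rintro _ ⟨a, ha, σ, rfl⟩
    refine ⟨galSim σ⁻¹ a⁻¹, galSim_mem _ (inv_mem ha), σ⁻¹, ?_⟩
    rw [_root_.mul_inv_rev, ← map_inv, ← map_inv, galOut_oc]

theorem oc_mem_D {a : Sim (Q4 F)} (ha : a ∈ Trip F) : oc (Q4 F) a ∈ DGrp F :=
  ⟨a, ha, 1, by rw [map_one, mul_one]⟩

theorem DGrp.semi {y : Out P8} (hy : y ∈ DGrp F) : SemiCls y := by
  obtain ⟨a, -, σ, rfl⟩ := hy
  exact (semiCls_oc a).mul ⟨_, _, semisim_gal_plus σ, rfl⟩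

theorem t_conj_D {y : Out P8} (hy : y ∈ DGrp F) : tOut F * y * (tOut F)⁻¹ ∈ DGrp F := by
  obtain ⟨a, ⟨b, c, h⟩, σ, rfl⟩ := hy
  refine ⟨b, ⟨c, a, h.shift⟩, σ, ?_⟩
  rw [← mul_assoc, tOut_conj h, mul_assoc (oc _ b), ← (galOut_tOut σ).eq, ← mul_assoc,
    mul_inv_cancel_right]

theorem i_conj_D {y : Out P8} (hy : y ∈ DGrp F) : iOut F * y * (iOut F)⁻¹ ∈ DGrp F := by
  obtain ⟨a, ha, σ, rfl⟩ := hy
  refine ⟨_, trip_conj_graph ha, σ, ?_⟩
  rw [map_mul, map_mul, map_inv, oc_cIso, ← mul_assoc, mul_assoc _ (galOut F σ),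
    (galOut_iOut σ).inv_right.eq, ← mul_assoc]

theorem pow_conj_D (w : Out P8) (hw : ∀ y ∈ DGrp F, w * y * w⁻¹ ∈ DGrp F) (n : ℕ) {y : Out P8}
    (hy : y ∈ DGrp F) : w ^ n * y * (w ^ n)⁻¹ ∈ DGrp F := by
  induction n with
  | zero => simpa using hy
  | succ n ih =>
    rw [pow_succ', _root_.mul_inv_rev, show w * w ^ n * y * ((w ^ n)⁻¹ * w⁻¹) = w * (w ^ n * y * (w ^ n)⁻¹) * w⁻¹ by
      group]
    exact hw _ ih

theorem sd_mem (ν : Fˣ) : sOut ν ∈ DGrp F ∧ dOut ν ∈ DGrp F :=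
  ⟨oc_mem_D ⟨_, _, triple_diag ν⟩, oc_mem_D ⟨_, _, (triple_diag ν).shift⟩⟩

theorem exists_nu : ∃ ν : Fˣ, (2 : F) = 0 ∨ ¬ IsSquare ν := by
  by_cases h2 : (2 : F) = 0
  · exact ⟨1, .inl h2⟩
  have hc : ringChar F ≠ 2 := fun h => h2 (by
    have := CharP.cast_eq_zero F (ringChar F)
    rw [h] at this
    exact_mod_cast this)
  obtain ⟨r, hr⟩ := FiniteField.exists_nonsquare hc
  refine ⟨Units.mk0 r (fun h0 => hr (h0 ▸ ⟨0, by simp⟩)), .inr fun ⟨c, hcc⟩ => hr ⟨c, ?_⟩⟩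
  rw [← Units.val_mul, ← hcc]; rfl

/-- Every class is `d t^c i^e`. -/
theorem exists_coset (y : Out P8) :
    ∃ (c e : ℕ), y * (tOut F ^ c * iOut F ^ e)⁻¹ ∈ DGrp F := by
  haveI := finite_aut (F := F)
  let S : Submonoid (Out P8) :=
    { carrier := {y | ∃ c e : ℕ, y * (tOut F ^ c * iOut F ^ e)⁻¹ ∈ DGrp F}
      one_mem' := ⟨0, 0, by simp⟩
      mul_mem' := by
        rintro y z ⟨c, e, hy⟩ ⟨c', e', hz⟩
        obtain ⟨c'', h''⟩ : ∃ c'', iOut F ^ e * tOut F ^ c' = tOut F ^ c'' * iOut F ^ e := by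
          have h1 : SemiconjBy (iOut F) (tOut F) (tOut F * tOut F) := iOut_tOut
          clear hy hz
          induction e with
          | zero => exact ⟨c', by simp⟩
          | succ e ih =>
            obtain ⟨d, hd⟩ := ih
            refine ⟨2 * d, ?_⟩
            rw [pow_succ', mul_assoc, hd, ← mul_assoc, (h1.pow_right d).eq, pow_mul, sq, mul_assoc]
        refine ⟨c + c'', e + e', ?_⟩
        set w := tOut F ^ c * iOut F ^ e with hw
        set w' := tOut F ^ c' * iOut F ^ e' with hw'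
        have hww : tOut F ^ (c + c'') * iOut F ^ (e + e') = w * w' := by
          rw [hw, hw', pow_add, pow_add, mul_assoc (tOut F ^ c) (iOut F ^ e),
            ← mul_assoc (iOut F ^ e) (tOut F ^ c'), h'']
          simp only [mul_assoc]
        rw [hww, show y * z * (w * w')⁻¹ = y * w⁻¹ * (w * (z * w'⁻¹) * w⁻¹) by group]
        refine mul_mem hy ?_
        rw [hw, show tOut F ^ c * iOut F ^ e * (z * w'⁻¹) * (tOut F ^ c * iOut F ^ e)⁻¹ =
          tOut F ^ c * (iOut F ^ e * (z * w'⁻¹) * (iOut F ^ e)⁻¹) * (tOut F ^ c)⁻¹ by group]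
        exact pow_conj_D _ (fun _ => t_conj_D) c (pow_conj_D _ (fun _ => i_conj_D) e hz) }
  let S' : Subgroup (Out P8) :=
    { S with
      inv_mem' := fun {y} hy => by
        have hm := (mem_powers_iff_mem_zpowers (x := y) (y := y⁻¹)).2 (inv_mem (Subgroup.mem_zpowers y))
        obtain ⟨n, hn⟩ := hm
        exact hn ▸ S.pow_mem hy n }
  obtain ⟨ν, hν⟩ := exists_nu (F := F)
  exact mem_of_gens ν hν (S := S') ⟨0, 0, by simpa using (sd_mem ν).1⟩ ⟨0, 0, by simpa using (sd_mem ν).2⟩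
    ⟨0, 1, by simp⟩ ⟨1, 0, by simp⟩
    (fun σ => ⟨0, 0, by simpa using (show galOut F σ ∈ DGrp F from ⟨1, one_mem _, σ, by simp⟩)⟩) y

theorem conj_i (c : ℕ) : tOut F ^ c * iOut F = iOut F * tOut F ^ (2 * c) := by
  have h1 : SemiconjBy (iOut F) (tOut F * tOut F) (tOut F) := by
    show iOut F * (tOut F * tOut F) = tOut F * iOut F
    rw [← mul_assoc, iOut_tOut, mul_assoc _ (iOut F), iOut_tOut]
    simp only [← mul_assoc]
    rw [tOut_cube, one_mul]
  rw [pow_mul, sq, (h1.pow_right c).eq]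

theorem semiCls_t_of_ti {c : ℕ} (h : SemiCls (tOut F ^ c * iOut F)) : 3 ∣ c := by
  refine semiCls_tOut_pow (F := F) ?_
  have := h.mul (semiCls_oc (toSim (Q4 F) (cIso F)))
  rwa [oc_cIso, mul_assoc, iOut_sq, mul_one] at this

/-- The class of an element of prime order. -/
theorem semi_or_triality {p : ℕ} [Fact p.Prime] (α : MulAut P8) (hα : α ^ p = 1) :
    SemiCls (QuotientGroup.mk α : Out P8) ∨
    (p = 2 ∧ ∃ j : ℕ, SemiCls (QuotientGroup.mk (triality F ^ j * α * (triality F ^ j)⁻¹) : Out P8) ∧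
      QuotientGroup.mk α ∉ DGrp F) ∨
    (p = 3 ∧ ∃ c : ℕ, ¬ 3 ∣ c ∧ (QuotientGroup.mk α : Out P8) * (tOut F ^ c)⁻¹ ∈ DGrp F) := by
  have hp : p.Prime := Fact.out
  set y : Out P8 := QuotientGroup.mk α with hy
  have hyp : y ^ p = 1 := by rw [hy, ← QuotientGroup.mk_pow, hα]; rfl
  obtain ⟨c, e, hd⟩ := exists_coset y
  have hi2 : iOut F ^ 2 = 1 := by rw [sq, iOut_sq]
  rw [pow_eq_pow_mod e hi2] at hd
  set d := y * (tOut F ^ c * iOut F ^ (e % 2))⁻¹ with hddef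
  have hyd : y = d * (tOut F ^ c * iOut F ^ (e % 2)) := by rw [hddef]; group
  by_cases hs : SemiCls y
  · exact .inl hs
  -- powers
  have hpow : ∀ (w : Out P8), (∀ z ∈ DGrp F, w * z * w⁻¹ ∈ DGrp F) → ∀ n : ℕ,
      (d * w) ^ n * (w ^ n)⁻¹ ∈ DGrp F := by
    intro w hw n
    induction n with
    | zero => simp
    | succ n ih =>
      rw [pow_succ', pow_succ', show d * w * (d * w) ^ n * (w * w ^ n)⁻¹ =
        d * (w * ((d * w) ^ n * (w ^ n)⁻¹) * w⁻¹) by group]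
      exact mul_mem hd (hw _ ih)
  rcases Nat.mod_two_eq_zero_or_one e with he | he <;> rw [he] at hyd
  · rw [pow_zero, mul_one] at hyd
    have hc : ¬ 3 ∣ c := fun ⟨m, hm⟩ => hs (by
      rw [hyd, hm, pow_mul, pow_succ, sq, tOut_cube, one_pow, mul_one]; exact hd |> DGrp.semi)
    have h1 := hpow _ (fun z => pow_conj_D _ (fun _ => t_conj_D) c) p
    rw [← hyd, hyp, one_mul, ← pow_mul] at h1
    have h2 : 3 ∣ c * p := semiCls_tOut_pow (F := F) (by
      simpa using (DGrp.semi h1).inv)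
    have hp3 : p = 3 := ((Nat.prime_dvd_prime_iff_eq Nat.prime_three hp).1
      ((Nat.prime_three.dvd_mul.1 h2).resolve_left hc)).symm
    refine .inr (.inr ⟨hp3, c, hc, ?_⟩)
    rw [hyd, mul_inv_cancel_right]; exact hd
  · rw [pow_one] at hyd
    have hc : ¬ 3 ∣ c := fun ⟨m, hm⟩ => hs (by
      rw [hyd, hm, pow_mul, pow_succ, sq, tOut_cube, one_pow, one_mul, ← oc_cIso]
      exact (DGrp.semi hd).mul (semiCls_oc _))
    have hw2 : (tOut F ^ c * iOut F) ^ 2 = 1 := by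
      rw [sq, mul_assoc, ← mul_assoc (iOut F), show iOut F * tOut F ^ c = tOut F ^ (2 * c) * iOut F from ?_]
      · rw [mul_assoc (tOut F ^ (2 * c)), iOut_sq, mul_one, ← pow_add, show c + 2 * c = 3 * c by ring,
          pow_mul, pow_succ, sq, tOut_cube, one_pow]
      · have h1 : SemiconjBy (iOut F) (tOut F) (tOut F * tOut F) := iOut_tOut
        rw [(h1.pow_right c).eq, pow_mul, sq]
    have hwD : ∀ z ∈ DGrp F, tOut F ^ c * iOut F * z * (tOut F ^ c * iOut F)⁻¹ ∈ DGrp F := fun z hz => by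
      rw [show tOut F ^ c * iOut F * z * (tOut F ^ c * iOut F)⁻¹ =
        tOut F ^ c * (iOut F * z * (iOut F)⁻¹) * (tOut F ^ c)⁻¹ by group]
      exact pow_conj_D _ (fun _ => t_conj_D) c (i_conj_D hz)
    rcases hp.eq_two_or_odd' with hp2 | ⟨m, hm⟩
    · refine .inr (.inl ⟨hp2, c, ?_, fun h => hs (DGrp.semi h)⟩)
      rw [QuotientGroup.mk_mul, QuotientGroup.mk_mul, QuotientGroup.mk_inv, QuotientGroup.mk_pow]
      show SemiCls (tOut F ^ c * y * (tOut F ^ c)⁻¹)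
      have h3 : tOut F ^ c * (tOut F ^ c * iOut F) * (tOut F ^ c)⁻¹ = iOut F := by
        rw [← mul_assoc, ← pow_add, conj_i, mul_assoc, ← div_eq_mul_inv, show 2 * (c + c) = c + 3 * c by ring, pow_add, pow_mul (tOut F) 3, pow_succ (tOut F) 2, sq, tOut_cube, one_pow, mul_one, div_self', mul_one]
      rw [hyd, show tOut F ^ c * (d * (tOut F ^ c * iOut F)) * (tOut F ^ c)⁻¹ =
        tOut F ^ c * d * (tOut F ^ c)⁻¹ * (tOut F ^ c * (tOut F ^ c * iOut F) * (tOut F ^ c)⁻¹) by group, h3]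
      exact (DGrp.semi (pow_conj_D _ (fun _ => t_conj_D) c hd)).mul (semiCls_oc (toSim (Q4 F) (cIso F)))
    · exfalso
      have h1 := hpow _ hwD p
      rw [← hyd, hyp, one_mul, hm, pow_succ, pow_mul, hw2, one_pow, one_mul] at h1
      exact hc (semiCls_t_of_ti (F := F) (by simpa using (DGrp.semi h1).inv))

end Cfsg.Agent.LocalBalance
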