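import Cfsg.Agent.Lib.LocalBalance.FieldTwo
import Cfsg.Agent.Lib.LocalBalance.GraphInv
import Cfsg.Agent.Lib.LocalBalance.GraphQuad
import Cfsg.Agent.Lib.LocalBalance.Minus
import Cfsg.Agent.Lib.OrthEven.GraphField
import Cfsg.Agent.Lib.OrthEven.Carrier

/-!
# Local balance of semilinear automorphisms of `PΩ⁺_{2m}(q)`, `m ≥ 4`

* `crit_gfPhi` : `Crit` for the standard involutory graph-field automorphism
* `semi_split` : the classification of semilinear automorphisms of prime order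
* `crit_semi` : `Crit` for semilinear automorphisms that are not inner-diagonal
-/

set_option autoImplicit false
set_option linter.unusedSectionVars false

namespace Cfsg.Agent.LocalBalance

open Cfsg Matrix Module
open Cfsg.Agent.Orth (IsoGrp Aniso quadPlus quadMinus)
open Cfsg.Agent.FieldAut (galGL mapGL scal fixF mem_fixF omMat omMat_injective CoeffFixed twNorm)
open Cfsg.Agent.OrthEven (cA phiP gfPhi swapR baseU par coeffFixed_plus GFModel)

variable {F : Type*} [Field F] [Fintype F] {k : ℕ}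

local notation "I" => Fin (k + 1) ⊕ Fin (k + 1)
local notation "QPf" => quadFormPlus (k + 1) F
local notation "SimP" => Geo.quadSimilarityGroup (F := F) (quadFormPlus (k + 1) F)

theorem crit_gfPhi (hk : 3 ≤ k) {σ : F ≃+* F} (hσ : orderOf σ = 2) (h2 : (2 : F) ≠ 0) :
    Crit 2 (gfPhi k σ) ∧ ¬ Nat.Coprime 2 (Nat.card (fixK (gfPhi k σ))) := by
  classical
  haveI : Fintype (fixF σ) := Fintype.ofFinite _
  set e : fixF σ →+* F := (fixF σ).subtype with he
  have hfix : ∀ x, σ (e x) = e x := fun x => (mem_fixF σ).1 x.2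
  have hrange : ∀ x, σ x = x → x ∈ Set.range e := fun x hx => ⟨⟨x, (mem_fixF σ).2 hx⟩, rfl⟩
  have hcard : Fintype.card F = Fintype.card (fixF σ) ^ 2 := by
    rw [← Nat.card_eq_fintype_card (α := fixF σ), FieldAut.pow_card_fixed σ hσ, Nat.card_eq_fintype_card]
  obtain ⟨M⟩ := OrthEven.exists_gfModel (k := k) (by omega) e hfix hrange hcard
  have hcf : CoeffFixed (quadFormMinus k F (e M.a₀) (e M.b₀)) σ :=
    OrthEven.coeffFixed_minus (hfix _) (hfix _)
  have hiso : ∀ g, OrthEven.conjL M.L g ∈ isometryGroup F QPf ↔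
      g ∈ isometryGroup F (quadFormMinus k F (e M.a₀) (e M.b₀)) := fun g => by
    rw [FieldAut.mem_iso_iff, FieldAut.mem_iso_iff]
    constructor
    · intro h v
      rw [← M.hL, ← M.hL, ← OrthEven.conjL_mulVec, h]
    · intro h w
      obtain ⟨v, rfl⟩ := M.L.surjective w
      rw [OrthEven.conjL_mulVec, M.hL, M.hL, h]
  set ψ := OrthEven.indEquiv omMat_injective omMat_injective (OrthEven.conjL M.L)
    (OrthEven.omMat_range_map _ hiso)
  have hx : MulAut.congr ψ (phiP hcf) = gfPhi k σ := by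
    rw [gfPhi, cA, phiP, phiP, FieldAut.conjAut_apply, ← map_mul]
    refine OrthEven.congr_indAut _ _ _ _ fun g => ?_
    show swapR k F * galGL σ (OrthEven.conjL M.L g) * (swapR k F)⁻¹ = OrthEven.conjL M.L (galGL σ g)
    refine mul_inv_eq_iff_eq_mul.2 (Units.ext (Matrix.mulVec_injective (funext fun w => ?_)))
    obtain ⟨v, rfl⟩ : ∃ v, w = σ ∘ M.L v := ⟨M.L.symm (σ.symm ∘ w), by
      rw [M.L.apply_symm_apply]; exact funext fun i => (σ.apply_symm_apply _).symm⟩
    rw [Units.val_mul, Units.val_mul, ← Matrix.mulVec_mulVec, ← Matrix.mulVec_mulVec,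
      FieldAut.galGL_mulVec, OrthEven.conjL_mulVec, M.twist, M.twist, OrthEven.swapR_swap,
      OrthEven.swapR_swap, OrthEven.conjL_mulVec, FieldAut.galGL_mulVec]
  have H : AutPOmega.Base (quadMinus k F (e M.a₀) (e M.b₀)) := by
    refine ⟨⟨fun u hu => ?_, fun u hu => ?_⟩, by simp; omega⟩ <;>
    · obtain ⟨v, rfl⟩ := M.L.symm.surjective u
      have h1 : ∀ x y, QuadraticMap.polar ⇑(quadMinus k F (e M.a₀) (e M.b₀)) (M.L.symm x) (M.L.symm y) =
          QuadraticMap.polar ⇑(quadPlus (k + 1) F) x y := fun x y => by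
        simp only [QuadraticMap.polar, Orth.coe_quadMinus, Orth.coe_quadPlus, ← map_add, ← M.hL,
          LinearEquiv.apply_symm_apply]
      have h2' : v = 0 := by
        first
          | exact (Orth.quadPlus_nondeg (F := F) (k + 1)).1 v fun y => by
              show QuadraticMap.polar ⇑(quadPlus (k + 1) F) v y = 0
              rw [← h1]; exact hu (M.L.symm y)
          | exact (Orth.quadPlus_nondeg (F := F) (k + 1)).2 v fun y => by
              show QuadraticMap.polar ⇑(quadPlus (k + 1) F) y v = 0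
              rw [← h1]; exact hu (M.L.symm y)
      rw [h2', map_zero]
  obtain ⟨hc, hev⟩ := crit_field_two (e := e) (Q := quadMinus k F (e M.a₀) (e M.b₀))
    (Q₀ := quadMinus k (fixF σ) M.a₀ M.b₀)
    (fun v => by simp [Orth.coe_quadMinus, quadFormMinus, he]) H
    (Orth.quadMinus_nondeg k M.aniso) hfix hrange hcf
    (fun h0 => h2 (by rw [← map_ofNat e 2, h0, map_zero])) (hσ ▸ pow_orderOf_eq_one σ)
  refine ⟨Crit.of_congr ψ.symm ?_, ?_⟩
  · rw [← hx]
    have e1 : MulAut.congr ψ.symm (MulAut.congr ψ (phiP hcf)) = phiP hcf :=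
      MulEquiv.ext fun y => (ψ.symm_apply_apply _).trans (congrArg (phiP hcf) (ψ.symm_apply_apply y))
    rw [e1]
    exact hc
  · rw [← hx, card_fixK_congr ψ]
    exact hev

/-- Semilinear automorphisms of prime order. -/
theorem semi_split (hk : 3 ≤ k) {r : ℕ} [Fact r.Prime] [CharP F r] {p : ℕ} [Fact p.Prime] (hpr : p ≠ r)
    {g : GL I F} {σ : F ≃+* F} (hs : IsSemisimilarityPair ⇑(quadPlus (k + 1) F) g σ)
    {x : MulAut (POmega F QPf)} (hx : x = AutPOmega.semiAut (quadPlus (k + 1) F) hs)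
    (hord : orderOf x = p) (hnot : ¬ Cfsg.IsInnerDiagonalAutPOmegaPlus (k + 1) x) :
    (p = 2 ∧ ∃ (hodd : Odd (Fintype.card F)) (g' : OrthOuter.Sim (quadPlus (k + 1) F)),
      OrthOuter.sgn (OrthOuter.ctxPlus hodd (show 3 ≤ k + 1 by omega)).exists_ne (k + 1) g' ≠ 1 ∧
      x = OrthOuter.conjAut (quadPlus (k + 1) F) g') ∨
    (∃ α, orderOf σ = p ∧ α * x * α⁻¹ = phiP (coeffFixed_plus σ)) ∨
    (p = 2 ∧ ∃ α, orderOf σ = 2 ∧ α * x * α⁻¹ = gfPhi k σ) := by
  classical
  have hp : p.Prime := Fact.out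
  have H : AutPOmega.Base (quadPlus (k + 1) F) := ⟨Orth.quadPlus_nondeg _, by simp; omega⟩
  have hS := OrthEven.splitPlus (F := F) (show 3 ≤ k + 1 by omega)
  haveI : Nonempty I := ⟨.inl 0⟩
  have hg : g ∈ SimP := FieldAut.sim_of_semisimilarity (coeffFixed_plus σ) hs
  have hxp : x ^ p = 1 := hord ▸ pow_orderOf_eq_one x
  have hδ : x = cA QPf ⟨g, hg⟩ * phiP (coeffFixed_plus σ) := by
    rw [hx, AutPOmega.semiAut, cA, phiP, FieldAut.conjAut_apply]
    refine Eq.trans ?_ (map_mul (FieldAut.indAut omMat_injective) _ _)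
    exact congrArg (FieldAut.indAut omMat_injective) (Subtype.ext rfl)
  have hsg : ∀ {M : GL I F}, M ∈ SimP → galGL σ M ∈ SimP := fun hM =>
    FieldAut.galGL_sim (coeffFixed_plus σ) hM
  have hN : ∀ n, twNorm σ n g ∈ SimP := by
    intro n
    induction n with
    | zero => simp [twNorm]
    | succ n ih => exact mul_mem hg (hsg ih)
  have hpow : cA QPf ⟨twNorm σ p g, hN p⟩ * phiP (coeffFixed_plus (σ ^ p)) = 1 := by
    rw [← hxp, hδ, cA, phiP, phiP, FieldAut.conjAut_apply, FieldAut.conjAut_apply, ← map_mul, ← map_mul,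
      ← map_pow]
    exact congrArg _ (Subtype.ext (FieldAut.conjGal_pow σ g p).symm)
  obtain ⟨hσp, hsc⟩ := OrthEven.cA_phi_eq_one_base H (Q := quadPlus (k + 1) F) (coeffFixed_plus _) hpow
  have hphi1 : phiP (coeffFixed_plus (m := k + 1) (1 : F ≃+* F)) = 1 := OrthEven.phiP_one
  by_cases hσ1 : σ = 1
  · subst hσ1
    have hxc : x = OrthOuter.conjAut (quadPlus (k + 1) F) ⟨g, AutPOmega.semi_sim hs⟩ :=
      hx.trans (AutPOmega.semiAut_one_eq hs)
    have hnp : ¬ par (baseU (k + 1) F) g = 1 := fun hpar =>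
      hnot ⟨g, hg, (hS.preserves_iff hg).2 hpar,
        (OrthOuter.induced_iff ⟨g, AutPOmega.semi_sim hs⟩ x).2 hxc⟩
    rcases hp.eq_two_or_odd' with hp2 | hpo
    · refine .inl ⟨hp2, ?_⟩
      have hodd : Odd (Fintype.card F) := by
        obtain ⟨n, -, hn⟩ := FiniteField.card F r
        rw [hn]
        exact Odd.pow ((Fact.out (p := r.Prime)).odd_of_ne_two fun hr2 => hpr (by rw [hp2, hr2]))
      exact ⟨hodd, ⟨g, AutPOmega.semi_sim hs⟩, fun e => hnp ((hS.preserves_iff hg).1
        ((OrthOuter.preserves_plus_iff hodd (by omega) ⟨g, AutPOmega.semi_sim hs⟩).2 e)), hxc⟩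
    · exfalso
      obtain ⟨c, hc⟩ := hsc
      have hp1 : ∀ n, par (baseU (k + 1) F) (twNorm (1 : F ≃+* F) n g) = par (baseU (k + 1) F) g ^ n := by
        intro n
        induction n with
        | zero => simp [twNorm, hS.par_one]
        | succ n ih =>
          rw [twNorm, map_one, MulAut.one_apply, hS.par_mul hg (hN n), ih, pow_succ']
      have h1 := hp1 p
      rw [show twNorm (1 : F ≃+* F) p g = scal c from hc.symm] at h1
      rw [hS.par_scalar] at h1
      rcases OrthEven.cls_eq_or (U₀ := baseU (k + 1) F)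
        ((baseU (k + 1) F).map (Matrix.toLin' g.1)) with h | h
      · exact hnp h
      · rw [show par (baseU (k + 1) F) g = -1 from h, hpo.neg_one_pow] at h1
        norm_num at h1
  · right
    have hoσ : orderOf σ = p := orderOf_eq_prime hσp hσ1
    have hz : ∃ z : Fˣ, twNorm σ p g = scal z := by
      obtain ⟨c, hc⟩ := hsc
      exact ⟨c, hc.symm⟩
    have D : FieldAut.Setup (omMat QPf) SimP σ p :=
      ⟨OrthEven.rigid_of_base H, inferInstance, fun _ => FieldAut.keep_conj_sim,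
        FieldAut.keep_gal_om (coeffFixed_plus σ), fun _ => FieldAut.galGL_sim (coeffFixed_plus σ), hoσ,
        hp.pos⟩
    rcases OrthEven.plus_classify hoσ hp hg hz with ⟨a, k', hk', hgk⟩ | ⟨hp2, a, k', hk', hgk⟩
    · refine .inl ⟨(cA QPf ⟨k', hk'⟩)⁻¹, hoσ, ?_⟩
      have h1 : cA QPf ⟨g, hg⟩ = cA QPf ⟨k' * (galGL σ k')⁻¹, mul_mem hk' (inv_mem (hsg hk'))⟩ :=
        D.conjAut_scal_mul hg _ hgk
      rw [hδ, h1, inv_inv, mul_assoc, mul_assoc, OrthEven.phi_cA, ← mul_assoc, ← mul_assoc, ← map_inv,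
        ← map_mul, ← map_mul]
      refine (congrArg (· * phiP (coeffFixed_plus σ)) ?_).trans (one_mul _)
      rw [← map_one (cA QPf)]
      exact congrArg _ (Subtype.ext (by simp [mul_assoc]))
    · refine .inr ⟨hp2, (cA QPf ⟨k', hk'⟩)⁻¹, hp2 ▸ hoσ, ?_⟩
      have hm : k' * swapR k F ∈ SimP := mul_mem hk' OrthEven.swapR_sim.1
      have h1 : cA QPf ⟨g, hg⟩ =
          cA QPf ⟨k' * swapR k F * (galGL σ k')⁻¹, mul_mem hm (inv_mem (hsg hk'))⟩ :=
        D.conjAut_scal_mul hg _ hgk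
      rw [hδ, h1, inv_inv, gfPhi, mul_assoc, mul_assoc, OrthEven.phi_cA, ← mul_assoc, ← mul_assoc,
        ← map_inv, ← map_mul, ← map_mul]
      congr 2
      exact Subtype.ext (by simp [mul_assoc])

/-- A prime dividing the order of a group divides the fixed points of an automorphism of that order. -/
theorem dvd_card_fixK {K : Type*} [Group K] [Finite K] {p : ℕ} [Fact p.Prime] {x : MulAut K}
    (hx : x ^ p = 1) (hd : p ∣ Nat.card K) : p ∣ Nat.card (fixK x) := by
  classical
  haveI : Finite (MulAut K) := Finite.of_injective (fun a : MulAut K => (a : K → K)) DFunLike.coe_injective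
  have hG : IsPGroup p (Subgroup.zpowers x) := by
    rintro ⟨g, i, rfl⟩
    refine ⟨1, Subtype.ext ?_⟩
    simp only [pow_one, SubmonoidClass.coe_pow, OneMemClass.coe_one]
    rw [← zpow_natCast, ← _root_.zpow_mul, mul_comm, _root_.zpow_mul, zpow_natCast, hx, _root_.one_zpow]
  let f : fixK x ≃ MulAction.fixedPoints (Subgroup.zpowers x) K :=
    { toFun := fun k => ⟨k.1, by
        rintro ⟨g, i, rfl⟩
        have h1 : x ∈ MulAction.stabilizer (MulAut K) k.1 := k.2
        exact Subgroup.zpow_mem _ h1 i⟩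
      invFun := fun k => ⟨k.1, k.2 ⟨x, Subgroup.mem_zpowers x⟩⟩
      left_inv := fun _ => rfl
      right_inv := fun _ => rfl }
  rw [Nat.card_congr f]
  exact (hG.card_modEq_card_fixedPoints K).dvd_iff dvd_rfl |>.1 hd

/-- `Crit` for semilinear automorphisms that are not inner-diagonal. -/
theorem crit_semi (hk : 3 ≤ k) {r : ℕ} [Fact r.Prime] [CharP F r] {p : ℕ} [Fact p.Prime] (hpr : p ≠ r)
    {g : GL I F} {σ : F ≃+* F} (hs : IsSemisimilarityPair ⇑(quadPlus (k + 1) F) g σ)
    {x : MulAut (POmega F QPf)} (hx : x = AutPOmega.semiAut (quadPlus (k + 1) F) hs)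
    (hord : orderOf x = p) (hnot : ¬ Cfsg.IsInnerDiagonalAutPOmegaPlus (k + 1) x)
    (hsemi : p = 2 → ∀ g' : OrthOuter.Sim (quadPlus (k + 1) F),
      x = OrthOuter.conjAut (quadPlus (k + 1) F) g' → ∀ β : MulAut (POmega F QPf),
      β * x = x * β → ∃ (h : GL I F) (τ : F ≃+* F)
        (hs' : IsSemisimilarityPair ⇑(quadPlus (k + 1) F) h τ),
        β = AutPOmega.semiAut (quadPlus (k + 1) F) hs') :
    Crit p x ∧ (p = 2 → ¬ Nat.Coprime p (Nat.card (fixK x))) ∧
      (p ≠ 2 → Cfsg.IsFieldAutClassPOmega QPf x) := by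
  classical
  have h2 : p = 2 → (2 : F) ≠ 0 := by
    rintro rfl h0
    exact hpr ((Nat.prime_dvd_prime_iff_eq (Fact.out) Nat.prime_two).1
      ((CharP.cast_eq_zero_iff F r 2).1 (by exact_mod_cast h0))).symm
  have H : AutPOmega.Base (quadPlus (k + 1) F) := ⟨Orth.quadPlus_nondeg _, by simp; omega⟩
  rcases semi_split hk hpr hs hx hord hnot with
    ⟨rfl, hodd, g', hsgn, hg'⟩ | ⟨α, hoσ, hα⟩ | ⟨rfl, α, hoσ, hα⟩
  · have hg2 : OrthOuter.conjAut (quadPlus (k + 1) F) g' ^ 2 = 1 := by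
      rw [← hg']; exact hord ▸ pow_orderOf_eq_one x
    obtain ⟨hc, hev⟩ := crit_graph (OrthOuter.ctxPlus hodd (show 3 ≤ k + 1 by omega)) hsgn hg2
      (fun β hβ => hsemi rfl g' hg' β (by rw [hg']; exact hβ))
    rw [hg']
    exact ⟨hc, fun _ => hev, fun h => absurd rfl h⟩
  · have hσ1 : σ ≠ RingEquiv.refl F := by
      intro h
      have h1 : orderOf σ = 1 := orderOf_eq_one_iff.2 h
      exact (Fact.out : p.Prime).ne_one (hoσ.symm.trans h1)
    haveI : Fintype (fixF σ) := Fintype.ofFinite _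
    have hfc : IsFieldAutClassPOmega QPf x :=
      ⟨α, phiP (coeffFixed_plus σ), σ, hσ1, (OrthEven.isFieldAut_iff _ _).2 rfl, hα⟩
    have hem : ∀ v, quadPlus (k + 1) F ((fixF σ).subtype ∘ v) =
        (fixF σ).subtype (quadPlus (k + 1) (fixF σ) v) :=
      fun v => by simp [Orth.coe_quadPlus, quadFormPlus]
    have hfix : ∀ c, σ ((fixF σ).subtype c) = (fixF σ).subtype c := fun c => (mem_fixF σ).1 c.2
    have hrange : ∀ c, σ c = c → c ∈ Set.range (fixF σ).subtype :=
      fun c hc => ⟨⟨c, (mem_fixF σ).2 hc⟩, rfl⟩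
    rcases (Fact.out : p.Prime).eq_two_or_odd' with hp2 | hpo
    · subst hp2
      obtain ⟨hc, hev⟩ := crit_field_two hem H (Orth.quadPlus_nondeg _) hfix hrange (coeffFixed_plus σ)
        (fun h0 => h2 rfl (by rw [← map_ofNat (fixF σ).subtype 2, h0, map_zero]))
        (hoσ ▸ pow_orderOf_eq_one σ)
      refine ⟨Crit.of_conj (α := α) (hα ▸ hc), fun _ h => hev ?_, fun h => absurd rfl h⟩
      have h3 := map_fixK α x
      rw [hα] at h3
      have h4 : Nat.card (fixK x) = Nat.card (fixK (phiP (coeffFixed_plus (m := k + 1) σ))) := by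
        rw [← h3]; exact Nat.card_congr ((fixK x).equivMapOfInjective _ α.injective).toEquiv
      exact h4 ▸ h
    · have hc := crit_field_std hem H (Orth.quadPlus_nondeg _) hfix hrange (coeffFixed_plus σ) hpo
        (hoσ ▸ pow_orderOf_eq_one σ)
      exact ⟨Crit.of_conj (α := α) (hα ▸ hc), fun h => absurd (h ▸ hpo) (by decide), fun _ => hfc⟩
  · obtain ⟨hc, hev⟩ := crit_gfPhi hk hoσ (h2 rfl)
    refine ⟨Crit.of_conj (α := α) (hα ▸ hc), fun _ h => hev ?_, fun h => absurd rfl h⟩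
    rwa [← hα, ← map_fixK, ← Nat.card_congr ((fixK x).equivMapOfInjective _ α.injective).toEquiv]

end Cfsg.Agent.LocalBalance
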