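import Cfsg.Agent.Lib.LocalBalance.Abstract
import Cfsg.Agent.Lib.FieldAut.Symplectic
import Cfsg.Agent.Lib.AutPSp.OutFour
import Cfsg.Agent.S0270
import Cfsg.Agent.S0247

/-!
# Local balance for `PSp_{2m}(q)`

* `exists_semi` : automorphisms of prime order `p ≠ r` are semilinear
* `exists_conj_std` : those which are not inner-diagonal are conjugates of standard field automorphisms
* `crit_std` : `Crit` for a standard field automorphism
* `psp_local_balance` : the criterion
-/

set_option autoImplicit false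

open Matrix

namespace Cfsg.Agent.LocalBalance

open Cfsg.Agent.FieldAut Cfsg.Agent.AutPSp

variable {m : ℕ} {F : Type*} [Field F]

local notation "V" => (Fin m ⊕ Fin m → F)
local notation "Sp" => Matrix.symplecticGroup (Fin m) F
local notation "PG" => Cfsg.PSp m F
local notation "GLm" => GL (Fin m ⊕ Fin m) F

/-- The standard field automorphism of `PSp`. -/
noncomputable def stdAut (m : ℕ) {F : Type*} [Field F] :
    (F ≃+* F) →* MulAut (Cfsg.PSp m F) :=
  (indAut (spMat_injective (m := m) (F := F))).comp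
    (galGL.codRestrict (keep (spMat m F)) keep_gal)

/-- The standard field automorphism of `Sp`. -/
noncomputable def galSp (m : ℕ) {F : Type*} [Field F] (σ : F ≃+* F) :
    MulAut (Matrix.symplecticGroup (Fin m) F) :=
  liftAut spMat_injective ⟨galGL σ, keep_gal σ⟩

theorem galSp_coe (σ : F ≃+* F) (h : Sp) : (galSp m σ h).1 = h.1.map σ := by
  have := congrArg Units.val (mat_liftAut spMat_injective ⟨galGL σ, keep_gal σ⟩ h)
  rw [spMat_coe, galGL_apply_coe, spMat_coe] at this
  exact this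

theorem stdAut_pr (σ : F ≃+* F) (h : Sp) : stdAut m σ (pr m F h) = pr m F (galSp m σ h) := rfl

theorem semiAut_one (τ : F ≃+* F) :
    semiAut (one_mem (Cfsg.GSp m F)) τ = stdAut m τ := by
  show indAut _ _ = indAut _ _
  congr 1
  refine Subtype.ext ?_
  show MulAut.conj (1 : GLm) * galGL τ = galGL τ
  rw [map_one, one_mul]

theorem stdAut_TP (σ : F ≃+* F) (v : V) (c : F) :
    stdAut m σ (TP v c) = TP (σ ∘ v) (σ c) := by
  rw [← semiAut_one, semiAut, semi_TP σ (one_mem _) (l := 1) (by simp) one_ne_zero]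
  simp

theorem galSp_tv (σ : F ≃+* F) (v : V) (c : F) : galSp m σ (tv v c) = tv (σ ∘ v) (σ c) := by
  refine sp_ext fun x => ?_
  obtain ⟨y, rfl⟩ := galois_surj σ x
  rw [galSp_coe, galois_mulVec, tv_mulVec, tv_mulVec, sympForm_galois]
  funext i
  simp

/-! ### Automorphisms of odd order are semilinear -/

theorem transPres_mul {α β : MulAut PG} (hα : TransPres (m := m) (F := F) α)
    (hβ : TransPres (m := m) (F := F) β) : TransPres (m := m) (F := F) (α * β) := by
  intro v hv c hc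
  constructor
  · obtain ⟨v', hv', c', hc', e⟩ := (hβ v hv c hc).1
    obtain ⟨w, hw, d, hd, e'⟩ := (hα v' hv' c' hc').1
    exact ⟨w, hw, d, hd, by rw [MulAut.mul_apply, e, e']⟩
  · obtain ⟨v', hv', c', hc', e⟩ := (hα v hv c hc).2
    obtain ⟨w, hw, d, hd, e'⟩ := (hβ v' hv' c' hc').2
    exact ⟨w, hw, d, hd, by rw [_root_.mul_inv_rev, MulAut.mul_apply, e, e']⟩

theorem transPres_pow {α : MulAut PG} (hα : TransPres (m := m) (F := F) α) (k : ℕ) :
    TransPres (m := m) (F := F) (α ^ k) := by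
  induction k with
  | zero => exact fun v hv c hc => ⟨⟨v, hv, c, hc, rfl⟩, ⟨v, hv, c, hc, by rw [pow_zero, inv_one]; rfl⟩⟩
  | succ k ih => rw [pow_succ]; exact transPres_mul ih hα

theorem transPres_conj (k : PG) : TransPres (m := m) (F := F) (MulAut.conj k) := by
  intro v hv c hc
  obtain ⟨s, rfl⟩ := pr_surjective k
  refine ⟨⟨_, sp_ne (g := s) hv, c, hc, conj_TP s v c⟩, ⟨_, sp_ne (g := s⁻¹) hv, c, hc, ?_⟩⟩
  rw [← map_inv MulAut.conj, ← map_inv (pr m F)]
  exact conj_TP s⁻¹ v c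

theorem transPres_sq_four [CharP F 2] [Finite F] (α : MulAut (Cfsg.PSp 2 F)) :
    TransPres (m := 2) (F := F) (α ^ 2) := by
  classical
  haveI := Fintype.ofFinite F
  obtain ⟨f, hf, hF⟩ := FiniteField.card F 2
  haveI := (out_cyclic_card f f.2 (Nat.card_eq_fintype_card.trans hF)).1
  have hab : ∀ a b : Cfsg.Out (Cfsg.PSp 2 F), a * b = b * a := fun a b => by
    obtain ⟨g, hg⟩ := IsCyclic.exists_generator (α := Cfsg.Out (Cfsg.PSp 2 F))
    obtain ⟨i, rfl⟩ := Subgroup.mem_zpowers_iff.1 (hg a)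
    obtain ⟨j, rfl⟩ := Subgroup.mem_zpowers_iff.1 (hg b)
    rw [← _root_.zpow_add, ← _root_.zpow_add, add_comm]
  obtain ⟨σ, hσ⟩ : ∃ σ, (QuotientGroup.mk (α ^ 2) : Cfsg.Out (Cfsg.PSp 2 F)) = outGal F σ := by
    rcases aut_cases α with h | h
    · obtain ⟨⟨⟨g, hg⟩, σ⟩, rfl⟩ := h
      exact ⟨σ ^ 2, by rw [QuotientGroup.mk_pow, semiAut_class hg σ, map_pow]⟩
    · obtain ⟨⟨⟨g, hg⟩, σ⟩, hs⟩ := h
      refine ⟨frobeniusEquiv F 2 * σ ^ 2, ?_⟩
      have e : (QuotientGroup.mk α : Cfsg.Out (Cfsg.PSp 2 F)) = QuotientGroup.mk (graphAut F) * outGal F σ := by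
        rw [← semiAut_class hg σ, ← QuotientGroup.mk_mul]
        congr 1
        exact (eq_inv_mul_iff_mul_eq.1 hs).symm
      rw [QuotientGroup.mk_pow, e, Commute.mul_pow (hab _ _), graph_sq_class, map_mul, map_pow]
  have hσ' : (QuotientGroup.mk (α ^ 2) : Cfsg.Out (Cfsg.PSp 2 F)) = QuotientGroup.mk (stdAut 2 σ) := hσ
  obtain ⟨k, hk⟩ := QuotientGroup.eq.1 hσ'.symm
  rw [show α ^ 2 = stdAut 2 σ * MulAut.conj k by rw [hk, mul_inv_cancel_left], ← semiAut_one]
  exact transPres_mul (transPres_semiAut _ σ) (transPres_conj k)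

theorem exists_semi [Finite F] {r : ℕ} [Fact r.Prime] [CharP F r] (hm : 2 ≤ m) {p : ℕ}
    (hp : p.Prime) (hpr : p ≠ r) {x : MulAut PG} (hx : x ^ p = 1) :
    ∃ (g : GLm) (hg : g ∈ Cfsg.GSp m F) (τ : F ≃+* F), x = semiAut hg τ := by
  have h : TransPres (m := m) (F := F) x := by
    by_cases hc : 3 ≤ m ∨ r ≠ 2
    · exact transPres_all r hm hc x
    · push Not at hc
      obtain ⟨h3, rfl⟩ := hc
      obtain rfl : m = 2 := by omega
      obtain ⟨j, hj⟩ := hp.odd_of_ne_two hpr
      have : x = (x ^ 2) ^ (j + 1) := by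
        rw [← pow_mul, show 2 * (j + 1) = p + 1 by omega, pow_succ, hx, one_mul]
      rw [this]
      exact transPres_pow (transPres_sq_four x) _
  obtain ⟨g, τ, hg, e⟩ := exists_semilinear_eq hm h
  exact ⟨g, hg, τ, e⟩

theorem pspAutHyp [Finite F] {r : ℕ} [Fact r.Prime] [CharP F r] (hm : 2 ≤ m) : PSpAutHyp m F :=
  fun h2 => gammaPSp_eq_top r hm (Or.inr (by rintro rfl; exact h2 (ringChar.eq F 2)))

theorem exists_conj_std [Finite F] {r : ℕ} [Fact r.Prime] [CharP F r] (hm : 2 ≤ m) {p : ℕ}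
    (hp : p.Prime) (hpr : p ≠ r) {x : MulAut PG} (hord : orderOf x = p)
    (hnot : ¬ Cfsg.IsInnerDiagonalAutPSp x) :
    ∃ (α : MulAut PG) (σ : F ≃+* F), orderOf σ = p ∧ α * x * α⁻¹ = stdAut m σ := by
  have hm0 : 0 < m := by omega
  haveI : Nonempty (Fin m ⊕ Fin m) := ⟨.inl ⟨0, hm0⟩⟩
  haveI : Finite (F ≃+* F) := Finite.of_injective (fun a : F ≃+* F => (a : F → F)) DFunLike.coe_injective
  have hxp : x ^ p = 1 := hord ▸ pow_orderOf_eq_one x
  obtain ⟨g, hg, τ, rfl⟩ := exists_semi (r := r) hm hp hpr hxp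
  have hτ : τ ≠ 1 := by
    rintro rfl
    exact hnot ⟨g, hg, (isInd_semilinear g _ _).2 ((isInd_iff spMat_injective
      (mul_mem (keep_conj_GSp hg) (keep_gal _))).2 rfl)⟩
  have hτp : τ ^ p = 1 := by
    have hN : twNorm τ p g ∈ Cfsg.GSp m F :=
      (⟨spRigid, inferInstance, fun _ => keep_conj_GSp, keep_gal τ, fun _ => galGL_GSp τ, rfl,
        orderOf_pos τ⟩ : Setup (spMat m F) (Cfsg.GSp m F) τ (orderOf τ)).twNorm_mem hg p
    have h1 : semiAut hN (τ ^ p) = semiAut (one_mem (Cfsg.GSp m F)) (RingEquiv.refl F) := by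
      rw [semiAut_one, show stdAut m (RingEquiv.refl F) = 1 from map_one (stdAut m)]
      refine Eq.trans ?_ hxp
      rw [semiAut, semiAut, ← map_pow]
      congr 1
      exact Subtype.ext (conjGal_pow τ g p).symm
    exact ((semiAut_eq_iff hm0 hN (one_mem _) _ _).1 h1).1
  have hoτ : orderOf τ = p := @orderOf_eq_prime _ _ τ p ⟨hp⟩ hτp hτ
  have hφ1 : stdAut m τ ≠ 1 := fun h => hτ <| by
    rw [← semiAut_one, ← show stdAut m (RingEquiv.refl F) = 1 from map_one (stdAut m), ← semiAut_one] at h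
    exact ((semiAut_eq_iff hm0 _ _ _ _).1 h).1
  have hφ : orderOf (stdAut m τ) = p :=
    @orderOf_eq_prime _ _ _ p ⟨hp⟩ (by rw [← map_pow, hτp, map_one]) hφ1
  have hfc : Cfsg.IsFieldAutClassPSp (stdAut m τ) := by
    refine ⟨1, τ, hτ, ?_⟩
    rw [one_mul, inv_one, mul_one]
    exact (isInd_std τ _).2 ((isInd_iff spMat_injective (keep_gal τ)).2 rfl)
  have hδ : conjAut spMat_injective (Cfsg.GSp m F) (fun _ => keep_conj_GSp) ⟨g, hg⟩
      ∈ Cfsg.inndiagPSp m F := by
    rw [inndiagPSp_eq]; exact ⟨_, rfl⟩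
  have hx : semiAut hg τ = conjAut spMat_injective (Cfsg.GSp m F) (fun _ => keep_conj_GSp) ⟨g, hg⟩
      * stdAut m τ := by
    rw [conjAut_apply, semiAut]
    show _ = indAut _ _ * indAut _ _
    rw [← map_mul]
    rfl
  obtain ⟨h, -, e⟩ := (psp_coset_conj hm0 (pspAutHyp (r := r) hm) hfc hp hφ hδ).1 (hx ▸ hord)
  refine ⟨h⁻¹, τ, hoτ, ?_⟩
  rw [hx, e]
  group

/-! ### The fixed points of a standard field automorphism -/

section Fixed

variable (σ : F ≃+* F)

/-- The fixed field. -/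
abbrev fixF : Subfield F := FixedPoints.subfield (Subgroup.zpowers σ) F

theorem mem_fixF {a : F} : a ∈ fixF σ ↔ σ a = a := by
  refine ⟨fun h => h ⟨σ, Subgroup.mem_zpowers σ⟩, fun h g => ?_⟩
  have hle : Subgroup.zpowers σ ≤ MulAction.stabilizer (F ≃+* F) a :=
    Subgroup.zpowers_le.2 h
  exact hle g.2

/-- `Sp` over the fixed field, in `Sp` over the field. -/
def liftSp (m : ℕ) : Matrix.symplecticGroup (Fin m) (fixF σ) →* Matrix.symplecticGroup (Fin m) F where
  toFun h := ⟨h.1.map (fixF σ).subtype, by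
    rw [SymplecticGroup.mem_iff]
    have h1 := congrArg (fun M => (fixF σ).subtype.mapMatrix M) (SymplecticGroup.mem_iff.1 h.2)
    simp only [map_mul, RingHom.mapMatrix_apply, ← Matrix.transpose_map] at h1
    rwa [FieldAut.J_map'] at h1⟩
  map_one' := Subtype.ext (Matrix.map_one _ (map_zero _) (map_one _))
  map_mul' a b := Subtype.ext (Matrix.map_mul (f := (fixF σ).subtype))

/-- The simple subgroup of the fixed points. -/
def baseGroup (m : ℕ) : Subgroup (Cfsg.PSp m F) := ((pr m F).comp (liftSp σ m)).range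

theorem mem_baseGroup {k : PG} :
    k ∈ baseGroup σ m ↔ ∃ h : Sp, h.1.map σ = h.1 ∧ pr m F h = k := by
  constructor
  · rintro ⟨h0, rfl⟩
    refine ⟨liftSp σ m h0, ?_, rfl⟩
    ext i j
    exact (mem_fixF σ).1 (h0.1 i j).2
  · rintro ⟨h, hh, rfl⟩
    have hm : ∀ i j, h.1 i j ∈ fixF σ := fun i j => (mem_fixF σ).2 (congrFun (congrFun hh i) j)
    let M : Matrix (Fin m ⊕ Fin m) (Fin m ⊕ Fin m) (fixF σ) := fun i j => ⟨h.1 i j, hm i j⟩
    have hM : M ∈ Matrix.symplecticGroup (Fin m) (fixF σ) := by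
      rw [SymplecticGroup.mem_iff]
      refine Matrix.map_injective (fixF σ).subtype_injective ?_
      show (fixF σ).subtype.mapMatrix _ = (fixF σ).subtype.mapMatrix _
      simp only [map_mul, RingHom.mapMatrix_apply, ← Matrix.transpose_map, FieldAut.J_map']
      exact SymplecticGroup.mem_iff.1 h.2
    exact ⟨⟨M, hM⟩, rfl⟩

theorem pr_mem_baseGroup {h : Sp} (hh : galSp m σ h = h) : pr m F h ∈ baseGroup σ m :=
  (mem_baseGroup σ).2 ⟨h, by rw [← galSp_coe, hh], rfl⟩

theorem TP_mem_baseGroup {v : V} {c : F} (hv : σ ∘ v = v) (hc : σ c = c) : TP v c ∈ baseGroup σ m :=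
  pr_mem_baseGroup σ (by rw [galSp_tv, hv, hc])

theorem baseGroup_le : baseGroup σ m ≤ fixK (stdAut m σ) := fun k hk => by
  obtain ⟨h, hh, rfl⟩ := (mem_baseGroup σ).1 hk
  rw [mem_fixK, stdAut_pr]
  congr 1
  exact Subtype.ext (by rw [galSp_coe, hh])

theorem mem_fix_cases {k : PG} (hk : k ∈ fixK (stdAut m σ)) :
    ∃ h : Sp, pr m F h = k ∧ (h.1.map σ = h.1 ∨ h.1.map σ = -h.1) := by
  obtain ⟨h, rfl⟩ := pr_surjective k
  rw [mem_fixK, stdAut_pr, pr_eq_iff, galSp_coe] at hk
  refine ⟨h, rfl, hk.imp (fun e => e.symm) fun e => ?_⟩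
  exact eq_neg_iff_add_eq_zero.2 ((add_comm _ _).trans (eq_neg_iff_add_eq_zero.1 e))

theorem baseGroup_normalized {g : PG} (hg : g ∈ fixK (stdAut m σ)) {s : PG} (hs : s ∈ baseGroup σ m) :
    g * s * g⁻¹ ∈ baseGroup σ m := by
  obtain ⟨h, rfl, hh⟩ := mem_fix_cases σ hg
  obtain ⟨t, ht, rfl⟩ := (mem_baseGroup σ).1 hs
  rw [← map_inv, ← map_mul, ← map_mul]
  refine pr_mem_baseGroup σ ?_
  have ht' : galSp m σ t = t := Subtype.ext (by rw [galSp_coe, ht])
  rw [map_mul, map_mul, map_inv, ht']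
  rcases hh with e | e
  · rw [show galSp m σ h = h from Subtype.ext (by rw [galSp_coe, e])]
  · refine Subtype.ext ?_
    have e1 : (galSp m σ h).1 = -h.1 := by rw [galSp_coe, e]
    simp only [Submonoid.coe_mul, SymplecticGroup.coe_inv, e1, Matrix.transpose_neg, Matrix.neg_mul,
      Matrix.mul_neg, neg_neg, Matrix.mul_assoc]

theorem fix_le_of_odd {p : ℕ} (hσ : σ ^ p = 1) (hodd : Odd p) (hm : 0 < m) :
    fixK (stdAut m σ) ≤ baseGroup σ m := by
  intro k hk
  obtain ⟨h, rfl, hh⟩ := mem_fix_cases σ hk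
  refine (mem_baseGroup σ).2 ⟨h, ?_, rfl⟩
  rcases hh with e | e
  · exact e
  · by_cases h2 : (2 : F) = 0
    · rw [e]; ext i j
      simp only [Matrix.neg_apply]
      linear_combination -(h.1 i j) * h2
    · exfalso
      have hne : ∃ i j, h.1 i j ≠ 0 := by
        by_contra! hz
        have h0 : h.1 = 0 := by ext i j; exact hz i j
        have hd := SymplecticGroup.mem_iff.1 h.2
        rw [h0, Matrix.zero_mul, Matrix.zero_mul] at hd
        have h1 := congrFun (congrFun hd (.inl ⟨0, hm⟩)) (.inr ⟨0, hm⟩)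
        simp [Matrix.J] at h1
      obtain ⟨i, j, hij⟩ := hne
      have hstep : ∀ n : ℕ, (σ ^ n) (h.1 i j) = (-1) ^ n * h.1 i j := fun n => by
        induction n with
        | zero => simp
        | succ n ih =>
          rw [pow_succ, RingAut.mul_apply, show σ (h.1 i j) = -h.1 i j from congrFun (congrFun e i) j,
            map_neg, ih, pow_succ]
          ring
      have := hstep p
      rw [hσ, hodd.neg_one_pow] at this
      change h.1 i j = -1 * h.1 i j at this
      exact hij ((mul_eq_zero.1 (by linear_combination this : (2 : F) * h.1 i j = 0)).resolve_left h2)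

/-- `baseGroup σ m` is `PSp_{2m}` of the fixed field. -/
noncomputable def baseEquiv : Cfsg.PSp m (fixF σ) ≃* baseGroup σ m :=
  (QuotientGroup.quotientMulEquivOfEq <| by
      ext h
      rw [GLOrder.center_Sp, MonoidHom.mem_ker, MonoidHom.comp_apply, ← map_one (pr m F), pr_eq_iff]
      constructor
      · rintro (e | e)
        · exact Or.inl (by rw [show h = 1 from Subtype.ext e, map_one])
        · refine Or.inr ?_
          ext i j
          by_cases hij : i = j <;> simp [liftSp, e, hij]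
      · rintro (e | e)
        · refine Or.inl (Matrix.map_injective (fixF σ).subtype_injective ?_)
          simpa [liftSp] using e.symm
        · refine Or.inr (Matrix.map_injective (fixF σ).subtype_injective ?_)
          rw [eq_neg_iff_add_eq_zero] at e
          have e' : (liftSp σ m h).1 = -1 := by
            rw [eq_neg_iff_add_eq_zero, add_comm]; exact e
          ext i j
          have := congrFun (congrFun e' i) j
          by_cases hij : i = j <;> simp [liftSp, hij] at this ⊢ <;> exact this).trans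
    (QuotientGroup.quotientKerEquivRange ((pr m F).comp (liftSp σ m)))

/-- An automorphism fixing the base group pointwise and commuting with `stdAut σ`. -/
theorem rigid_base [Finite F] {r : ℕ} [Fact r.Prime] [CharP F r] (hm : 2 ≤ m) {p : ℕ}
    (hσp : σ ^ p = 1) {β : MulAut PG} (hk : ∀ k ∈ baseGroup σ m, β k = k) : β ^ p = 1 := by
  classical
  have hm0 : 0 < m := by omega
  have hfix : ∀ a : Fin m ⊕ Fin m, σ ∘ (Pi.single a 1 : V) = Pi.single a 1 := fun a => by
    funext b; by_cases h : b = a <;> simp [Pi.single_apply, h]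
  have htp : TransPres (m := m) (F := F) β := by
    by_cases hc : 3 ≤ m ∨ r ≠ 2
    · exact transPres_all r hm hc β
    · push Not at hc
      obtain ⟨h3, rfl⟩ := hc
      obtain rfl : m = 2 := by omega
      refine transPres_of_std ⟨Pi.single (Sum.inl 0) 1, by simp, 1, one_ne_zero, ?_⟩
      exact hk _ (TP_mem_baseGroup σ (hfix _) (map_one σ))
  obtain ⟨g, τ, hg, rfl⟩ := exists_semilinear_eq hm htp
  obtain ⟨l, hl, hlf⟩ := exists_multiplier hg
  have key : ∀ v : V, v ≠ 0 → σ ∘ v = v → ∀ c : F, c ≠ 0 → σ c = c →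
      TP (g.1 *ᵥ (τ ∘ v)) (τ c / l) = TP v c := fun v _ hv c _ hc => by
    rw [← semi_TP τ hg hlf hl]
    exact hk _ (TP_mem_baseGroup σ hv hc)
  have hpar : ∀ v : V, v ≠ 0 → σ ∘ v = v → ∃ k : F, g.1 *ᵥ (τ ∘ v) = k • v := fun v h0 hv => by
    obtain ⟨k, -, e⟩ := TP_par h0 (gl_ne g (galois_ne τ h0)) one_ne_zero
      (key v h0 hv 1 one_ne_zero (map_one σ)).symm
    exact ⟨k, e⟩
  have hτe : ∀ a : Fin m ⊕ Fin m, τ ∘ (Pi.single a 1 : V) = Pi.single a 1 := fun a => by
    funext b; by_cases h : b = a <;> simp [Pi.single_apply, h]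
  have hcol : ∀ a, ∃ d : F, g.1 *ᵥ (Pi.single a 1 : V) = d • (Pi.single a 1 : V) := fun a => by
    have := hpar _ (by simp) (hfix a)
    rwa [hτe] at this
  choose d hd using hcol
  have hconst : ∀ a b, d a = d b := fun a b => by
    by_cases hab : a = b
    · rw [hab]
    have e : ∀ ρ : F ≃+* F, (∀ c, ρ ∘ (Pi.single c 1 : V) = Pi.single c 1) →
        ρ ∘ (Pi.single a 1 + Pi.single b 1 : V) = Pi.single a 1 + Pi.single b 1 := fun ρ hρ => by
      funext x
      simp only [Function.comp_apply, Pi.add_apply, map_add]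
      rw [← Function.comp_apply (f := ρ), hρ, ← Function.comp_apply (f := ρ), hρ]
    obtain ⟨k, hk'⟩ := hpar (Pi.single a 1 + Pi.single b 1)
      (fun h0 => by simpa [hab] using congrFun h0 a) (e σ hfix)
    rw [e τ hτe, Matrix.mulVec_add, hd, hd] at hk'
    have c1 := congrFun hk' a
    have c2 := congrFun hk' b
    simp [hab, Ne.symm hab] at c1 c2
    rw [c1, c2]
  set a0 : Fin m ⊕ Fin m := Sum.inl ⟨0, hm0⟩
  have hd0 : d a0 ≠ 0 := fun h => gl_ne g (show (Pi.single a0 1 : V) ≠ 0 by simp) (by rw [hd, h, zero_smul])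
  have hgs : g = scal (Units.mk0 (d a0) hd0) := by
    refine Units.ext (Matrix.ext_of_mulVec_single fun a => ?_)
    rw [hd, scal_coe, hconst a a0, Units.val_mk0, Matrix.smul_mulVec, Matrix.one_mulVec]
  have hβ : semiAut hg τ = stdAut m τ := by
    rw [← semiAut_one]
    refine (semiAut_eq_iff hm0 hg (one_mem _) τ τ).2 ⟨rfl, (Units.mk0 (d a0) hd0)⁻¹, ?_⟩
    rw [hgs, ← map_mul, inv_mul_cancel, map_one]
  have hτmem : τ ∈ Subgroup.zpowers σ := by
    refine mem_zpowers_of_fix fun c hc => ?_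
    by_cases hc0 : c = 0
    · rw [hc0, map_zero]
    have h1 : stdAut m τ (TP (Pi.single a0 1) c) = TP (Pi.single a0 1) c := by
      rw [← hβ]; exact hk _ (TP_mem_baseGroup σ (hfix a0) hc)
    rw [stdAut_TP, hτe] at h1
    exact TP_inj (by simp) h1
  obtain ⟨i, rfl⟩ := Subgroup.mem_zpowers_iff.1 hτmem
  show semiAut hg _ ^ p = 1
  rw [hβ, ← map_pow, ← zpow_natCast, ← _root_.zpow_mul, mul_comm, _root_.zpow_mul, zpow_natCast, hσp,
    _root_.one_zpow, map_one]

end Fixed

theorem conj_injective [Finite F] (hm : 2 ≤ m) (hK : IsSimpleGroup PG) :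
    Function.Injective (MulAut.conj : PG →* MulAut PG) := by
  refine (injective_iff_map_eq_one _).2 fun k hk => ?_
  have hc : k ∈ Subgroup.center PG := Subgroup.mem_center_iff.2 fun j => by
    have := DFunLike.congr_fun hk j
    rw [MulAut.conj_apply, MulAut.one_apply, mul_inv_eq_iff_eq_mul] at this
    exact this.symm
  rcases (Subgroup.Normal.eq_bot_or_eq_top (H := Subgroup.center PG) inferInstance) with h | h
  · rwa [h, Subgroup.mem_bot] at hc
  · exfalso
    have hm0 : 0 < m := by omega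
    let u : Fin m ⊕ Fin m → F := Pi.single (.inl ⟨0, hm0⟩) 1
    let w : Fin m ⊕ Fin m → F := Pi.single (.inr ⟨0, hm0⟩) 1
    have hcomm : TP u 1 * TP w 1 = TP w 1 * TP u 1 :=
      (Subgroup.mem_center_iff.1 (h ▸ Subgroup.mem_top (TP w 1)) _)
    have := (TP_comm_iff (by simp [u]) (by simp [w]) one_ne_zero one_ne_zero).1 hcomm
    simp [u, w, Linear.sympForm_single_inl_left] at this

theorem perm_six_normal {p : ℕ} (hp : p = 3 ∨ p = 5) (N : Subgroup (Equiv.Perm (Fin 6))) [N.Normal]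
    (hN : (Nat.card N).Coprime p) : N = ⊥ := by
  haveI : IsSimpleGroup (alternatingGroup (Fin 6)) := alternatingGroup.isSimpleGroup (by simp)
  rcases (Subgroup.Normal.eq_bot_or_eq_top (H := N.subgroupOf (alternatingGroup (Fin 6))) inferInstance)
    with h | h
  · refine (Subgroup.eq_bot_iff_forall _).2 fun n hn => ?_
    have hc : n ∈ Subgroup.center (Equiv.Perm (Fin 6)) := Subgroup.mem_center_iff.2 fun g => by
      have h1 : g * n * g⁻¹ * n⁻¹ ∈ N := mul_mem (Subgroup.Normal.conj_mem inferInstance n hn g) (inv_mem hn)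
      have h2 : g * n * g⁻¹ * n⁻¹ ∈ alternatingGroup (Fin 6) := by
        rw [Equiv.Perm.mem_alternatingGroup]
        simp only [map_mul, map_inv]
        rw [mul_comm (Equiv.Perm.sign g), mul_inv_cancel_right, mul_inv_cancel]
      have h3 : (⟨_, h2⟩ : alternatingGroup (Fin 6)) ∈ N.subgroupOf _ := h1
      rw [h, Subgroup.mem_bot] at h3
      exact mul_inv_eq_iff_eq_mul.1 (mul_inv_eq_one.1 (congrArg Subtype.val h3))
    by_contra h1
    obtain ⟨i, hi⟩ : ∃ i, n i ≠ i := by
      by_contra! h2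
      exact h1 (Equiv.ext h2)
    obtain ⟨k, hki, hkj⟩ : ∃ k : Fin 6, k ≠ i ∧ k ≠ n i := by
      by_contra! h2
      have h3 : (Finset.univ : Finset (Fin 6)) ⊆ {i, n i} := fun k _ => by
        by_cases h4 : k = i
        · simp [h4]
        · simp [h2 k h4]
      have h5 := (Finset.card_le_card h3).trans Finset.card_le_two
      simp at h5
    have h2 := congrArg (fun e : Equiv.Perm (Fin 6) => e i) (Subgroup.mem_center_iff.1 hc (Equiv.swap (n i) k))
    simp [Equiv.Perm.mul_apply, Equiv.swap_apply_of_ne_of_ne hi.symm hki.symm] at h2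
    exact hkj h2
  · exfalso
    have hle := Subgroup.card_dvd_of_le (Subgroup.subgroupOf_eq_top.1 h)
    rw [nat_card_alternatingGroup, Nat.card_fin] at hle
    have hd : p ∣ Nat.card N := dvd_trans (by rcases hp with rfl | rfl <;> decide) hle
    have h3 := Nat.Coprime.coprime_dvd_left hd hN
    rw [Nat.coprime_self] at h3
    omega

theorem crit_std [Fintype F] {r : ℕ} [Fact r.Prime] [CharP F r] (hm : 2 ≤ m) (hK : IsSimpleGroup PG)
    {p : ℕ} [Fact p.Prime] (hpr : p ≠ r) (σ : F ≃+* F) (hσ : orderOf σ = p) :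
    Crit p (stdAut m σ) := by
  classical
  have hσp : σ ^ p = 1 := hσ ▸ pow_orderOf_eq_one σ
  have hm0 : 0 < m := by omega
  have hinj := conj_injective hm hK
  have hrig : ∀ β : MulAut PG, β * stdAut m σ = stdAut m σ * β →
      (∀ k ∈ baseGroup σ m, β k = k) → β ^ p = 1 := fun β _ hk => rigid_base (r := r) σ hm hσp hk
  have hchar : CharP (fixF σ) r := Subfield.charP _ r
  by_cases hsm : m = 2 → 3 ≤ Fintype.card (fixF σ)
  · haveI : IsSimpleGroup (Cfsg.PSp m (fixF σ)) := S0270.result m hm hsm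
    haveI : IsSimpleGroup (baseGroup σ m) := (baseEquiv σ).symm.isSimpleGroup
    refine crit_of_simple hinj (baseGroup σ m) (baseGroup_le σ) (fun g hg s hs => baseGroup_normalized σ hg hs)
      (fun hd => ?_) hrig
    rcases (Fact.out : p.Prime).eq_two_or_odd' with h2 | hodd
    · subst h2
      have hJ : pr m F ⟨Matrix.J (Fin m) F, SymplecticGroup.J_mem (Fin m) F⟩ ∈ baseGroup σ m :=
        pr_mem_baseGroup σ (Subtype.ext (by rw [galSp_coe]; exact FieldAut.J_map σ.toRingHom))
      have hne : pr m F ⟨Matrix.J (Fin m) F, SymplecticGroup.J_mem (Fin m) F⟩ ≠ 1 := by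
        rw [← map_one (pr m F), Ne, pr_eq_iff]
        rintro (e | e) <;>
        · have := congrFun (congrFun e (.inl ⟨0, hm0⟩)) (.inl ⟨0, hm0⟩)
          simp [Matrix.J] at this
      have hsq : pr m F ⟨Matrix.J (Fin m) F, SymplecticGroup.J_mem (Fin m) F⟩ ^ 2 = 1 := by
        rw [← map_pow, ← map_one (pr m F), pr_eq_iff]
        right
        simp [pow_two, Matrix.J_squared]
      rw [← orderOf_eq_prime hsq hne]
      exact Subgroup.orderOf_dvd_natCard _ hJ
    · rwa [show fixK (stdAut m σ) = baseGroup σ m from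
        le_antisymm (fix_le_of_odd σ hσp hodd hm0) (baseGroup_le σ)] at hd
  · push Not at hsm
    obtain ⟨rfl, hlt⟩ := hsm
    have h2 : Fintype.card (fixF σ) = 2 := by
      have : 1 < Fintype.card (fixF σ) := Fintype.one_lt_card
      omega
    obtain rfl : r = 2 := by
      have := Nat.cast_card_eq_zero (fixF σ)
      rw [h2, CharP.cast_eq_zero_iff (fixF σ) r] at this
      exact ((Nat.prime_dvd_prime_iff_eq (Fact.out : r.Prime) Nat.prime_two).1 this)
    have hodd := (Fact.out : p.Prime).odd_of_ne_two hpr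
    have hfix : fixK (stdAut 2 σ) = baseGroup σ 2 :=
      le_antisymm (fix_le_of_odd σ hσp hodd hm0) (baseGroup_le σ)
    haveI : CharP (fixF σ) 2 := hchar
    obtain ⟨e6⟩ := S0247.result (F := fixF σ) h2
    let e : baseGroup σ 2 ≃* Equiv.Perm (Fin 6) :=
      (baseEquiv σ).symm.trans ((MulEquiv.ofBijective (pr 2 (fixF σ))
        ⟨pr_injective, pr_surjective⟩).symm.trans e6)
    refine ⟨?_, hinj, fun hd N hN hn hc => ?_, fun _ β hβ hk => hrig β hβ fun k hk' => hk k (hfix ▸ hk')⟩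
    · rw [hfix]
      intro h
      have h1 := Nat.card_congr e.toEquiv
      rw [h, Subgroup.card_bot, Nat.card_perm, Nat.card_fin] at h1
      simp [Nat.factorial] at h1
    · rw [hfix] at hd hN hn
      have hp35 : p = 3 ∨ p = 5 := by
        rw [Nat.card_congr e.toEquiv, Nat.card_perm, Nat.card_fin] at hd
        have hle : p ≤ 6 := (Nat.Prime.dvd_factorial (Fact.out : p.Prime)).1 hd
        have h0 := (Fact.out : p.Prime)
        interval_cases p <;> first | omega | (exfalso; revert h0; decide)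
      haveI : (N.subgroupOf (baseGroup σ 2)).Normal := ⟨fun n hn' g => hn g.1 g.2 _ hn'⟩
      haveI : ((N.subgroupOf (baseGroup σ 2)).map e.toMonoidHom).Normal :=
        Subgroup.Normal.map inferInstance _ e.surjective
      have h1 := perm_six_normal hp35 ((N.subgroupOf (baseGroup σ 2)).map e.toMonoidHom) ?_
      · rw [Subgroup.map_eq_bot_iff_of_injective _ e.injective, Subgroup.subgroupOf_eq_bot] at h1
        exact disjoint_self.1 (h1.mono_right hN)
      · rwa [← Nat.card_congr ((N.subgroupOf _).equivMapOfInjective _ e.injective).toEquiv,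
          Nat.card_congr (Subgroup.subgroupOfEquivOfLe hN).toEquiv]

theorem psp_local_balance [Fintype F] {r : ℕ} [Fact r.Prime] [CharP F r] (hm : 2 ≤ m)
    (hK : IsSimpleGroup PG) (A : Subgroup (MulAut PG)) (hinn : ∀ k : PG, MulAut.conj k ∈ A)
    {p : ℕ} [Fact p.Prime] (hpr : p ≠ r) (x : MulAut PG) (hord : orderOf x = p)
    (hnot : ¬ Cfsg.IsInnerDiagonalAutPSp x) :
    Cfsg.pPrimeCore p ↥(A ⊓ Subgroup.centralizer {x}) ≠ ⊥ ↔
      (Cfsg.IsFieldAutClassPSp x ∧ Nat.Coprime p (Nat.card (fixK x))) := by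
  obtain ⟨α, σ, hσ, hα⟩ := exists_conj_std (r := r) hm (Fact.out) hpr hord hnot
  have hcrit : Crit p x := Crit.of_conj (α := α) (hα ▸ crit_std (r := r) hm hK hpr σ hσ)
  rw [core_ne_bot_iff hcrit A hinn]
  refine ⟨fun h => ⟨⟨α, σ, ?_, ?_⟩, h⟩, And.right⟩
  · intro h
    rw [h] at hσ
    exact (Fact.out : p.Prime).ne_one (hσ ▸ orderOf_one)
  · rw [hα]
    exact (isInd_std σ _).2 ((isInd_iff spMat_injective (keep_gal σ)).2 rfl)

end Cfsg.Agent.LocalBalance
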