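import Cfsg.Agent.Lib.Triality.Group

/-!
# Identities of the split octonions in hyperbolic coordinates

* `polar_eq_oB`, `Q_omul`, `conj_omul` : the norm is multiplicative, conjugation reverses products
* `cancel_left`, `cancel_right`, `moufang_mid`, `sharp_sharp`
* `tri_LRB` : `(u x, x u, ū x ū)` multiply `tri` by the square of the norm of `u`
* `lmulSim`, `rmulSim`, `biSim` : these maps as similarities
-/

set_option autoImplicit false
set_option linter.unusedSectionVars false

namespace Cfsg.Agent.LocalBalance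

open Cfsg Matrix Cfsg.Agent.Orth Cfsg.Agent.Triality
open Cfsg.Agent.OrthOuter (Sim sap toSim)
open QuadraticMap (polar)

variable {F : Type*} [Field F] [Fintype F]

theorem Q4_apply (x : IJ → F) : Q4 F x = x (.inl 0) * x (.inr 0) + x (.inl 1) * x (.inr 1)
    + x (.inl 2) * x (.inr 2) + x (.inl 3) * x (.inr 3) := by
  show quadFormPlus 4 F x = _
  simp [quadFormPlus, Fin.sum_univ_four]

theorem ext8 {u v : IJ → F} (h0 : u (.inl 0) = v (.inl 0)) (h1 : u (.inl 1) = v (.inl 1))
    (h2 : u (.inl 2) = v (.inl 2)) (h3 : u (.inl 3) = v (.inl 3)) (h4 : u (.inr 0) = v (.inr 0))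
    (h5 : u (.inr 1) = v (.inr 1)) (h6 : u (.inr 2) = v (.inr 2)) (h7 : u (.inr 3) = v (.inr 3)) :
    u = v := by
  funext i
  rcases i with i | i <;> fin_cases i <;> assumption

theorem polar_eq_oB (x y : IJ → F) : polar ⇑(Q4 F) x y = oB x (oConj y) := by
  simp only [polar, Q4_apply]
  simp [oB, oConj]
  ring

theorem Q_oConj (x : IJ → F) : Q4 F (oConj x) = Q4 F x := by
  simp [Q4_apply, oConj]; ring

theorem Q_omul (x y : IJ → F) : Q4 F (omul x y) = Q4 F x * Q4 F y := by
  simp [Q4_apply, omul]; ring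

theorem Q_oOne : Q4 F (oOne : IJ → F) = 1 := by simp [Q4_apply, oOne]

theorem oConj_oOne : oConj (oOne : IJ → F) = oOne := by
  apply ext8 <;> simp [oConj, oOne]

theorem conj_omul (x y : IJ → F) : oConj (omul x y) = omul (oConj y) (oConj x) := by
  apply ext8 <;> (simp [oConj, omul]; ring)

theorem cancel_left (x y : IJ → F) : omul (oConj x) (omul x y) = Q4 F x • y := by
  apply ext8 <;> (simp [oConj, omul, Q4_apply]; ring)

theorem cancel_left' (x y : IJ → F) : omul x (omul (oConj x) y) = Q4 F x • y := by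
  have h := cancel_left (oConj x) y
  rwa [oConj_oConj, Q_oConj] at h

theorem cancel_right (x y : IJ → F) : omul (omul y x) (oConj x) = Q4 F x • y := by
  apply ext8 <;> (simp [oConj, omul, Q4_apply]; ring)

theorem cancel_right' (x y : IJ → F) : omul (omul y (oConj x)) x = Q4 F x • y := by
  have h := cancel_right (oConj x) y
  rwa [oConj_oConj, Q_oConj] at h

theorem omul_conj_self (x : IJ → F) : omul x (oConj x) = Q4 F x • oOne := by
  have h := cancel_left' x oOne
  rwa [omul_one] at h

theorem conj_self_omul (x : IJ → F) : omul (oConj x) x = Q4 F x • oOne := by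
  have h := cancel_left x oOne
  rwa [omul_one] at h

theorem smul_omul (c : F) (x y : IJ → F) : omul (c • x) y = c • omul x y := by
  apply ext8 <;> (simp [omul]; ring)

theorem omul_smul (c : F) (x y : IJ → F) : omul x (c • y) = c • omul x y := by
  apply ext8 <;> (simp [omul]; ring)

theorem omul_add (x y z : IJ → F) : omul x (y + z) = omul x y + omul x z := by
  apply ext8 <;> (simp [omul]; ring)

theorem add_omul (x y z : IJ → F) : omul (x + y) z = omul x z + omul y z := by
  apply ext8 <;> (simp [omul]; ring)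

theorem oConj_smul (c : F) (x : IJ → F) : oConj (c • x) = c • oConj x := by
  apply ext8 <;> simp [oConj]

theorem oConj_add (x y : IJ → F) : oConj (x + y) = oConj x + oConj y := by
  apply ext8 <;> (simp [oConj]; try ring)

theorem oB_comm (x y : IJ → F) : oB x y = oB y x := by simp [oB]; ring

theorem oB_assoc (x y z : IJ → F) : oB (omul x y) z = oB x (omul y z) := by
  rw [← tri_eq_oB, oB_comm x, ← tri_eq_oB, tri_cyclic x y z]

theorem oB_smul_left (c : F) (x y : IJ → F) : oB (c • x) y = c * oB x y := by simp [oB]; ring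

theorem oB_smul_right (c : F) (x y : IJ → F) : oB x (c • y) = c * oB x y := by simp [oB]; ring

theorem oB_add_left (x y z : IJ → F) : oB (x + y) z = oB x z + oB y z := by simp [oB]; ring

theorem tri_eq_polar (x y z : IJ → F) : tri x y z = polar ⇑(Q4 F) (oConj (omul x y)) z := by
  simp [tri_eq_oB, polar_eq_oB, oB, oConj, omul]; ring

theorem eq_of_polar {u v : IJ → F} (h : ∀ z, polar ⇑(Q4 F) u z = polar ⇑(Q4 F) v z) : u = v :=
  eq_of_oB fun z => by
    have := h (oConj z)
    rwa [polar_eq_oB, polar_eq_oB, oConj_oConj] at this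

theorem moufang_mid (u x y : IJ → F) : omul (omul u x) (omul y u) = omul (omul u (omul x y)) u := by
  apply ext8 <;> (simp [omul]; ring)

theorem flex (u x : IJ → F) : omul (omul u x) u = omul u (omul x u) := by
  apply ext8 <;> (simp [omul]; ring)

/-- The twisted square of the twisted square. -/
theorem sharp_sharp (x y z : IJ → F) :
    oConj (omul (oConj (omul z x)) (oConj (omul x y))) =
      tri x y z • x - Q4 F x • oConj (omul y z) := by
  apply ext8 <;> (simp [omul, oConj, tri, Q4_apply]; ring)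

theorem tri_LRB (u x y z : IJ → F) :
    tri (omul u x) (omul y u) (omul (omul (oConj u) z) (oConj u)) = Q4 F u * Q4 F u * tri x y z := by
  rw [tri_eq_oB, moufang_mid, tri_eq_oB]
  generalize omul x y = w
  rw [flex (oConj u) z, oB_assoc (omul u w) u, cancel_left' u, oB_smul_right, oB_comm,
    oB_assoc z (oConj u), cancel_left, oB_smul_right, oB_comm z w]
  ring

/-! ### multiplications as similarities -/

/-- A similarity from an injective map with a multiplier. -/
noncomputable def mkSim (f : (IJ → F) →ₗ[F] (IJ → F)) (hf : Function.Injective f) (c : F) (hc : c ≠ 0)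
    (hQ : ∀ x, Q4 F (f x) = c * Q4 F x) : Sim (Q4 F) :=
  ⟨Matrix.GeneralLinearGroup.toLin.symm
      (LinearMap.GeneralLinearGroup.ofLinearEquiv (LinearEquiv.ofInjectiveEndo f hf)),
    Units.mk0 c hc, fun v => by
      show Q4 F (LinearMap.toMatrix' f *ᵥ v) = c * Q4 F v
      rw [LinearMap.toMatrix'_mulVec]; exact hQ v⟩

theorem sap_mkSim (f : (IJ → F) →ₗ[F] (IJ → F)) (hf : Function.Injective f) (c : F) (hc : c ≠ 0)
    (hQ : ∀ x, Q4 F (f x) = c * Q4 F x) (x : IJ → F) : sap (mkSim f hf c hc hQ) x = f x :=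
  LinearMap.toMatrix'_mulVec f x

/-- Left multiplication. -/
def lmul (u : IJ → F) : (IJ → F) →ₗ[F] (IJ → F) where
  toFun x := omul u x
  map_add' x y := omul_add u x y
  map_smul' c x := omul_smul c u x

/-- Right multiplication. -/
def rmul (u : IJ → F) : (IJ → F) →ₗ[F] (IJ → F) where
  toFun x := omul x u
  map_add' x y := add_omul x y u
  map_smul' c x := smul_omul c x u

theorem lmul_injective {u : IJ → F} (hu : Q4 F u ≠ 0) : Function.Injective (lmul u) :=
  fun x y h => by
    have h1 := congrArg (omul (oConj u)) (show omul u x = omul u y from h)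
    rw [cancel_left, cancel_left] at h1
    exact smul_right_injective (IJ → F) hu h1

theorem rmul_injective {u : IJ → F} (hu : Q4 F u ≠ 0) : Function.Injective (rmul u) :=
  fun x y h => by
    have h1 := congrArg (omul · (oConj u)) (show omul x u = omul y u from h)
    simp only [cancel_right] at h1
    exact smul_right_injective (IJ → F) hu h1

/-- `x ↦ u x`. -/
noncomputable def lmulSim (u : IJ → F) (hu : Q4 F u ≠ 0) : Sim (Q4 F) :=
  mkSim (lmul u) (lmul_injective hu) _ hu fun x => Q_omul u x

theorem sap_lmulSim {u : IJ → F} (hu : Q4 F u ≠ 0) (x : IJ → F) : sap (lmulSim u hu) x = omul u x :=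
  sap_mkSim _ _ _ _ _ x

/-- `x ↦ x u`. -/
noncomputable def rmulSim (u : IJ → F) (hu : Q4 F u ≠ 0) : Sim (Q4 F) :=
  mkSim (rmul u) (rmul_injective hu) _ hu fun x => by
    rw [mul_comm]; exact Q_omul x u

theorem sap_rmulSim {u : IJ → F} (hu : Q4 F u ≠ 0) (x : IJ → F) : sap (rmulSim u hu) x = omul x u :=
  sap_mkSim _ _ _ _ _ x

/-- `x ↦ ū x ū`. -/
noncomputable def biSim (u : IJ → F) (hu : Q4 F u ≠ 0) : Sim (Q4 F) :=
  rmulSim (oConj u) (by rwa [Q_oConj]) * lmulSim (oConj u) (by rwa [Q_oConj])

theorem sap_biSim {u : IJ → F} (hu : Q4 F u ≠ 0) (x : IJ → F) :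
    sap (biSim u hu) x = omul (omul (oConj u) x) (oConj u) := by
  rw [biSim, OrthOuter.sap_mul, sap_rmulSim, sap_lmulSim]

theorem triSim_LRB {u : IJ → F} (hu : Q4 F u ≠ 0) :
    TriSim (lmulSim u hu) (rmulSim u hu) (biSim u hu) :=
  ⟨_, mul_ne_zero hu hu, fun x y z => by
    rw [sap_lmulSim, sap_rmulSim, sap_biSim, tri_LRB]⟩

/-! ### triples of similarities -/

theorem exists_Q4_ne : ∃ v, Q4 F v ≠ 0 := ⟨oOne, by rw [Q_oOne]; exact one_ne_zero⟩

/-- The multiplier. -/
noncomputable abbrev mu (a : Sim (Q4 F)) : F := (OrthOuter.mult exists_Q4_ne a : Fˣ)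

theorem mu_ne (a : Sim (Q4 F)) : mu a ≠ 0 := Units.ne_zero _

/-- Triples send twisted products to twisted products. -/
theorem conj_prod {a b c : Sim (Q4 F)} {lam : F}
    (h : ∀ x y z, tri (sap a x) (sap b y) (sap c z) = lam * tri x y z) (x y : IJ → F) :
    oConj (omul (sap a x) (sap b y)) = (lam / mu c) • sap c (oConj (omul x y)) := by
  refine eq_of_polar fun z => ?_
  obtain ⟨z, rfl⟩ : ∃ w, sap c w = z := ⟨sap c⁻¹ z, OrthOuter.sap_sap_inv c z⟩
  rw [← tri_eq_polar, h, pl_smul_left, OrthOuter.polar_sap exists_Q4_ne, ← tri_eq_polar]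
  rw [← mul_assoc, div_mul_cancel₀ _ (mu_ne c)]

theorem mu_mul_eq {a b c : Sim (Q4 F)} {lam : F}
    (h : ∀ x y z, tri (sap a x) (sap b y) (sap c z) = lam * tri x y z) :
    mu a * mu b * mu c = lam * lam := by
  have h1 := congrArg (Q4 F) (conj_prod h oOne oOne)
  rw [Q_oConj, Q_omul, OrthOuter.Q_sap exists_Q4_ne a, OrthOuter.Q_sap exists_Q4_ne b, Q_smul,
    OrthOuter.Q_sap exists_Q4_ne c, Q_oConj, Q_omul, Q_oOne] at h1
  have := mu_ne c
  field_simp at h1 ⊢
  linear_combination h1

end Cfsg.Agent.LocalBalance
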