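import Cfsg.Agent.EqLemmas
import Mathlib

/-!
# Zeros of forms over finite fields and descent along a field automorphism

* `exists_zero_form` : a form of degree less than the number of variables, with values in a subfield,
  has a nonzero zero over the subfield
* `span_fixed` : the fixed vectors of a semilinear map of order three span
* `exists_fixed_basis` : hence there is a fixed basis
-/

set_option autoImplicit false
set_option linter.unusedSectionVars false

namespace Cfsg.Agent.LocalBalance

open MvPolynomial in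
theorem exists_zero_form {k F : Type*} [Field k] [Fintype k] [Field F] [Algebra k F] {n d : ℕ}
    (hd : 0 < d) (hdn : d < n) {S : Type*} [Fintype S] (t : S → F) (e : S → Fin d → Fin n)
    (hval : ∀ c : Fin n → k, ∃ a : k,
      algebraMap k F a = ∑ s, algebraMap k F (∏ i, c (e s i)) * t s) :
    ∃ c : Fin n → k, c ≠ 0 ∧ ∑ s, algebraMap k F (∏ i, c (e s i)) * t s = 0 := by
  classical
  obtain ⟨π, hπ⟩ := (Algebra.linearMap k F).exists_leftInverse_of_injective
    (LinearMap.ker_eq_bot.2 (algebraMap k F).injective)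
  have hπ' : ∀ a : k, π (algebraMap k F a) = a := fun a => LinearMap.congr_fun hπ a
  let P : MvPolynomial (Fin n) k := ∑ s, C (π (t s)) * ∏ i, X (e s i)
  have heval : ∀ c : Fin n → k, ∀ a : k, algebraMap k F a = ∑ s, algebraMap k F (∏ i, c (e s i)) * t s →
      eval c P = a := by
    intro c a ha
    rw [← hπ' a, ha, map_sum π]
    simp only [P, map_sum, map_mul, eval_C, map_prod, eval_X, ← Algebra.smul_def]
    refine Finset.sum_congr rfl fun s _ => ?_
    rw [← map_prod, ← Algebra.smul_def, π.map_smul, smul_eq_mul, mul_comm]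
  have hdeg : P.totalDegree < Fintype.card (Fin n) := by
    rw [Fintype.card_fin]
    refine lt_of_le_of_lt (totalDegree_finsetSum_le (d := d) fun s _ => ?_) hdn
    refine (totalDegree_mul _ _).trans ?_
    rw [totalDegree_C, zero_add]
    refine (totalDegree_finset_prod _ _).trans (le_of_eq ?_)
    simp
  obtain ⟨p, hp, hdvd⟩ : ∃ p, p.Prime ∧ p ∣ Fintype.card {c : Fin n → k // eval c P = 0} :=
    ⟨ringChar k, CharP.char_is_prime k _, char_dvd_card_solutions (ringChar k) hdeg⟩
  have h0 : eval (0 : Fin n → k) P = 0 := by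
    refine heval 0 0 ?_
    rw [map_zero]
    refine (Finset.sum_eq_zero fun s _ => ?_).symm
    rw [Finset.prod_eq_zero (Finset.mem_univ ⟨0, hd⟩) rfl, map_zero, zero_mul]
  have hpos : 0 < Fintype.card {c : Fin n → k // eval c P = 0} := Fintype.card_pos_iff.2 ⟨⟨0, h0⟩⟩
  have h1 : 1 < Fintype.card {c : Fin n → k // eval c P = 0} :=
    lt_of_lt_of_le hp.one_lt (Nat.le_of_dvd hpos hdvd)
  obtain ⟨⟨c, hc⟩, hne⟩ := Fintype.exists_ne_of_one_lt_card h1 ⟨0, h0⟩
  refine ⟨c, fun h => hne (Subtype.ext h), ?_⟩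
  obtain ⟨a, ha⟩ := hval c
  rw [← ha, ← heval c a ha, hc, map_zero]

variable {F : Type*} [Field F] {V : Type*} [AddCommGroup V] [Module F V]

theorem span_fixed [FiniteDimensional F V] {σ : F ≃+* F} (hσ : σ ≠ 1) (h3 : ∀ a, σ (σ (σ a)) = a)
    (S : V →+ V) (hS : ∀ (a : F) v, S (a • v) = σ a • S v) (hS3 : ∀ v, S (S (S v)) = v) :
    Submodule.span F {v | S v = v} = ⊤ := by
  by_contra hne
  obtain ⟨f, hf0, hker⟩ := Submodule.exists_le_ker_of_lt_top _ (lt_top_iff_ne_top.2 hne)
  refine hf0 (LinearMap.ext fun v => ?_)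
  have hl : ∀ a : F, a * f v + σ a * f (S v) + σ (σ a) * f (S (S v)) = 0 := by
    intro a
    have hfix : S (a • v + σ a • S v + σ (σ a) • S (S v)) = a • v + σ a • S v + σ (σ a) • S (S v) := by
      rw [map_add, map_add, hS, hS, hS, h3, hS3]
      abel
    have := hker (Submodule.subset_span hfix)
    simpa [LinearMap.mem_ker] using this
  obtain ⟨θ, hθ⟩ : ∃ θ, σ θ ≠ θ := by
    by_contra hall
    push_neg at hall
    exact hσ (RingEquiv.ext hall)
  have hθ2 : σ (σ θ) ≠ θ := fun h => hθ (by
    have h' := congrArg σ h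
    rw [h3] at h'
    exact h'.symm)
  have hθ3 : σ (σ θ) ≠ σ θ := fun h => hθ (σ.injective h)
  have h2 : ∀ a : F, (σ θ - θ) * σ a * f (S v) + (σ (σ θ) - θ) * σ (σ a) * f (S (S v)) = 0 := by
    intro a
    have e := hl (θ * a)
    rw [map_mul, map_mul] at e
    linear_combination e - θ * hl a
  have hC : f (S (S v)) = 0 := by
    have e := h2 θ
    have e1 := h2 1
    simp only [map_one, mul_one] at e1
    have : (σ (σ θ) - σ θ) * ((σ (σ θ) - θ) * f (S (S v))) = 0 := by
      linear_combination e - σ θ * e1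
    rcases mul_eq_zero.1 this with h | h
    · exact absurd (sub_eq_zero.1 h) hθ3
    · exact (mul_eq_zero.1 h).resolve_left (sub_ne_zero.2 hθ2)
  have hB : f (S v) = 0 := by
    have e1 := h2 1
    simp only [map_one, mul_one, hC, mul_zero, add_zero] at e1
    exact (mul_eq_zero.1 e1).resolve_left (sub_ne_zero.2 hθ)
  simpa [hB, hC] using hl 1

theorem exists_fixed_basis {n : ℕ} [FiniteDimensional F V] (hn : Module.finrank F V = n)
    {σ : F ≃+* F} (hσ : σ ≠ 1) (h3 : ∀ a, σ (σ (σ a)) = a)
    (S : V →+ V) (hS : ∀ (a : F) v, S (a • v) = σ a • S v) (hS3 : ∀ v, S (S (S v)) = v) :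
    ∃ b : Module.Basis (Fin n) F V, ∀ i, S (b i) = b i := by
  let b := Module.Basis.ofSpan (span_fixed hσ h3 S hS hS3).ge
  haveI : Fintype _ := FiniteDimensional.fintypeBasisIndex b
  have hcard : Fintype.card _ = n := (Module.finrank_eq_card_basis b).symm.trans hn
  refine ⟨b.reindex (Fintype.equivFinOfCardEq hcard), fun i => ?_⟩
  rw [Module.Basis.reindex_apply]
  exact Module.Basis.ofSpan_subset (span_fixed hσ h3 S hS hS3).ge ⟨_, rfl⟩

end Cfsg.Agent.LocalBalance
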