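import Cfsg.Agent.Lib.LocalBalance.TriElem
import Cfsg.Agent.Lib.LocalBalance.TriZero
import Cfsg.Agent.Lib.G2Zorn.Order

/-!
# Automorphisms of the split octonions: idempotents, stabiliser, descent

* `exists_au_idem` : transitivity on nontrivial idempotents
* `dAu B` : the automorphism of `B ∈ SL₃`; `exists_dAu` : these are the stabiliser of an idempotent
* `exists_idem_fixed`, `exists_descent` : a semilinear automorphism of order three is a conjugate of the field one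
-/

set_option autoImplicit false
set_option linter.unusedSectionVars false

namespace Cfsg.Agent.LocalBalance

open Cfsg Matrix Cfsg.Agent.Orth Cfsg.Agent.Triality
open QuadraticMap (polar)

variable {F : Type*} [Field F] [Fintype F]

/-! ### general -/

theorem oConj_eq (x : IJ → F) : oConj x = (x (.inl 0) + x (.inr 0)) • oOne - x := by
  apply ext8 <;> simp [oConj, oOne]

theorem mem_Au_of_mul {p : IsoGrp (Q4 F)} (h1 : ap p oOne = oOne)
    (hm : ∀ x y, ap p (omul x y) = omul (ap p x) (ap p y)) : p ∈ Au F := by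
  have hc : ∀ x, ap p (oConj x) = oConj (ap p x) := by
    intro x
    have ht : ∀ z : IJ → F, polar ⇑(Q4 F) z oOne = z (.inl 0) + z (.inr 0) := fun z => by
      rw [polar_eq_oB, oConj_oOne]; simp [oB, oOne]
    have h2 := polar_ap p x oOne
    rw [h1, ht, ht] at h2
    rw [oConj_eq, oConj_eq (ap p x), map_sub, map_smul, h1, h2]
  refine ⟨fun x y z => ?_, h1⟩
  rw [tri_eq_polar, tri_eq_polar, ← hm, ← hc, polar_ap]

/-! ### idempotents -/

/-- Zorn coordinates. -/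
def zeta : (IJ → F) ≃ₗ[F] (Fin 8 → F) where
  toFun x := G2Zorn.Zv (x (.inl 0)) ![x (.inl 1), x (.inl 2), x (.inl 3)]
    ![-x (.inr 1), -x (.inr 2), -x (.inr 3)] (x (.inr 0))
  invFun v := mk8 (v 0) (v 1) (v 2) (v 3) (v 7) (-v 4) (-v 5) (-v 6)
  map_add' x y := by funext i; fin_cases i <;> (simp [G2Zorn.Zv]; try ring)
  map_smul' k x := by funext i; fin_cases i <;> simp [G2Zorn.Zv]
  left_inv x := by apply ext8 <;> simp [G2Zorn.Zv]
  right_inv v := by funext i; fin_cases i <;> simp [G2Zorn.Zv]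

theorem zeta_eq (x : IJ → F) : zeta x = G2Zorn.Zv (x (.inl 0)) ![x (.inl 1), x (.inl 2), x (.inl 3)]
    ![-x (.inr 1), -x (.inr 2), -x (.inr 3)] (x (.inr 0)) := rfl

theorem zeta_oOne : zeta (oOne : IJ → F) = G2Zorn.oneZ := by
  rw [zeta_eq, G2Zorn.oneZ]
  refine G2Zorn.Zv_eq_iff.2 ⟨rfl, ?_, ?_, rfl⟩ <;> funext i <;> fin_cases i <;> simp [oOne]

theorem zeta_e0 : zeta (bv (.inl 0) : IJ → F) = G2Zorn.e₀ := by
  rw [zeta_eq, G2Zorn.e₀]
  refine G2Zorn.Zv_eq_iff.2 ⟨by simp, ?_, ?_, by simp⟩ <;> funext i <;> fin_cases i <;> simp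

theorem zeta_omul (x y : IJ → F) : zeta (omul x y) = Cfsg.Lie.zornMul (zeta x) (zeta y) := by
  show _ = Cfsg.Lie.zornMul (G2Zorn.Zv _ _ _ _) (G2Zorn.Zv _ _ _ _)
  rw [G2Zorn.zornMul_Zv]
  show G2Zorn.Zv _ _ _ _ = _
  funext i
  fin_cases i <;> simp [G2Zorn.Zv, omul, Cfsg.Lie.dot3, Cfsg.Lie.cross3] <;> ring

theorem omul_self (x : IJ → F) : omul x x = (x (.inl 0) + x (.inr 0)) • x - Q4 F x • oOne := by
  apply ext8 <;> (simp [omul, oOne, Q4_apply]; ring)

theorem Q_of_mul {f : (IJ → F) →ₗ[F] (IJ → F)} (hm : ∀ x y, f (omul x y) = omul (f x) (f y))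
    (h1 : f oOne = oOne) (hinj : Function.Injective f) (x : IJ → F) : Q4 F (f x) = Q4 F x := by
  have e := omul_self (f x)
  rw [← hm, omul_self x, map_sub, map_smul, map_smul, h1] at e
  by_cases hs : ∃ k : F, x = k • oOne
  · obtain ⟨k, rfl⟩ := hs
    rw [map_smul, h1]
  by_cases hab : x (.inl 0) + x (.inr 0) = f x (.inl 0) + f x (.inr 0)
  · rw [hab, sub_right_inj] at e
    have h2 := congrFun e (.inl 0)
    simp [oOne] at h2
    exact h2.symm
  · exfalso
    refine hs ⟨((x (.inl 0) + x (.inr 0)) - (f x (.inl 0) + f x (.inr 0)))⁻¹ *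
      (Q4 F x - Q4 F (f x)), hinj ?_⟩
    rw [map_smul, h1, mul_smul, eq_inv_smul_iff₀ (sub_ne_zero.2 hab)]
    generalize x (.inl 0) + x (.inr 0) = a at e ⊢
    generalize f x (.inl 0) + f x (.inr 0) = b at e ⊢
    generalize f x = w at e ⊢
    generalize Q4 F x = r at e ⊢
    generalize Q4 F w = r' at e ⊢
    funext i
    have h3 := congrFun e i
    simp only [Pi.sub_apply, Pi.smul_apply, smul_eq_mul] at h3 ⊢
    linear_combination h3

theorem exists_au_idem {c : IJ → F} (hQ : Q4 F c = 0) (ht : c (.inl 0) + c (.inr 0) = 1) :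
    ∃ p ∈ Au F, ap p (bv (.inl 0)) = c := by
  have hid : zeta c ∈ G2Zorn.Idem F := by
    show zeta c 0 + zeta c 7 = 1 ∧ zeta c 0 * zeta c 7 = _
    refine ⟨by rw [zeta_eq, G2Zorn.Zv_zero, G2Zorn.Zv_seven]; exact ht, ?_⟩
    rw [Q4_apply] at hQ
    rw [zeta_eq, G2Zorn.zA_Zv, G2Zorn.zB_Zv, G2Zorn.Zv_zero, G2Zorn.Zv_seven]
    simp [Cfsg.Lie.dot3]
    linear_combination hQ
  obtain ⟨g, hg⟩ := G2Zorn.exists_act_eq hid
  let f : (IJ → F) →ₗ[F] (IJ → F) :=
    zeta.symm.toLinearMap ∘ₗ Matrix.mulVecLin ((g : GL (Fin 8) F) : Matrix (Fin 8) (Fin 8) F) ∘ₗ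
      zeta.toLinearMap
  have hf : ∀ x, zeta (f x) = G2Zorn.act (g : GL (Fin 8) F) (zeta x) := fun x =>
    LinearEquiv.apply_symm_apply _ _
  have hm : ∀ x y, f (omul x y) = omul (f x) (f y) := fun x y => zeta.injective <| by
    rw [hf, zeta_omul, zeta_omul, hf, hf]
    exact G2Zorn.mem_G2_iff.1 g.2 _ _
  have h1 : f oOne = oOne := zeta.injective <| by rw [hf, zeta_oOne, G2Zorn.act_one]
  have hinj : Function.Injective f := fun x y h => zeta.injective <|
    G2Zorn.act_injective (g : GL (Fin 8) F) <| by rw [← hf, ← hf, h]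
  have hQf : ∀ x, Q4 F (f x) = Q4 F x := Q_of_mul hm h1 hinj
  refine ⟨mkIso f hQf, mem_Au_of_mul (by rw [ap_mkIso]; exact h1) (fun x y => by
    simp only [ap_mkIso]; exact hm x y), ?_⟩
  rw [ap_mkIso]
  refine zeta.injective ?_
  rw [hf, zeta_e0, hg]

/-! ### the stabiliser of an idempotent -/

/-- `a ⊕ b` with `a` acted on by `B` and `b` by its cofactors. -/
def dLin (B : Matrix (Fin 3) (Fin 3) F) : (IJ → F) →ₗ[F] (IJ → F) where
  toFun x := mk8 (x (.inl 0))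
    (B 0 0 * x (.inl 1) + B 0 1 * x (.inl 2) + B 0 2 * x (.inl 3))
    (B 1 0 * x (.inl 1) + B 1 1 * x (.inl 2) + B 1 2 * x (.inl 3))
    (B 2 0 * x (.inl 1) + B 2 1 * x (.inl 2) + B 2 2 * x (.inl 3))
    (x (.inr 0))
    ((B 1 1 * B 2 2 - B 1 2 * B 2 1) * x (.inr 1) + (B 1 2 * B 2 0 - B 1 0 * B 2 2) * x (.inr 2)
      + (B 1 0 * B 2 1 - B 1 1 * B 2 0) * x (.inr 3))
    ((B 0 2 * B 2 1 - B 0 1 * B 2 2) * x (.inr 1) + (B 0 0 * B 2 2 - B 0 2 * B 2 0) * x (.inr 2)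
      + (B 0 1 * B 2 0 - B 0 0 * B 2 1) * x (.inr 3))
    ((B 0 1 * B 1 2 - B 0 2 * B 1 1) * x (.inr 1) + (B 0 2 * B 1 0 - B 0 0 * B 1 2) * x (.inr 2)
      + (B 0 0 * B 1 1 - B 0 1 * B 1 0) * x (.inr 3))
  map_add' x y := by apply ext8 <;> (simp; try ring)
  map_smul' k x := by apply ext8 <;> (simp; try ring)

/-- The `3 × 3` determinant. -/
def det3 (a b c : Fin 3 → F) : F :=
  a 0 * (b 1 * c 2 - b 2 * c 1) - a 1 * (b 0 * c 2 - b 2 * c 0) + a 2 * (b 0 * c 1 - b 1 * c 0)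

/-- The first three-vector. -/
def vL (x : IJ → F) : Fin 3 → F := ![x (.inl 1), x (.inl 2), x (.inl 3)]
/-- The second three-vector. -/
def vR (x : IJ → F) : Fin 3 → F := ![x (.inr 1), x (.inr 2), x (.inr 3)]

theorem tri_split (x y z : IJ → F) : tri x y z =
    x (.inl 0) * y (.inl 0) * z (.inl 0) + x (.inr 0) * y (.inr 0) * z (.inr 0)
    + det3 (vL x) (vL y) (vL z) + det3 (vR x) (vR y) (vR z)
    - x (.inl 0) * Lie.dot3 (vL y) (vR z) - y (.inl 0) * Lie.dot3 (vL z) (vR x)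
    - z (.inl 0) * Lie.dot3 (vL x) (vR y) - x (.inr 0) * Lie.dot3 (vR y) (vL z)
    - y (.inr 0) * Lie.dot3 (vR z) (vL x) - z (.inr 0) * Lie.dot3 (vR x) (vL y) := by
  simp [tri, det3, vL, vR, Lie.dot3]; ring

theorem dLin_dot (B : Matrix (Fin 3) (Fin 3) F) (x y : IJ → F) :
    Lie.dot3 (vL (dLin B x)) (vR (dLin B y)) = B.det * Lie.dot3 (vL x) (vR y) := by
  simp [dLin, vL, vR, Lie.dot3, Matrix.det_fin_three]; ring

theorem dLin_detL (B : Matrix (Fin 3) (Fin 3) F) (x y z : IJ → F) :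
    det3 (vL (dLin B x)) (vL (dLin B y)) (vL (dLin B z)) = B.det * det3 (vL x) (vL y) (vL z) := by
  simp [dLin, vL, det3, Matrix.det_fin_three]; ring

theorem dLin_detR (B : Matrix (Fin 3) (Fin 3) F) (x y z : IJ → F) :
    det3 (vR (dLin B x)) (vR (dLin B y)) (vR (dLin B z)) =
      B.det * B.det * det3 (vR x) (vR y) (vR z) := by
  simp [dLin, vR, det3, Matrix.det_fin_three]; ring

theorem dot3_comm (u v : Fin 3 → F) : Lie.dot3 u v = Lie.dot3 v u := by simp [Lie.dot3]; ring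

theorem Q_split (x : IJ → F) : Q4 F x = x (.inl 0) * x (.inr 0) + Lie.dot3 (vL x) (vR x) := by
  simp [Q4_apply, Lie.dot3, vL, vR]; ring

/-- The automorphism of an element of `SL₃`. -/
noncomputable def dAu (B : Matrix (Fin 3) (Fin 3) F) (hB : B.det = 1) : IsoGrp (Q4 F) :=
  mkIso (dLin B) fun x => by rw [Q_split, dLin_dot, hB, one_mul, Q_split x]; rfl

theorem ap_dAu (B : Matrix (Fin 3) (Fin 3) F) (hB : B.det = 1) (x : IJ → F) :
    ap (dAu B hB) x = dLin B x := ap_mkIso _ _ x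

theorem dAu_mem (B : Matrix (Fin 3) (Fin 3) F) (hB : B.det = 1) : dAu B hB ∈ Au F :=
  ⟨fun x y z => by
    simp only [ap_dAu]
    rw [tri_split, tri_split x]
    simp only [dot3_comm (vR _) (vL _), dLin_dot, dLin_detL, dLin_detR, hB, one_mul]
    rfl, by apply ext8 <;> simp [ap_dAu, dLin, oOne]⟩

theorem mul_e0_eq {x : IJ → F} :
    (omul (bv (.inl 0)) x = x ∧ omul x (bv (.inl 0)) = 0) ↔
      x (.inl 0) = 0 ∧ x (.inr 0) = 0 ∧ x (.inr 1) = 0 ∧ x (.inr 2) = 0 ∧ x (.inr 3) = 0 := by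
  constructor
  · rintro ⟨h, h'⟩
    have a := congrFun h' (.inl 0)
    have b := congrFun h (.inr 0)
    have c := congrFun h (.inr 1)
    have d := congrFun h (.inr 2)
    have e := congrFun h (.inr 3)
    simp [omul, Pi.single_apply] at a b c d e
    exact ⟨a, b.symm, c.symm, d.symm, e.symm⟩
  · rintro ⟨a, b, c, d, e⟩
    constructor <;> apply ext8 <;> simp [omul, Pi.single_apply, a, b, c, d, e]

theorem exists_dAu {p : IsoGrp (Q4 F)} (hp : p ∈ Au F) (h : ap p (bv (.inl 0)) = bv (.inl 0)) :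
    ∃ (B : Matrix (Fin 3) (Fin 3) F) (hB : B.det = 1), p = dAu B hB := by
  let col : Fin 3 → IJ → F := fun j => ap p (![bv (.inl 1), bv (.inl 2), bv (.inl 3)] j)
  have hU : ∀ j, col j (.inl 0) = 0 ∧ col j (.inr 0) = 0 ∧ col j (.inr 1) = 0 ∧ col j (.inr 2) = 0 ∧
      col j (.inr 3) = 0 := by
    intro j
    refine mul_e0_eq.1 ?_
    have hb : omul (bv (.inl 0)) (![bv (.inl 1), bv (.inl 2), bv (.inl 3)] j) =
        ![bv (.inl 1), bv (.inl 2), bv (.inl 3)] j ∧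
        omul (![bv (.inl 1), bv (.inl 2), bv (.inl 3)] j) (bv (.inl 0)) = (0 : IJ → F) :=
      mul_e0_eq.2 (by fin_cases j <;> simp [Pi.single_apply])
    constructor
    · rw [← h, ← au_omul hp, hb.1]
    · rw [← h, ← au_omul hp, hb.2, map_zero]
  let B : Matrix (Fin 3) (Fin 3) F := Matrix.of fun i j => vL (col j) i
  have hB : B.det = 1 := by
    have e := hp.1 (bv (.inl 1)) (bv (.inl 2)) (bv (.inl 3))
    change tri (col 0) (col 1) (col 2) = _ at e
    rw [tri_split] at e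
    obtain ⟨a0, b0, c0, d0, f0⟩ := hU 0
    obtain ⟨a1, b1, c1, d1, f1⟩ := hU 1
    obtain ⟨a2, b2, c2, d2, f2⟩ := hU 2
    simp [det3, vR, Lie.dot3, a0, b0, c0, d0, f0, a1, b1, c1, d1, f1, a2, b2, c2, d2, f2, tri,
      Pi.single_apply] at e
    rw [Matrix.det_fin_three]
    simp [B, vL] at e ⊢
    linear_combination e
  refine ⟨B, hB, ?_⟩
  set q := dAu B hB
  have hl : ∀ j, col j = ap q (![bv (.inl 1), bv (.inl 2), bv (.inl 3)] j) := fun j => by
    obtain ⟨a, b, c, d, e⟩ := hU j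
    rw [ap_dAu]
    fin_cases j <;> apply ext8 <;> simp [dLin, B, vL, Pi.single_apply] <;> assumption
  have h1 : ap p (bv (.inl 1)) = ap q (bv (.inl 1)) := hl 0
  have h2 : ap p (bv (.inl 2)) = ap q (bv (.inl 2)) := hl 1
  have h3 : ap p (bv (.inl 3)) = ap q (bv (.inl 3)) := hl 2
  have h0 : ap p (bv (.inl 0)) = ap q (bv (.inl 0)) := by
    rw [h, ap_dAu]; apply ext8 <;> simp [dLin, Pi.single_apply]
  have hq := dAu_mem B hB
  have hr : ∀ {i j : IJ} {v : IJ → F}, omul (bv i) (bv j) = v → ap p (bv i) = ap q (bv i) →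
      ap p (bv j) = ap q (bv j) → ap p v = ap q v := fun e ei ej => by
    rw [← e, au_omul hp, au_omul hq, ei, ej]
  have k1 := hr (v := -bv (.inr 1)) (by apply ext8 <;> simp [omul, Pi.single_apply]) h2 h3
  have k2 := hr (v := bv (.inr 2)) (by apply ext8 <;> simp [omul, Pi.single_apply]) h1 h3
  have k3 := hr (v := -bv (.inr 3)) (by apply ext8 <;> simp [omul, Pi.single_apply]) h1 h2
  have k0 : ap p (bv (.inr 0)) = ap q (bv (.inr 0)) := by
    have e : (bv (.inr 0) : IJ → F) = oOne - bv (.inl 0) := by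
      apply ext8 <;> simp [oOne, Pi.single_apply]
    rw [e, map_sub, map_sub, hp.2, hq.2, h0]
  simp only [map_neg, neg_inj] at k1 k3
  refine ext_ap fun x => ?_
  have hx : x = x (.inl 0) • bv (.inl 0) + x (.inl 1) • bv (.inl 1) + x (.inl 2) • bv (.inl 2)
      + x (.inl 3) • bv (.inl 3) + x (.inr 0) • bv (.inr 0) + x (.inr 1) • bv (.inr 1)
      + x (.inr 2) • bv (.inr 2) + x (.inr 3) • bv (.inr 3) := by
    apply ext8 <;> simp [Pi.single_apply]
  rw [hx]
  simp only [map_add, map_smul, h0, h1, h2, h3, k0, k1, k2, k3]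

theorem dAu_ext {B C : Matrix (Fin 3) (Fin 3) F} (hB : B.det = 1) (hC : C.det = 1) (h : B = C) :
    dAu B hB = dAu C hC := by subst h; rfl

theorem dLin_mul (B C : Matrix (Fin 3) (Fin 3) F) (x : IJ → F) :
    dLin (B * C) x = dLin B (dLin C x) := by
  apply ext8 <;> (simp [dLin, Matrix.mul_apply, Fin.sum_univ_three]; try ring)

theorem dAu_mul {B C : Matrix (Fin 3) (Fin 3) F} (hB : B.det = 1) (hC : C.det = 1) :
    dAu B hB * dAu C hC = dAu (B * C) (by rw [Matrix.det_mul, hB, hC, mul_one]) := ext_ap fun x => by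
  rw [ap_mul, ap_dAu, ap_dAu, ap_dAu, dLin_mul]

theorem dAu_inj {B C : Matrix (Fin 3) (Fin 3) F} {hB : B.det = 1} {hC : C.det = 1}
    (h : dAu B hB = dAu C hC) : B = C := by
  ext i j
  have e : dLin B (![bv (.inl 1), bv (.inl 2), bv (.inl 3)] j) =
      dLin C (![bv (.inl 1), bv (.inl 2), bv (.inl 3)] j) := by rw [← ap_dAu B hB, ← ap_dAu C hC, h]
  have := congrArg (fun v => vL v i) e
  fin_cases i <;> fin_cases j <;> simpa [dLin, vL, Pi.single_apply] using this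

theorem dAu_one : dAu (1 : Matrix (Fin 3) (Fin 3) F) Matrix.det_one = 1 := ext_ap fun x => by
  rw [ap_dAu, ap_one]
  apply ext8 <;> simp [dLin]

/-! ### descent -/

/-- The semilinear map `x ↦ g(σ x)`. -/
noncomputable def Sg (g : IsoGrp (Q4 F)) (σ : F ≃+* F) (x : IJ → F) : IJ → F := ap g (σ ∘ x)

theorem gal_omul (σ : F ≃+* F) (x y : IJ → F) : σ ∘ omul x y = omul (σ ∘ x) (σ ∘ y) := by
  apply ext8 <;> simp [omul]

theorem gal_oOne (σ : F ≃+* F) : σ ∘ (oOne : IJ → F) = oOne := by apply ext8 <;> simp [oOne]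

theorem gal_oConj (σ : F ≃+* F) (x : IJ → F) : σ ∘ oConj x = oConj (σ ∘ x) := by
  apply ext8 <;> simp [oConj]

theorem gal_smul (σ : F ≃+* F) (a : F) (x : IJ → F) : σ ∘ (a • x) = σ a • (σ ∘ x) := by
  funext i; simp

theorem gal_add (σ : F ≃+* F) (x y : IJ → F) : σ ∘ (x + y) = σ ∘ x + σ ∘ y := by
  funext i; simp

theorem gal_Q (σ : F ≃+* F) (x : IJ → F) : Q4 F (σ ∘ x) = σ (Q4 F x) := by simp [Q4_apply]

theorem gal_polar (σ : F ≃+* F) (x y : IJ → F) :
    polar ⇑(Q4 F) (σ ∘ x) (σ ∘ y) = σ (polar ⇑(Q4 F) x y) := by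
  simp only [polar, ← gal_add, gal_Q, map_sub]

theorem Sg_smul (g : IsoGrp (Q4 F)) (σ : F ≃+* F) (a : F) (x : IJ → F) :
    Sg g σ (a • x) = σ a • Sg g σ x := by rw [Sg, gal_smul, map_smul]; rfl

theorem Sg_add (g : IsoGrp (Q4 F)) (σ : F ≃+* F) (x y : IJ → F) :
    Sg g σ (x + y) = Sg g σ x + Sg g σ y := by rw [Sg, gal_add, map_add]; rfl

theorem Sg_omul {g : IsoGrp (Q4 F)} (hg : g ∈ Au F) (σ : F ≃+* F) (x y : IJ → F) :
    Sg g σ (omul x y) = omul (Sg g σ x) (Sg g σ y) := by rw [Sg, gal_omul, au_omul hg]; rfl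

theorem Sg_conj {g : IsoGrp (Q4 F)} (hg : g ∈ Au F) (σ : F ≃+* F) (x : IJ → F) :
    Sg g σ (oConj x) = oConj (Sg g σ x) := by rw [Sg, gal_oConj, au_conj hg]; rfl

theorem Sg_polar (g : IsoGrp (Q4 F)) (σ : F ≃+* F) (x y : IJ → F) :
    polar ⇑(Q4 F) (Sg g σ x) (Sg g σ y) = σ (polar ⇑(Q4 F) x y) := by
  rw [Sg, Sg, polar_ap, gal_polar]

theorem Sg_Q (g : IsoGrp (Q4 F)) (σ : F ≃+* F) (x : IJ → F) : Q4 F (Sg g σ x) = σ (Q4 F x) := by
  rw [Sg, Q_ap, gal_Q]

/-- `Sg` as an additive map. -/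
noncomputable def SgHom (g : IsoGrp (Q4 F)) (σ : F ≃+* F) : (IJ → F) →+ (IJ → F) :=
  AddMonoidHom.mk' (Sg g σ) (Sg_add g σ)

/-- Half of the polar form. -/
def beta8 (x y : IJ → F) : F := ∑ i : Fin 4, x (.inl i) * y (.inr i)

theorem beta8_self (x : IJ → F) : beta8 x x = Q4 F x := by
  simp [beta8, Q4_apply, Fin.sum_univ_four]

theorem beta8_sum {n : ℕ} (c : Fin n → F) (b : Fin n → IJ → F) :
    beta8 (∑ i, c i • b i) (∑ i, c i • b i) = ∑ s : Fin n × Fin n, c s.1 * c s.2 * beta8 (b s.1) (b s.2) := by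
  simp only [beta8, Fintype.sum_prod_type, Finset.sum_apply, Pi.smul_apply, smul_eq_mul,
    Fin.sum_univ_four, Finset.sum_mul_sum, ← Finset.sum_add_distrib]
  exact Finset.sum_congr rfl fun i _ => Finset.sum_congr rfl fun j _ => by ring

theorem exists_idem_fixed {σ : F ≃+* F} (hσ : σ ≠ 1) (h3 : ∀ a, σ (σ (σ a)) = a) {g : IsoGrp (Q4 F)}
    (hg : g ∈ Au F) (hg3 : ∀ x, Sg g σ (Sg g σ (Sg g σ x)) = x) :
    ∃ c, Q4 F c = 0 ∧ c (.inl 0) + c (.inr 0) = 1 ∧ Sg g σ c = c := by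
  classical
  obtain ⟨b, hb⟩ := exists_fixed_basis (n := 8) (by simp) hσ h3 (SgHom g σ) (Sg_smul g σ) hg3
  let k := σ.toRingHom.eqLocusField (RingHom.id F)
  letI : Fintype k := Fintype.ofFinite k
  have hfix : ∀ c : Fin 8 → k, Sg g σ (∑ i, (c i : F) • b i) = ∑ i, (c i : F) • b i := fun c => by
    show SgHom g σ _ = _
    rw [map_sum]
    refine Finset.sum_congr rfl fun i _ => ?_
    show Sg g σ _ = _
    rw [Sg_smul, show Sg g σ (b i) = b i from hb i, show σ (c i : F) = c i from (c i).2]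
  obtain ⟨c, hc0, hc⟩ := exists_zero_form (k := k) (n := 8) (d := 2) (by norm_num) (by norm_num)
    (fun s : Fin 8 × Fin 8 => beta8 (b s.1) (b s.2)) (fun s => ![s.1, s.2]) (fun c => by
      refine ⟨⟨Q4 F (∑ i, (c i : F) • b i), ?_⟩, ?_⟩
      · show σ _ = _
        rw [RingHom.id_apply, ← Sg_Q g, hfix c]
      · show Q4 F _ = _
        rw [← beta8_self, beta8_sum]
        exact Finset.sum_congr rfl fun s _ => by simp [Fin.prod_univ_two]; exact .inl rfl)
  set x := ∑ i, (c i : F) • b i with hx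
  have hQx : Q4 F x = 0 := by
    rw [← beta8_self, beta8_sum]
    refine Eq.trans (Finset.sum_congr rfl fun s _ => ?_) hc
    simp [Fin.prod_univ_two]; exact .inl rfl
  have hx0 : x ≠ 0 := fun h => hc0 (funext fun i => Subtype.ext
    (Fintype.linearIndependent_iff.1 b.linearIndependent (fun i => (c i : F)) (by rw [← hx, h]) i))
  obtain ⟨i, hi⟩ : ∃ i, polar ⇑(Q4 F) x (b i) ≠ 0 := by
    by_contra hall
    push_neg at hall
    refine hx0 (eq_of_polar fun z => ?_)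
    rw [pl_zero_left, ← b.sum_repr z]
    induction (Finset.univ : Finset (Fin 8)) using Finset.induction_on with
    | empty => rw [Finset.sum_empty, pl_zero_right]
    | insert a t ha ih =>
      rw [Finset.sum_insert ha, pl_add_right, pl_smul_right, hall a, mul_zero, ih, add_zero]
  set y := (polar ⇑(Q4 F) x (b i))⁻¹ • b i with hy
  have hyx : polar ⇑(Q4 F) x y = 1 := by rw [hy, pl_smul_right, inv_mul_cancel₀ hi]
  have hSx : Sg g σ x = x := hfix c
  have hSy : Sg g σ y = y := by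
    rw [hy, Sg_smul, show Sg g σ (b i) = b i from hb i, map_inv₀, ← Sg_polar g, hSx,
      show Sg g σ (b i) = b i from hb i]
  refine ⟨omul x (oConj y), ?_, ?_, ?_⟩
  · rw [Q_omul, hQx, zero_mul]
  · rw [← hyx, polar_eq_oB]; simp [oB, omul]; ring
  · rw [Sg_omul hg, Sg_conj hg, hSx, hSy]

theorem exists_descent {σ : F ≃+* F} (hσ : σ ≠ 1) (h3 : ∀ a, σ (σ (σ a)) = a) {g : IsoGrp (Q4 F)}
    (hg : g ∈ Au F) (hg3 : ∀ x, Sg g σ (Sg g σ (Sg g σ x)) = x) :
    ∃ h ∈ Au F, ∀ x, Sg g σ (ap h x) = ap h (σ ∘ x) := by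
  classical
  obtain ⟨c, hc1, hc2, hc3⟩ := exists_idem_fixed hσ h3 hg hg3
  obtain ⟨p, hp, hpc⟩ := exists_au_idem hc1 hc2
  -- the transported semilinear automorphism fixes the idempotent
  set S' : (IJ → F) → (IJ → F) := fun x => ap p⁻¹ (Sg g σ (ap p x)) with hS'
  have hS'0 : ∀ x, S' x = ap (p⁻¹ * g) (σ ∘ ap p x) := fun x => by rw [ap_mul]; rfl
  let q : IsoGrp (Q4 F) := mkIso
    { toFun := fun x => S' (σ.symm ∘ x)
      map_add' := fun x y => by
        simp only [hS']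
        rw [show σ.symm ∘ (x + y) = σ.symm ∘ x + σ.symm ∘ y from gal_add σ.symm x y, map_add, Sg_add,
          map_add]
      map_smul' := fun a x => by
        simp only [hS', RingHom.id_apply]
        rw [show σ.symm ∘ (a • x) = σ.symm a • (σ.symm ∘ x) from gal_smul σ.symm a x, map_smul, Sg_smul,
          map_smul, RingEquiv.apply_symm_apply] }
    (fun x => by
      show Q4 F (S' _) = _
      simp only [hS', Q_ap, Sg_Q, gal_Q, RingEquiv.apply_symm_apply])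
  have hq : ∀ x, ap q (σ ∘ x) = S' x := fun x => by
    rw [ap_mkIso]
    show S' (σ.symm ∘ (σ ∘ x)) = _
    congr 1; funext i; simp
  have hqA : q ∈ Au F := by
    refine mem_Au_of_mul ?_ fun x y => ?_
    · rw [← gal_oOne σ, hq]
      simp only [hS', hp.2, Sg, gal_oOne, hg.2, (inv_mem hp).2]
    · obtain ⟨x, rfl⟩ : ∃ a : IJ → F, σ ∘ a = x := ⟨σ.symm ∘ x, funext fun i => by simp⟩
      obtain ⟨y, rfl⟩ : ∃ a : IJ → F, σ ∘ a = y := ⟨σ.symm ∘ y, funext fun i => by simp⟩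
      rw [← gal_omul, hq, hq, hq]
      simp only [hS', au_omul hp, Sg_omul hg, au_omul (inv_mem hp)]
  obtain ⟨A, hA, hqd⟩ := exists_dAu hqA (by
    have : σ ∘ (bv (.inl 0) : IJ → F) = bv (.inl 0) := by
      apply ext8 <;> simp [Pi.single_apply]
    rw [← this, hq]
    simp only [hS']
    rw [hpc, hc3, ← hpc, ap_inv_ap, this])
  have hd : ∀ (B : Matrix (Fin 3) (Fin 3) F) (x : IJ → F),
      σ ∘ dLin B x = dLin (B.map σ) (σ ∘ x) := fun B x => by apply ext8 <;> simp [dLin]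
  have hS3 : ∀ x, S' (S' (S' x)) = x := fun x => by
    simp only [hS', ap_ap_inv, hg3, ap_inv_ap]
  have hSd : ∀ x, S' x = dLin A (σ ∘ x) := fun x => by rw [← hq, hqd, ap_dAu]
  -- descent of the three-dimensional part
  let S3 : (Fin 3 → F) →+ (Fin 3 → F) :=
    AddMonoidHom.mk' (fun v => A *ᵥ (σ ∘ v)) fun v w => by
      rw [show σ ∘ (v + w) = σ ∘ v + σ ∘ w from funext fun i => map_add σ _ _, Matrix.mulVec_add]
  have hS33 : ∀ v, S3 (S3 (S3 v)) = v := fun v => by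
    have hA3 : A * A.map σ * (A.map σ).map σ = 1 := by
      have hdet : ∀ (B : Matrix (Fin 3) (Fin 3) F), (B.map σ).det = σ B.det := fun B =>
        (RingHom.map_det σ.toRingHom B).symm
      have d1 : (A.map σ).det = 1 := by rw [hdet, hA, map_one]
      have d2 : ((A.map σ).map σ).det = 1 := by rw [hdet, d1, map_one]
      refine dAu_inj (hB := by rw [Matrix.det_mul, Matrix.det_mul, hA, d1, d2, one_mul, one_mul])
        (hC := Matrix.det_one) ?_
      rw [dAu_one]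
      refine ext_ap fun x => ?_
      obtain ⟨y, rfl⟩ : ∃ y : IJ → F, σ ∘ σ ∘ σ ∘ y = x :=
        ⟨x, funext fun i => h3 (x i)⟩
      rw [ap_dAu, ap_one, dLin_mul, dLin_mul, ← hd, ← hd, ← hd, ← hSd y, ← hSd, ← hSd, hS3]
      funext i; exact (h3 (y i)).symm
    show A *ᵥ (σ ∘ (A *ᵥ (σ ∘ (A *ᵥ (σ ∘ v))))) = v
    have hm : ∀ (B : Matrix (Fin 3) (Fin 3) F) (w : Fin 3 → F), σ ∘ (B *ᵥ w) = (B.map σ) *ᵥ (σ ∘ w) :=
      fun B w => funext fun i => RingHom.map_mulVec σ.toRingHom B w i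
    rw [hm, hm, hm, Matrix.mulVec_mulVec, Matrix.mulVec_mulVec, hA3, Matrix.one_mulVec]
    funext i; exact h3 (v i)
  obtain ⟨b, hb⟩ := exists_fixed_basis (n := 3) (by simp) hσ h3 S3 (fun a v => by
    show A *ᵥ (σ ∘ (a • v)) = σ a • (A *ᵥ (σ ∘ v))
    rw [show σ ∘ (a • v) = σ a • (σ ∘ v) from funext fun i => map_mul σ _ _, Matrix.mulVec_smul]) hS33
  let B : Matrix (Fin 3) (Fin 3) F := Matrix.of fun i j => b j i
  have hBA : A * B.map σ = B := by
    ext i j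
    exact congrFun (hb j) i
  have hB0 : B.det ≠ 0 := by
    intro h0
    obtain ⟨v, hv, hv0⟩ := Matrix.exists_mulVec_eq_zero_iff.2 h0
    refine hv (funext (Fintype.linearIndependent_iff.1 b.linearIndependent v ?_))
    rw [← hv0]
    funext i
    simp [B, Matrix.mulVec, dotProduct, mul_comm]
  have hσd : σ B.det = B.det := by
    conv_rhs => rw [← hBA, Matrix.det_mul, hA, one_mul]
    exact RingHom.map_det σ.toRingHom B
  let D : Matrix (Fin 3) (Fin 3) F := Matrix.diagonal ![B.det⁻¹, 1, 1]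
  have hC : (B * D).det = 1 := by
    rw [Matrix.det_mul, Matrix.det_diagonal, Fin.prod_univ_three]
    simp [hB0]
  have hDσ : D.map σ = D := by
    rw [Matrix.diagonal_map (map_zero σ)]
    congr 1; funext i; fin_cases i <;> simp [hσd]
  refine ⟨p * dAu (B * D) hC, mul_mem hp (dAu_mem _ _), fun x => ?_⟩
  rw [ap_mul, ap_mul, ap_dAu, ap_dAu, ← ap_ap_inv p (Sg g σ (ap p (dLin (B * D) x)))]
  congr 1
  show S' _ = _
  rw [hSd, hd, ← dLin_mul, Matrix.map_mul, hDσ, ← Matrix.mul_assoc, hBA]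

end Cfsg.Agent.LocalBalance
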