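import Cfsg.Agent.Lib.LocalBalance.TriTrivial

/-!
# `O_{3'}` of the fixed points in the triality coset

* `IsModel g σ` : `g = 1` and `σ³ = 1`, or `g = gA` and `σ = 1`
* `Pulled`, `pull` : elements of a normal subgroup seen through a triple of similarities
* `core_eq_bot` : `O_{3'}(GF g σ) = 1`
-/

set_option autoImplicit false
set_option linter.unusedSectionVars false

namespace Cfsg.Agent.LocalBalance

open Cfsg Matrix Cfsg.Agent.Orth Cfsg.Agent.AutPOmega Cfsg.Agent.Triality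
open Cfsg.Agent.OrthOuter (Sim sap toSim conjAut isoConj)

variable {F : Type*} [Field F] [Fintype F]

local notation "Tr" => IsoGrp (Q4 F) × IsoGrp (Q4 F) × IsoGrp (Q4 F)

/-- The two models. -/
def IsModel (g : IsoGrp (Q4 F)) (σ : F ≃+* F) : Prop :=
  (g = 1 ∧ ∀ t, σ (σ (σ t)) = t) ∨ (g = gA F ∧ σ = 1)

theorem IsModel.au {g : IsoGrp (Q4 F)} {σ : F ≃+* F} (h : IsModel g σ) : g ∈ Au F := by
  rcases h with ⟨rfl, -⟩ | ⟨rfl, -⟩
  · exact one_mem _
  · exact gA_mem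

theorem IsModel.commute {g : IsoGrp (Q4 F)} {σ : F ≃+* F} (h : IsModel g σ) {p : IsoGrp (Q4 F)}
    (hp : ∀ x : IJ → F, ap p (σ ∘ x) = σ ∘ ap p x) (hg : Commute p (gA F)) (x : IJ → F) :
    ap p (Sg g σ x) = Sg g σ (ap p x) := by
  rcases h with ⟨rfl, -⟩ | ⟨rfl, -⟩
  · rw [Sg, Sg, ap_one, ap_one, hp]
  · rw [Sg, Sg, ← ap_mul, hg.eq, ap_mul, hp]

theorem e0T_mem {g : IsoGrp (Q4 F)} {σ : F ≃+* F} (h : IsModel g σ) :
    (e0 F, e0 F, e0 F) ∈ GF g σ :=
  diag_mem_GF e0_mem e0_omega (h.commute (e0_CR σ).2 e0_gA)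

theorem gAT_mem {g : IsoGrp (Q4 F)} {σ : F ≃+* F} (h : IsModel g σ) :
    (gA F, gA F, gA F) ∈ GF g σ :=
  diag_mem_GF gA_mem gA_omega (h.commute (gA_CR σ).2 (Commute.refl _))

/-- Conjugation by a triple. -/
noncomputable def triConj (T1 T2 T3 : Sim (Q4 F)) : IsoGrp (Q4 F) →* Tr :=
  MonoidHom.prod (isoConj (Q4 F) T1).toMonoidHom
    (MonoidHom.prod (isoConj (Q4 F) T2).toMonoidHom (isoConj (Q4 F) T3).toMonoidHom)

/-- Elements seen through a triple. -/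
noncomputable def pull {g : IsoGrp (Q4 F)} {σ : F ≃+* F} (N : Subgroup (GF g σ))
    (T1 T2 T3 : Sim (Q4 F)) : Subgroup (IsoGrp (Q4 F)) :=
  (N.map (GF g σ).subtype).comap (triConj T1 T2 T3)

theorem ap_conjS (T : Sim (Q4 F)) (m : IsoGrp (Q4 F)) (x : IJ → F) :
    ap (isoConj (Q4 F) T m) (sap T x) = sap T (ap m x) := by
  rw [ap_isoConj, OrthOuter.sap_inv_sap]

theorem sap_injective (T : Sim (Q4 F)) : Function.Injective (sap T) := fun x y h => by
  rw [← OrthOuter.sap_inv_sap T x, h, OrthOuter.sap_inv_sap]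

section Pulled

variable {g g' : IsoGrp (Q4 F)} {σ : F ≃+* F} {T1 T2 T3 : Sim (Q4 F)}

theorem pull_facts (hT : TriSim T1 T2 T3) (h12 : ∀ x, Sg g σ (sap T2 x) = sap T1 (Sg g' σ x))
    (N : Subgroup (GF g σ)) {m : IsoGrp (Q4 F)} (hm : m ∈ pull N T1 T2 T3) :
    m ∈ Au F ∧ m ∈ Omega F ⇑(Q4 F) ∧ ∀ x, ap m (Sg g' σ x) = Sg g' σ (ap m x) := by
  obtain ⟨P, -, e⟩ := hm
  have hP := P.2
  rw [show (P : Tr) = triConj T1 T2 T3 m from e] at hP
  obtain ⟨⟨⟨ho, -, -⟩, htri⟩, hrel⟩ := hP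
  obtain ⟨lam, hlam, hl⟩ := id hT
  have e1 : ∀ x, ap (triConj T1 T2 T3 m).1 (sap T1 x) = sap T1 (ap m x) := ap_conjS T1 m
  have e2 : ∀ x, ap (triConj T1 T2 T3 m).2.1 (sap T2 x) = sap T2 (ap m x) := ap_conjS T2 m
  have e3 : ∀ x, ap (triConj T1 T2 T3 m).2.2 (sap T3 x) = sap T3 (ap m x) := ap_conjS T3 m
  refine ⟨au_of_triEq fun x y z => ?_, ?_, fun x => ?_⟩
  · have h := htri (sap T1 x) (sap T2 y) (sap T3 z)
    rw [e1, e2, e3, hl, hl] at h
    exact mul_left_cancel₀ hlam h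
  · have h := isoConj_mem_omega T1⁻¹ ho
    have e' : isoConj (Q4 F) T1⁻¹ (isoConj (Q4 F) T1 m) = m := by
      rw [← MulAut.mul_apply, ← map_mul, inv_mul_cancel, map_one, MulAut.one_apply]
    exact e' ▸ h
  · refine sap_injective T1 ?_
    rw [← e1, ← h12, (hrel _).1, e2, h12]

theorem pull_cop {N : Subgroup (GF g σ)} (hcop : (Nat.card N).Coprime 3) :
    (Nat.card (pull N T1 T2 T3)).Coprime 3 := by
  refine Nat.Coprime.coprime_dvd_left ?_ hcop
  have hinj : Function.Injective (triConj T1 T2 T3) := fun a b h =>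
    (isoConj (Q4 F) T1).injective (congrArg Prod.fst h)
  have h := Subgroup.card_comap_dvd_of_injective (N.map (GF g σ).subtype) (triConj T1 T2 T3) hinj
  rwa [← Nat.card_congr (N.equivMapOfInjective _ (GF g σ).subtype_injective).toEquiv] at h

theorem pull_conj (hT : TriSim T1 T2 T3) (h12 : ∀ x, Sg g σ (sap T2 x) = sap T1 (Sg g' σ x))
    (h23 : ∀ x, Sg g σ (sap T3 x) = sap T2 (Sg g' σ x))
    (h31 : ∀ x, Sg g σ (sap T1 x) = sap T3 (Sg g' σ x))
    {N : Subgroup (GF g σ)} (hN : N.Normal) {e : IsoGrp (Q4 F)} (he : e ∈ Au F)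
    (ho : e ∈ Omega F ⇑(Q4 F)) (hc : ∀ x, ap e (Sg g' σ x) = Sg g' σ (ap e x)) {m : IsoGrp (Q4 F)}
    (hm : m ∈ pull N T1 T2 T3) : e * m * e⁻¹ ∈ pull N T1 T2 T3 := by
  have hE : triConj T1 T2 T3 e ∈ GF g σ := by
    refine ⟨⟨⟨isoConj_mem_omega _ ho, isoConj_mem_omega _ ho, isoConj_mem_omega _ ho⟩, ?_⟩, fun x => ?_⟩
    · obtain ⟨lam, hlam, hl⟩ := id hT
      intro x y z
      obtain ⟨x, rfl⟩ : ∃ v, sap T1 v = x := ⟨_, OrthOuter.sap_sap_inv T1 x⟩
      obtain ⟨y, rfl⟩ : ∃ v, sap T2 v = y := ⟨_, OrthOuter.sap_sap_inv T2 y⟩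
      obtain ⟨z, rfl⟩ : ∃ v, sap T3 v = z := ⟨_, OrthOuter.sap_sap_inv T3 z⟩
      show tri (ap (isoConj (Q4 F) T1 e) _) (ap (isoConj (Q4 F) T2 e) _) (ap (isoConj (Q4 F) T3 e) _) = _
      rw [ap_conjS, ap_conjS, ap_conjS, hl, hl, he.1]
    · have key : ∀ {A B : Sim (Q4 F)}, (∀ x, Sg g σ (sap B x) = sap A (Sg g' σ x)) → ∀ x,
          ap (isoConj (Q4 F) A e) (Sg g σ x) = Sg g σ (ap (isoConj (Q4 F) B e) x) := fun {A B} h x => by
        obtain ⟨x, rfl⟩ : ∃ v, sap B v = x := ⟨_, OrthOuter.sap_sap_inv B x⟩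
        rw [h, ap_conjS, hc, ap_conjS, h]
      exact ⟨key h12 x, key h23 x, key h31 x⟩
  obtain ⟨P, hP, eP⟩ := hm
  refine ⟨⟨_, hE⟩ * P * ⟨_, hE⟩⁻¹, hN.conj_mem P hP _, ?_⟩
  rw [map_mul, map_mul, map_inv, map_mul, map_mul, map_inv, eP]
  rfl

theorem mem_pull {N : Subgroup (GF g σ)} {P : GF g σ} (hP : P ∈ N)
    (h : isoConj (Q4 F) T1⁻¹ P.1.1 = isoConj (Q4 F) T2⁻¹ P.1.2.1 ∧
      isoConj (Q4 F) T1⁻¹ P.1.1 = isoConj (Q4 F) T3⁻¹ P.1.2.2) :
    ∃ m ∈ pull N T1 T2 T3, triConj T1 T2 T3 m = P.1 := by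
  have inv : ∀ (T : Sim (Q4 F)) (p : IsoGrp (Q4 F)), isoConj (Q4 F) T (isoConj (Q4 F) T⁻¹ p) = p :=
    fun T p => by rw [← MulAut.mul_apply, ← map_mul, mul_inv_cancel, map_one, MulAut.one_apply]
  have e : triConj T1 T2 T3 (isoConj (Q4 F) T1⁻¹ P.1.1) = P.1 := by
    refine Prod.ext (inv T1 _) (Prod.ext ?_ ?_)
    · show isoConj (Q4 F) T2 _ = _
      rw [h.1, inv]
    · show isoConj (Q4 F) T3 _ = _
      rw [h.2, inv]
  exact ⟨_, ⟨P, hP, e.symm⟩, e⟩

/-- Transported components fixing the unit are equal. -/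
theorem tc_of_fix (hT : TriSim T1 T2 T3) (P : GF g σ) (h1 : ap P.1.1 (sap T1 oOne) = sap T1 oOne)
    (h2 : ap P.1.2.1 (sap T2 oOne) = sap T2 oOne) (h3 : ap P.1.2.2 (sap T3 oOne) = sap T3 oOne) :
    isoConj (Q4 F) T1⁻¹ P.1.1 = isoConj (Q4 F) T2⁻¹ P.1.2.1 ∧
      isoConj (Q4 F) T1⁻¹ P.1.1 = isoConj (Q4 F) T3⁻¹ P.1.2.2 := by
  obtain ⟨lam, hlam, hl⟩ := id hT
  have e : ∀ (T : Sim (Q4 F)) (p : IsoGrp (Q4 F)) (x : IJ → F),
      sap T (ap (isoConj (Q4 F) T⁻¹ p) x) = ap p (sap T x) := fun T p x => by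
    rw [ap_isoConj, inv_inv, OrthOuter.sap_sap_inv]
  set p := isoConj (Q4 F) T1⁻¹ P.1.1
  set q := isoConj (Q4 F) T2⁻¹ P.1.2.1
  set r := isoConj (Q4 F) T3⁻¹ P.1.2.2
  have htr : TriEq p q r := fun x y z => by
    refine mul_left_cancel₀ hlam ?_
    rw [← hl, ← hl, e, e, e, P.2.1.2]
  have one : ∀ {T : Sim (Q4 F)} {p : IsoGrp (Q4 F)}, ap p (sap T oOne) = sap T oOne →
      ap (isoConj (Q4 F) T⁻¹ p) oOne = oOne := fun {T p} h => sap_injective T (by rw [e, h])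
  have p1 := one h1
  have q1 := one h2
  have r1 := one h3
  have A : ∀ x, oConj (ap p x) = ap r (oConj x) := fun x => by
    have h := conj_prod_iso htr x oOne
    rwa [q1, omul_one, omul_one] at h
  have B : ∀ x, oConj (ap q x) = ap r (oConj x) := fun x => by
    have h := conj_prod_iso htr oOne x
    rwa [p1, one_omul, one_omul] at h
  have C : ∀ x, oConj (ap r x) = ap p (oConj x) := fun x => by
    have h := conj_prod_iso htr.shift oOne x
    rwa [q1, one_omul, one_omul] at h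
  have D : ∀ x, oConj (ap q x) = ap p (oConj x) := fun x => by
    have h := conj_prod_iso htr.shift x oOne
    rwa [r1, omul_one, omul_one] at h
  constructor <;> refine ext_ap fun x => ?_
  · rw [← oConj_oConj (ap p x), A, ← B, oConj_oConj]
  · obtain ⟨y, rfl⟩ : ∃ y, oConj y = x := ⟨oConj x, oConj_oConj x⟩
    rw [← D, B]

end Pulled

/-! ### the switches -/

theorem eU_uH : eU (uH F) Q_uH = e0 F := ext_ap fun x => by rw [ap_eU, ap_e0]

theorem uHc : Q4 F (oConj (uH F)) = 1 ∧ omul (oConj (uH F)) (oConj (uH F)) = oConj (oConj (uH F)) := by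
  rw [Q_oConj, Q_uH, ← conj_omul, uH_sq]; exact ⟨rfl, rfl⟩

theorem eU_uHc : eU (oConj (uH F)) uHc.1 = e0 F * e0 F := ext_ap fun x => by
  rw [ap_eU, ap_mul, ap_e0, ap_e0, oConj_oConj]
  apply ext8 <;> (simp [omul, oConj, uH]; try ring)

/-- The switch by `u` followed by `h`. -/
theorem exists_switch_triple {g g' : IsoGrp (Q4 F)} {σ : F ≃+* F} (hg : g ∈ Au F) {u : IJ → F}
    (hu : Q4 F u = 1) (hsq : omul u u = oConj u) (hgu : ap g u = u) (hσu : σ ∘ u = u)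
    {h : IsoGrp (Q4 F)} (hh : h ∈ Au F)
    (hS : ∀ x, Sg g σ (ap h x) = ap (eU u hu) (ap h (Sg g' σ x))) :
    ∃ T1 T2 T3 : Sim (Q4 F), TriSim T1 T2 T3 ∧
      (∀ x, Sg g σ (sap T2 x) = sap T1 (Sg g' σ x)) ∧ (∀ x, Sg g σ (sap T3 x) = sap T2 (Sg g' σ x)) ∧
      (∀ x, Sg g σ (sap T1 x) = sap T3 (Sg g' σ x)) ∧
      sap T1 oOne = u ∧ sap T2 oOne = u ∧ sap T3 oOne = u ∧
      (∀ x, sap T1 x = omul (ap h x) u) ∧
      (∀ x, sap T2 x = omul (omul (oConj u) (ap h x)) (oConj u)) ∧ (∀ x, sap T3 x = omul u (ap h x)) ∧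
      (∀ p q : IsoGrp (Q4 F), p = eU u hu * q * (eU u hu)⁻¹ →
        isoConj (Q4 F) T1⁻¹ p = isoConj (Q4 F) T2⁻¹ q) ∧
      (∀ q r : IsoGrp (Q4 F), q = eU u hu * r * (eU u hu)⁻¹ →
        isoConj (Q4 F) T2⁻¹ q = isoConj (Q4 F) T3⁻¹ r) := by
  have hu0 : Q4 F u ≠ 0 := hu ▸ one_ne_zero
  obtain ⟨hT, e1, e2, e3⟩ := triSim_switch hu hsq
  set R := rmulSim u hu0
  set B := biSim u hu0
  set L := lmulSim u hu0
  set H := toSim (Q4 F) h
  set e := eU u hu with he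
  have eu : ap e u = u := by
    rw [he, ap_eU, hsq, ← conj_omul, hsq, oConj_oConj]
  have heA := eU_mem hu hsq
  have ceu : ap e (oConj u) = oConj u := by rw [au_conj heA, eu]
  have Sr : ∀ y, Sg g σ (sap R y) = sap R (Sg g σ y) := fun y => by
    rw [sap_rmulSim, sap_rmulSim, Sg_omul hg, show Sg g σ u = u by rw [Sg, hσu, hgu]]
  have Sl : ∀ y, Sg g σ (sap L y) = sap L (Sg g σ y) := fun y => by
    rw [sap_lmulSim, sap_lmulSim, Sg_omul hg, show Sg g σ u = u by rw [Sg, hσu, hgu]]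
  have Sb : ∀ y, Sg g σ (sap B y) = sap B (Sg g σ y) := fun y => by
    rw [sap_biSim, sap_biSim, Sg_omul hg, Sg_omul hg, Sg_conj hg,
      show Sg g σ u = u by rw [Sg, hσu, hgu]]
  have er : ∀ y, ap e (sap R y) = sap R (ap e y) := fun y => by
    rw [sap_rmulSim, sap_rmulSim, au_omul heA, eu]
  have eb : ∀ y, ap e (sap B y) = sap B (ap e y) := fun y => by
    rw [sap_biSim, sap_biSim, au_omul heA, au_omul heA, ceu]
  have el : ∀ y, ap e (sap L y) = sap L (ap e y) := fun y => by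
    rw [sap_lmulSim, sap_lmulSim, au_omul heA, eu]
  have k1 : ∀ w, ap e (sap B w) = sap R w := fun w => by
    rw [← e1 (sap B w), OrthOuter.sap_inv_sap]
  have k2 : ∀ w, ap e (sap L w) = sap B w := fun w => by
    rw [← e2 (sap L w), OrthOuter.sap_inv_sap]
  have k3 : ∀ w, ap e (sap R w) = sap L w := fun w => by
    rw [← e3 (sap R w), OrthOuter.sap_inv_sap]
  refine ⟨R * H, B * H, L * H, triSim_mul hT (au_triSim hh), fun x => ?_, fun x => ?_, fun x => ?_,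
    ?_, ?_, ?_, fun x => ?_, fun x => ?_, fun x => ?_, ?_, ?_⟩
  · simp only [OrthOuter.sap_mul, H, OrthOuter.sap_toSim]
    rw [Sb, hS, ← eb, k1]
  · simp only [OrthOuter.sap_mul, H, OrthOuter.sap_toSim]
    rw [Sl, hS, ← el, k2]
  · simp only [OrthOuter.sap_mul, H, OrthOuter.sap_toSim]
    rw [Sr, hS, ← er, k3]
  · rw [OrthOuter.sap_mul, OrthOuter.sap_toSim, hh.2, sap_rmulSim, one_omul]
  · rw [OrthOuter.sap_mul, OrthOuter.sap_toSim, hh.2, sap_biSim, omul_one, ← conj_omul, hsq, oConj_oConj]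
  · rw [OrthOuter.sap_mul, OrthOuter.sap_toSim, hh.2, sap_lmulSim, omul_one]
  · rw [OrthOuter.sap_mul, OrthOuter.sap_toSim, sap_rmulSim]
  · rw [OrthOuter.sap_mul, OrthOuter.sap_toSim, sap_biSim]
  · rw [OrthOuter.sap_mul, OrthOuter.sap_toSim, sap_lmulSim]
  all_goals
    intro p q hpq
    refine ext_ap fun x => ?_
    rw [ap_isoConj, ap_isoConj, inv_inv, inv_inv, OrthOuter.sap_mul, OrthOuter.sap_mul, hpq, _root_.mul_inv_rev,
      _root_.mul_inv_rev, OrthOuter.sap_mul, OrthOuter.sap_mul]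
    congr 1
  · refine sap_injective R ?_
    rw [OrthOuter.sap_sap_inv, ← k1 (sap B⁻¹ _), OrthOuter.sap_sap_inv, ap_mul, ap_mul]
    congr 2
    rw [← k1, ap_inv_ap]
  · refine sap_injective B ?_
    rw [OrthOuter.sap_sap_inv, ← k2 (sap L⁻¹ _), OrthOuter.sap_sap_inv, ap_mul, ap_mul]
    congr 2
    rw [← k2, ap_inv_ap]

/-! ### the core -/

theorem core_of_pieces {g : IsoGrp (Q4 F)} {σ : F ≃+* F} (hm : IsModel g σ) (W : Subgroup (GF g σ))
    (h1 : ∀ P ∈ Cfsg.pPrimeCore 3 (GF g σ), P.1.2.1 = P.1.1 → P.1.2.2 = P.1.1 → P ∈ W)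
    (h2 : ∀ P ∈ Cfsg.pPrimeCore 3 (GF g σ), Commute P.1.1 (e0 F) → Commute P.1.2.1 (e0 F) →
      Commute P.1.2.2 (e0 F) → P ∈ W)
    (h3 : ∀ P ∈ Cfsg.pPrimeCore 3 (GF g σ), P.1.1 = e0 F * P.1.2.1 * (e0 F)⁻¹ →
      P.1.2.1 = e0 F * P.1.2.2 * (e0 F)⁻¹ → P ∈ W)
    (h4 : ∀ P ∈ Cfsg.pPrimeCore 3 (GF g σ), P.1.1 = e0 F * e0 F * P.1.2.1 * (e0 F * e0 F)⁻¹ →
      P.1.2.1 = e0 F * e0 F * P.1.2.2 * (e0 F * e0 F)⁻¹ → P ∈ W) :
    ∀ P ∈ Cfsg.pPrimeCore 3 (GF g σ), P ∈ W := by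
  set N := Cfsg.pPrimeCore 3 (GF g σ) with hN
  let E : GF g σ := ⟨(e0 F, e0 F, e0 F), e0T_mem hm⟩
  have hE : E ^ 3 = 1 := by
    refine Subtype.ext ?_
    show (e0 F, e0 F, e0 F) ^ 3 = (1 : Tr)
    simp only [Prod.pow_mk, e0_cube]; rfl
  have hα : ∀ P ∈ N, shiftG g σ P ∈ N := fun P hP =>
    (Subgroup.Characteristic.fixed (H := N) inferInstance (shiftG g σ)).ge hP
  have hβ : ∀ P ∈ N, MulAut.conj E P ∈ N := fun P hP =>
    (Subgroup.Characteristic.fixed (H := N) inferInstance (MulAut.conj E)).ge hP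
  have h3' : shiftG g σ ^ 3 = 1 := shiftG_cube g σ
  have hβ3 : MulAut.conj E ^ 3 = 1 := by rw [← map_pow, hE, map_one]
  let res : ∀ φ : MulAut (GF g σ), (∀ P ∈ N, φ P ∈ N) → φ ^ 3 = 1 → MulAut N := fun φ hφ hc =>
    { toFun := fun P => ⟨φ P.1, hφ _ P.2⟩
      invFun := fun P => ⟨φ (φ P.1), hφ _ (hφ _ P.2)⟩
      left_inv := fun P => Subtype.ext (by
        show φ (φ (φ P.1)) = P.1
        rw [← MulAut.mul_apply, ← MulAut.mul_apply, ← sq, ← pow_succ, hc]; rfl)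
      right_inv := fun P => Subtype.ext (by
        show φ (φ (φ P.1)) = P.1
        rw [← MulAut.mul_apply, ← MulAut.mul_apply, ← sq, ← pow_succ, hc]; rfl)
      map_mul' := fun P Q => Subtype.ext (map_mul φ _ _) }
  have hcube : ∀ φ hφ hc, (res φ hφ hc) ^ 3 = 1 := fun φ hφ hc => MulEquiv.ext fun P => Subtype.ext (by
    rw [pow_succ, sq, MulAut.mul_apply, MulAut.mul_apply]
    show φ (φ (φ P.1)) = P.1
    rw [← MulAut.mul_apply, ← MulAut.mul_apply, ← sq, ← pow_succ, hc]; rfl)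
  set α := res _ hα h3'
  set β := res _ hβ hβ3
  have hab : Commute α β := MulEquiv.ext fun P => Subtype.ext rfl
  intro P hP
  refine Subgroup.mem_subgroupOf.1 (mem_of_aut_pair α β hab (hcube _ hα h3') (hcube _ hβ hβ3)
    (Cores.coprime_card_pPrimeCore 3) (W.subgroupOf N) ?_ ?_ ?_ ?_ ⟨P, hP⟩)
  · intro v hv
    have e := congrArg (fun P : N => (P : Tr)) hv
    exact h1 v.1 v.2 (congrArg Prod.fst e) ((congrArg (fun P : Tr => P.2.1) e).trans (congrArg Prod.fst e))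
  · intro v hv
    have e := congrArg (fun P : N => (P : Tr)) hv
    have hc : ∀ {p : IsoGrp (Q4 F)}, e0 F * p * (e0 F)⁻¹ = p → Commute p (e0 F) := fun h =>
      (mul_inv_eq_iff_eq_mul.1 h).symm
    exact h2 v.1 v.2 (hc (congrArg Prod.fst e)) (hc (congrArg (fun P : Tr => P.2.1) e))
      (hc (congrArg (fun P : Tr => P.2.2) e))
  · intro v hv
    have e := congrArg (fun P : N => (P : Tr)) hv
    exact h3 v.1 v.2 (congrArg Prod.fst e).symm (congrArg (fun P : Tr => P.2.1) e).symm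
  · intro v hv
    have e := congrArg (fun P : N => (P : Tr)) hv
    have hd : ∀ {p q : IsoGrp (Q4 F)}, e0 F * (e0 F * p * (e0 F)⁻¹) * (e0 F)⁻¹ = q →
        q = e0 F * e0 F * p * (e0 F * e0 F)⁻¹ := fun h => by rw [← h]; group
    exact h4 v.1 v.2 (hd (congrArg Prod.fst e)) (hd (congrArg (fun P : Tr => P.2.1) e))

/-- The pieces of an element of the core fixing an idempotent triple. -/
theorem diag_piece {g : IsoGrp (Q4 F)} {σ : F ≃+* F} {P : GF g σ} (hq : P.1.2.1 = P.1.1)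
    (hr : P.1.2.2 = P.1.1) :
    isoConj (Q4 F) (1 : Sim (Q4 F))⁻¹ P.1.1 = isoConj (Q4 F) (1 : Sim (Q4 F))⁻¹ P.1.2.1 ∧
      isoConj (Q4 F) (1 : Sim (Q4 F))⁻¹ P.1.1 = isoConj (Q4 F) (1 : Sim (Q4 F))⁻¹ P.1.2.2 := by
  rw [hq, hr]; exact ⟨rfl, rfl⟩

theorem triSim_one : TriSim (1 : Sim (Q4 F)) 1 1 := ⟨1, one_ne_zero, fun x y z => by simp⟩

theorem one_switch {g : IsoGrp (Q4 F)} {σ : F ≃+* F} (x : IJ → F) :
    Sg g σ (sap (1 : Sim (Q4 F)) x) = sap (1 : Sim (Q4 F)) (Sg g σ x) := by simp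

theorem pull_one_eq {g : IsoGrp (Q4 F)} {σ : F ≃+* F} (N : Subgroup (GF g σ)) {P : GF g σ} (hP : P ∈ N)
    (hq : P.1.2.1 = P.1.1) (hr : P.1.2.2 = P.1.1) : P.1.1 ∈ pull N 1 1 1 := by
  obtain ⟨m, hm, e⟩ := mem_pull hP (diag_piece hq hr)
  have : m = P.1.1 := by
    rw [← show (triConj (1 : Sim (Q4 F)) 1 1 m).1 = m by
      show isoConj (Q4 F) 1 m = m
      rw [map_one, MulAut.one_apply], e]
  exact this ▸ hm

/-- With `g = 1` a piece is trivial. -/
theorem piece_one (h3 : (3 : F) ≠ 0) {g : IsoGrp (Q4 F)} {σ : F ≃+* F} {T1 T2 T3 : Sim (Q4 F)}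
    (hT : TriSim T1 T2 T3) (h12 : ∀ x, Sg g σ (sap T2 x) = sap T1 (Sg 1 σ x))
    (h23 : ∀ x, Sg g σ (sap T3 x) = sap T2 (Sg 1 σ x))
    (h31 : ∀ x, Sg g σ (sap T1 x) = sap T3 (Sg 1 σ x))
    {P : GF g σ} (hP : P ∈ Cfsg.pPrimeCore 3 (GF g σ))
    (h : isoConj (Q4 F) T1⁻¹ P.1.1 = isoConj (Q4 F) T2⁻¹ P.1.2.1 ∧
      isoConj (Q4 F) T1⁻¹ P.1.1 = isoConj (Q4 F) T3⁻¹ P.1.2.2) : P = 1 := by
  obtain ⟨m, hm, e⟩ := mem_pull hP h
  have hCR : ∀ {m}, m ∈ pull (Cfsg.pPrimeCore 3 (GF g σ)) T1 T2 T3 → m ∈ CR σ := fun hm => by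
    obtain ⟨a, -, c⟩ := pull_facts hT h12 _ hm
    exact ⟨a, fun x => by simpa [Sg] using c x⟩
  have h1 := trivial_of_core h3 _ (fun m hm => hCR hm) (pull_cop (Cores.coprime_card_pPrimeCore 3))
    (fun e he heo m hm => pull_conj hT h12 h23 h31 inferInstance he.1 heo
      (fun x => by simp [Sg, he.2]) hm) m hm
  rw [h1, map_one] at e
  exact Subtype.ext e.symm

/-- With `g' = gA ^ ±1` a piece fixes `H` after transport. -/
theorem piece_gA (h3 : (3 : F) ≠ 0) {g g' : IsoGrp (Q4 F)} {T1 T2 T3 : Sim (Q4 F)}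
    (hg' : g' = gA F ∨ g' = gA F * gA F) (hT : TriSim T1 T2 T3)
    (h12 : ∀ x, Sg g 1 (sap T2 x) = sap T1 (Sg g' 1 x))
    (h23 : ∀ x, Sg g 1 (sap T3 x) = sap T2 (Sg g' 1 x))
    (h31 : ∀ x, Sg g 1 (sap T1 x) = sap T3 (Sg g' 1 x))
    {P : GF g (1 : F ≃+* F)} (hP : P ∈ Cfsg.pPrimeCore 3 (GF g (1 : F ≃+* F)))
    (h : isoConj (Q4 F) T1⁻¹ P.1.1 = isoConj (Q4 F) T2⁻¹ P.1.2.1 ∧
      isoConj (Q4 F) T1⁻¹ P.1.1 = isoConj (Q4 F) T3⁻¹ P.1.2.2) :
    ∀ y, InH y → ap P.1.1 (sap T1 y) = sap T1 y ∧ ap P.1.2.1 (sap T2 y) = sap T2 y ∧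
      ap P.1.2.2 (sap T3 y) = sap T3 y := by
  obtain ⟨m, hm, e⟩ := mem_pull hP h
  have hS : ∀ (k : IsoGrp (Q4 F)) (x : IJ → F), Sg k 1 x = ap k x := fun k x => rfl
  have hCA : ∀ {m}, m ∈ pull (Cfsg.pPrimeCore 3 (GF g 1)) T1 T2 T3 → m ∈ CA 1 := fun {m} hm => by
    obtain ⟨a, -, c⟩ := pull_facts hT h12 _ hm
    refine mem_CA.2 ⟨⟨a, fun x => rfl⟩, ?_⟩
    have hc : Commute m g' := ext_ap fun x => by rw [ap_mul, ap_mul]; exact c x
    rcases hg' with rfl | rfl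
    · exact hc
    · have e' : gA F = gA F * gA F * (gA F * gA F) := by
        rw [show gA F * gA F * (gA F * gA F) = gA F * gA F * gA F * gA F by simp only [mul_assoc], ← sq,
          ← pow_succ, gA_cube, one_mul]
      rw [e']; exact hc.mul_right hc
  have hfix := fixH_of_core h3 1 _ (fun m hm => hCA hm) (pull_cop (Cores.coprime_card_pPrimeCore 3))
    (fun e he heo m hm => pull_conj hT h12 h23 h31 inferInstance (mem_CA.1 he).1.1 heo
      (fun x => by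
        have hc : Commute e g' := by
          rcases hg' with rfl | rfl
          · exact (mem_CA.1 he).2
          · exact (mem_CA.1 he).2.mul_right (mem_CA.1 he).2
        rw [hS, hS, ← ap_mul, hc.eq, ap_mul]) hm) m hm
  intro y hy
  rw [← e]
  refine ⟨?_, ?_, ?_⟩
  · show ap (isoConj (Q4 F) T1 m) _ = _
    rw [ap_conjS, hfix y hy]
  · show ap (isoConj (Q4 F) T2 m) _ = _
    rw [ap_conjS, hfix y hy]
  · show ap (isoConj (Q4 F) T3 m) _ = _
    rw [ap_conjS, hfix y hy]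

/-- Scalars of a norm-one idempotent. -/
theorem span_idem (h3 : (3 : F) ≠ 0) {a b : F} (hn : Q4 F (a • oOne + b • uH F) = 1)
    (h : oConj (omul (a • oOne + b • uH F) (a • oOne + b • uH F)) = a • oOne + b • uH F) :
    a • oOne + b • uH F = oOne ∨ a • oOne + b • uH F = uH F ∨
      a • oOne + b • uH F = oConj (uH F) := by
  simp [Q4_apply, oOne, uH] at hn
  have k0 := congrFun h (.inl 0)
  have k1 := congrFun h (.inl 1)
  simp [omul, oConj, oOne, uH] at k0 k1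
  have ea : a * (a - 2 * b - 1) = 0 := by grind
  have eb : b * (b - 2 * a - 1) = 0 := by grind
  rcases mul_eq_zero.1 eb with rfl | eb
  · rcases mul_eq_zero.1 ea with rfl | ea
    · exfalso; simp at hn
    · left
      rw [show a = 1 by linear_combination ea, one_smul, zero_smul, add_zero]
  · rcases mul_eq_zero.1 ea with rfl | ea
    · right; left
      rw [show b = 1 by linear_combination eb, one_smul, zero_smul, zero_add]
    · right; right
      have ha : a = -1 := by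
        have : (3 : F) * (a + 1) = 0 := by linear_combination -ea - 2 * eb
        linear_combination (mul_eq_zero.1 this).resolve_left h3
      have hb : b = -1 := by linear_combination eb + 2 * ha
      rw [ha, hb]; apply ext8 <;> simp [oOne, uH, oConj]

variable (F) in
/-- Triples fixing `1` and `uH`. -/
noncomputable def fixU : Subgroup Tr where
  carrier := {P | (ap P.1 oOne = oOne ∧ ap P.1 (uH F) = uH F) ∧
    (ap P.2.1 oOne = oOne ∧ ap P.2.1 (uH F) = uH F) ∧ (ap P.2.2 oOne = oOne ∧ ap P.2.2 (uH F) = uH F)}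
  one_mem' := by simp
  mul_mem' := fun {P Q} hP hQ => by
    refine ⟨⟨?_, ?_⟩, ⟨?_, ?_⟩, ⟨?_, ?_⟩⟩ <;> simp [Prod.fst_mul, Prod.snd_mul, hQ.1.1, hQ.1.2, hQ.2.1.1,
      hQ.2.1.2, hQ.2.2.1, hQ.2.2.2, hP.1.1, hP.1.2, hP.2.1.1, hP.2.1.2, hP.2.2.1, hP.2.2.2]
  inv_mem' := fun {P} hP => by
    refine ⟨⟨ap_inj P.1 ?_, ap_inj P.1 ?_⟩, ⟨ap_inj P.2.1 ?_, ap_inj P.2.1 ?_⟩,
      ⟨ap_inj P.2.2 ?_, ap_inj P.2.2 ?_⟩⟩ <;> simp [hP.1.1, hP.1.2, hP.2.1.1, hP.2.1.2, hP.2.2.1, hP.2.2.2]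

set_option maxHeartbeats 1000000 in
/-- The model `g = gA`. -/
theorem core_gA (h3 : (3 : F) ≠ 0) :
    ∀ P ∈ Cfsg.pPrimeCore 3 (GF (gA F) (1 : F ≃+* F)), P = 1 := by
  have hm : IsModel (gA F) (1 : F ≃+* F) := .inr ⟨rfl, rfl⟩
  set N := Cfsg.pPrimeCore 3 (GF (gA F) (1 : F ≃+* F))
  have hInu : InH (uH F) := by simp [InH, uH]
  have hIn1 : InH (oOne : IJ → F) := by simp [InH, oOne]
  have hInc : InH (oConj (uH F)) := by simp [InH, uH, oConj]
  have hid : ∀ v : IJ → F, (⇑(1 : F ≃+* F)) ∘ v = v := fun v => rfl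
  have hS : ∀ (k : IsoGrp (Q4 F)) (x : IJ → F), Sg k 1 x = ap k x := fun k x => rfl
  obtain ⟨a, b, ha, hb, hk⟩ := exists_norm_neg_one h3 (1 : F ≃+* F)
  obtain ⟨k1, k2, k3⟩ := kap_facts h3 ha hb hk
  set K := hAu h3 * (kap a b hk)⁻¹
  obtain ⟨A1, A2, A3, hA, a12, a23, a31, a1o, a2o, a3o, a1x, a2x, a3x, ae12, ae23⟩ :=
    exists_switch_triple (g := gA F) (g' := gA F * gA F) (σ := (1 : F ≃+* F)) gA_mem Q_uH uH_sq
      (ap_gA_of_InH hInu) (hid _) (hAu_mem h3) (fun x => by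
        rw [hS, hS, eU_uH, ← ap_mul, ← ap_mul, ← ap_mul]
        congr 2
        have h := hAu_conj h3
        rw [mul_inv_eq_iff_eq_mul] at h
        have h' : gA F * e0 F * e0 F * hAu h3 = hAu h3 * (gA F * gA F) := by
          calc gA F * e0 F * e0 F * hAu h3
              = hAu h3 * (hAu h3 * (gA F * e0 F * e0 F)) * hAu h3 := by
                rw [← mul_assoc (hAu h3) (hAu h3), hAu_mul_self, one_mul]
            _ = _ := by rw [h]; simp only [mul_assoc, hAu_mul_self, mul_one]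
        calc gA F * hAu h3 = gA F * (e0 F * e0 F * e0 F) * hAu h3 := by
              rw [← sq, ← pow_succ, e0_cube, mul_one]
          _ = (gA F * e0 F) * (e0 F * e0 F * hAu h3) := by simp only [mul_assoc]
          _ = e0 F * gA F * (e0 F * e0 F * hAu h3) := congrArg (· * _) e0_gA.eq.symm
          _ = e0 F * (gA F * e0 F * e0 F * hAu h3) := by simp only [mul_assoc]
          _ = _ := by rw [h', mul_assoc])
  obtain ⟨B1, B2, B3, hB, b12, b23, b31, b1o, b2o, b3o, b1x, b2x, b3x, be12, be23⟩ :=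
    exists_switch_triple (g := gA F) (g' := gA F * gA F) (σ := (1 : F ≃+* F)) gA_mem uHc.1 uHc.2
      (ap_gA_of_InH hInc) (hid _) (inv_mem k1.1) (fun x => by
        rw [hS, hS, eU_uHc, ← ap_mul, ← ap_mul, ← ap_mul]
        congr 2
        rw [← k2]
        calc gA F * K⁻¹ = (e0 F * e0 F * e0 F) * gA F * K⁻¹ := by rw [← sq, ← pow_succ, e0_cube, one_mul]
          _ = e0 F * e0 F * (e0 F * gA F) * K⁻¹ := by simp only [mul_assoc]
          _ = _ := by rw [e0_gA.eq]; simp only [mul_assoc, inv_mul_cancel_left])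
  have huc : oConj (uH F) = -oOne - uH F := by apply ext8 <;> simp [oConj, oOne, uH]
  have fixc : ∀ {p : IsoGrp (Q4 F)}, ap p oOne = oOne → ap p (uH F) = uH F →
      ap p (oConj (uH F)) = oConj (uH F) := fun h h' => by rw [huc, map_sub, map_neg, h, h']
  let W := (fixU F).subgroupOf (GF (gA F) (1 : F ≃+* F))
  -- preimages of `1` and `u`
  have hw : ∀ w, w = oOne ∨ w = uH F ∨ w = oConj (uH F) →
      InH (ap (hAu h3) w) ∧ InH (ap K w) := by
    have one : ∀ {p : IsoGrp (Q4 F)}, p ∈ Au F → InH (ap p oOne) := fun hp => by rw [hp.2]; exact hIn1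
    intro w hw
    rcases hw with rfl | rfl | rfl
    · exact ⟨one (hAu_mem h3), one k1.1⟩
    · exact ⟨(hAu_uH h3).1, k3⟩
    · refine ⟨(hAu_uH h3).2, ?_⟩
      rw [au_conj k1.1]
      obtain ⟨x2, x3, x6, x7⟩ := k3
      simp [InH, oConj, x2, x3, x6, x7]
  have piece0 : ∀ P ∈ N, P.1.2.1 = P.1.1 → P.1.2.2 = P.1.1 → ∀ y, InH y → ap P.1.1 y = y := by
    intro P hP hq hr y hy
    have := (piece_gA h3 (T1 := 1) (T2 := 1) (T3 := 1) (.inl rfl) triSim_one one_switch one_switch one_switch hP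
      (diag_piece hq hr) y hy).1
    rwa [OrthOuter.sap_one] at this
  have pieceA : ∀ P ∈ N, (isoConj (Q4 F) A1⁻¹ P.1.1 = isoConj (Q4 F) A2⁻¹ P.1.2.1 ∧
      isoConj (Q4 F) A1⁻¹ P.1.1 = isoConj (Q4 F) A3⁻¹ P.1.2.2) → P.1 ∈ fixU F := by
    intro P hP h
    have hp := piece_gA h3 (.inr rfl) hA a12 a23 a31 hP h
    have hh : ∀ w, w = oOne ∨ w = uH F ∨ w = oConj (uH F) → InH (ap (hAu h3) w) ∧
        ap (hAu h3) (ap (hAu h3) w) = w := fun w hw' =>
      ⟨(hw w hw').1, by rw [← ap_mul, hAu_mul_self, ap_one]⟩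
    obtain ⟨i1, j1⟩ := hh oOne (.inl rfl)
    obtain ⟨iu, ju⟩ := hh (uH F) (.inr (.inl rfl))
    obtain ⟨ic, jc⟩ := hh (oConj (uH F)) (.inr (.inr rfl))
    obtain ⟨P1, Q1, R1⟩ := hp _ ic
    obtain ⟨Pu, Qu, Ru⟩ := hp _ i1
    rw [a1x, jc, conj_self_omul, Q_uH, one_smul] at P1
    rw [a3x, jc, omul_conj_self, Q_uH, one_smul] at R1
    rw [a1x, j1, one_omul] at Pu
    rw [a3x, j1, omul_one] at Ru
    have B1' := hp _ ic
    have : omul (omul (oConj (uH F)) (oConj (uH F))) (oConj (uH F)) = oOne := by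
      rw [← conj_omul, uH_sq, oConj_oConj, omul_conj_self, Q_uH, one_smul]
    rw [a2x, jc, this] at Q1
    rw [a2x, j1, omul_one, ← conj_omul, uH_sq, oConj_oConj] at Qu
    exact ⟨⟨P1, Pu⟩, ⟨Q1, Qu⟩, ⟨R1, Ru⟩⟩
  have pieceB : ∀ P ∈ N, (isoConj (Q4 F) B1⁻¹ P.1.1 = isoConj (Q4 F) B2⁻¹ P.1.2.1 ∧
      isoConj (Q4 F) B1⁻¹ P.1.1 = isoConj (Q4 F) B3⁻¹ P.1.2.2) → P.1 ∈ fixU F := by
    intro P hP h
    have hp := piece_gA h3 (.inr rfl) hB b12 b23 b31 hP h
    have hh : ∀ w, w = oOne ∨ w = uH F ∨ w = oConj (uH F) → InH (ap K w) ∧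
        ap K⁻¹ (ap K w) = w := fun w hw' => ⟨(hw w hw').2, ap_inv_ap K w⟩
    obtain ⟨i1, j1⟩ := hh oOne (.inl rfl)
    obtain ⟨iu, ju⟩ := hh (uH F) (.inr (.inl rfl))
    obtain ⟨ic, jc⟩ := hh (oConj (uH F)) (.inr (.inr rfl))
    obtain ⟨P1, Q1, R1⟩ := hp _ iu
    obtain ⟨Pu, Qu, Ru⟩ := hp _ ic
    rw [b1x, ju, omul_conj_self, Q_uH, one_smul] at P1
    rw [b3x, ju, conj_self_omul, Q_uH, one_smul] at R1
    rw [b1x, jc, ← conj_omul, uH_sq, oConj_oConj] at Pu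
    rw [b3x, jc, ← conj_omul, uH_sq, oConj_oConj] at Ru
    rw [b2x, oConj_oConj, ju, uH_sq, conj_self_omul, Q_uH, one_smul] at Q1
    rw [b2x, oConj_oConj, jc, omul_conj_self, Q_uH, one_smul, one_omul] at Qu
    exact ⟨⟨P1, Pu⟩, ⟨Q1, Qu⟩, ⟨R1, Ru⟩⟩
  have hall : ∀ P ∈ N, P ∈ W := by
    refine core_of_pieces hm W ?_ ?_ ?_ ?_
    · intro P hP hq hr
      have h := piece0 P hP hq hr
      show P.1 ∈ fixU F
      refine ⟨⟨h _ hIn1, h _ hInu⟩, ?_, ?_⟩
      · rw [hq]; exact ⟨h _ hIn1, h _ hInu⟩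
      · rw [hr]; exact ⟨h _ hIn1, h _ hInu⟩
    · -- permutations of the three idempotents
      intro P hP c1 c2 c3
      show P.1 ∈ fixU F
      have hu : ap (e0 F) (uH F) = uH F := by rw [ap_e0']; apply ext8 <;> simp [uH]
      have sp : ∀ {p : IsoGrp (Q4 F)}, Commute p (e0 F) → ∀ z, ap (e0 F) z = z →
          ∃ a b : F, ap p z = a • oOne + b • uH F := fun {p} hc z hz =>
        fix_e0 h3 (by rw [← ap_mul, ← hc.eq, ap_mul, hz])
      have key : ∀ z, (z = oOne ∨ z = uH F ∨ z = oConj (uH F)) →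
          (ap P.1.1 z = oOne ∨ ap P.1.1 z = uH F ∨ ap P.1.1 z = oConj (uH F)) ∧
            ap P.1.2.1 z = ap P.1.1 z ∧ ap P.1.2.2 z = ap P.1.1 z := by
        intro z hz
        have hzH : InH z ∧ ap (e0 F) z = z ∧ Q4 F z = 1 ∧ oConj (omul z z) = z := by
          rcases hz with rfl | rfl | rfl
          · exact ⟨hIn1, e0_mem.2, Q_oOne, by rw [omul_one, oConj_oOne]⟩
          · exact ⟨hInu, hu, Q_uH, by rw [uH_sq, oConj_oConj]⟩
          · exact ⟨hInc, by rw [au_conj e0_mem, hu], by rw [Q_oConj, Q_uH],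
              by rw [uHc.2, oConj_oConj]⟩
        obtain ⟨hH, he, hQ, hsq⟩ := hzH
        obtain ⟨a1, b1, e1⟩ := sp c1 z he
        obtain ⟨a2, b2, e2⟩ := sp c2 z he
        obtain ⟨a3, b3, e3⟩ := sp c3 z he
        have hlin : ∀ a b : F, InH (a • oOne + b • uH F) := fun a b => by simp [InH, oOne, uH]
        obtain ⟨r1, r2, -⟩ := P.2.2 z
        rw [hS, hS, ap_gA_of_InH hH, ap_gA_of_InH (e2 ▸ hlin a2 b2)] at r1
        rw [hS, hS, ap_gA_of_InH hH, ap_gA_of_InH (e3 ▸ hlin a3 b3)] at r2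
        refine ⟨?_, r1.symm, r2.symm.trans r1.symm⟩
        have hc := conj_prod_iso P.2.1.2 z z
        rw [← r1, hsq, ← r2.trans rfl, ← r1, e1] at hc
        have hn := Q_ap P.1.1 z
        rw [e1, hQ] at hn
        rw [e1]
        exact span_idem h3 hn hc
      have fixed : ∀ P' ∈ N, ∀ z, (z = oOne ∨ z = uH F ∨ z = oConj (uH F)) →
          ap P'.1.1 z = z → ap P'.1.2.1 z = z → ap P'.1.2.2 z = z → P'.1 ∈ fixU F := by
        intro P' hP' z hz f1 f2 f3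
        rcases hz with rfl | rfl | rfl
        · obtain ⟨t1, t2⟩ := tc_of_fix triSim_one P' (by rwa [OrthOuter.sap_one])
            (by rwa [OrthOuter.sap_one]) (by rwa [OrthOuter.sap_one])
          rw [inv_one, map_one, MulAut.one_apply, MulAut.one_apply] at t1 t2
          have h := piece0 P' hP' t1.symm t2.symm
          refine ⟨⟨h _ hIn1, h _ hInu⟩, ?_, ?_⟩
          · rw [← t1]; exact ⟨h _ hIn1, h _ hInu⟩
          · rw [← t2]; exact ⟨h _ hIn1, h _ hInu⟩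
        · exact pieceA P' hP' (tc_of_fix hA P' (by rwa [a1o]) (by rwa [a2o]) (by rwa [a3o]))
        · exact pieceB P' hP' (tc_of_fix hB P' (by rwa [b1o]) (by rwa [b2o]) (by rwa [b3o]))
      obtain ⟨k1', q1, r1⟩ := key oOne (.inl rfl)
      obtain ⟨ku, qu, ru⟩ := key (uH F) (.inr (.inl rfl))
      obtain ⟨kc, qc, rc⟩ := key (oConj (uH F)) (.inr (.inr rfl))
      by_cases f1 : ap P.1.1 oOne = oOne
      · exact fixed P hP _ (.inl rfl) f1 (q1.trans f1) (r1.trans f1)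
      by_cases fu : ap P.1.1 (uH F) = uH F
      · exact fixed P hP _ (.inr (.inl rfl)) fu (qu.trans fu) (ru.trans fu)
      by_cases fc : ap P.1.1 (oConj (uH F)) = oConj (uH F)
      · exact fixed P hP _ (.inr (.inr rfl)) fc (qc.trans fc) (rc.trans fc)
      have ne1 : (uH F : IJ → F) ≠ oOne := fun h => by simpa [uH, oOne] using congrFun h (.inl 1)
      have ne2 : oConj (uH F) ≠ (oOne : IJ → F) := fun h => by simpa [uH, oOne, oConj] using congrFun h (.inl 1)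
      have ne3 : oConj (uH F) ≠ uH F := fun h => by
        have e0 := congrFun h (.inl 0)
        simp [uH, oConj] at e0
      have inj := fun {x y : IJ → F} (h : ap P.1.1 x = ap P.1.1 y) => ap_inj P.1.1 h
      -- a cycle of length three
      have hcyc : ap P.1.1 (ap P.1.1 (ap P.1.1 oOne)) = oOne := by
        rcases k1' with h1 | h1 | h1
        · exact absurd h1 f1
        · rcases kc with hc | hc | hc
          · rcases ku with h2 | h2 | h2
            · exact absurd (inj (h2.trans hc.symm)) ne3.symm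
            · exact absurd h2 fu
            · rw [h1, h2, hc]
          · exact absurd (inj (hc.trans h1.symm)) ne2
          · exact absurd hc fc
        · rcases ku with h2 | h2 | h2
          · rcases kc with hc | hc | hc
            · exact absurd (inj (h2.trans hc.symm)) ne3.symm
            · rw [h1, hc, h2]
            · exact absurd hc fc
          · exact absurd h2 fu
          · exact absurd (inj (h2.trans h1.symm)) ne1
      set P3 := P * P * P with hP3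
      have hP3' : P3 ∈ N := mul_mem (mul_mem hP hP) hP
      have qeq : ∀ z, (z = oOne ∨ z = uH F ∨ z = oConj (uH F)) →
          ap P.1.2.1 z = ap P.1.1 z ∧ ap P.1.2.2 z = ap P.1.1 z := fun z hz => (key z hz).2
      have hP3f : P3.1 ∈ fixU F := by
        refine fixed P3 hP3' _ (.inl rfl) ?_ ?_ ?_
        · show ap (P.1.1 * P.1.1 * P.1.1) _ = _
          rw [ap_mul, ap_mul, hcyc]
        · show ap (P.1.2.1 * P.1.2.1 * P.1.2.1) _ = _
          rw [ap_mul, ap_mul, q1, (qeq _ k1').1, (qeq _ ((key _ k1').1)).1, hcyc]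
        · show ap (P.1.2.2 * P.1.2.2 * P.1.2.2) _ = _
          rw [ap_mul, ap_mul, r1, (qeq _ k1').2, (qeq _ ((key _ k1').1)).2, hcyc]
      have hcop : (orderOf P).Coprime 3 := Nat.Coprime.coprime_dvd_left
        (Subgroup.orderOf_dvd_natCard _ hP) (Cores.coprime_card_pPrimeCore 3)
      obtain ⟨l, hl⟩ := exists_pow_eq_self_of_coprime (x := P) (n := 3) hcop.symm
      have : P ^ 3 = P3 := by rw [pow_succ, sq]
      rw [this] at hl
      have hmem : P3 ∈ W := hP3f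
      exact (hl ▸ pow_mem hmem l : P ∈ W)
    · intro P hP e12 e23
      rw [← eU_uH] at e12 e23
      exact pieceA P hP ⟨ae12 _ _ e12, (ae12 _ _ e12).trans (ae23 _ _ e23)⟩
    · intro P hP e12 e23
      rw [← eU_uHc] at e12 e23
      exact pieceB P hP ⟨be12 _ _ e12, (be12 _ _ e12).trans (be23 _ _ e23)⟩
  intro P hP
  obtain ⟨⟨p1, pu⟩, ⟨q1, qu⟩, ⟨r1, ru⟩⟩ : P.1 ∈ fixU F := hall P hP
  obtain ⟨t1, t2⟩ := tc_of_fix triSim_one P (by rwa [OrthOuter.sap_one])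
    (by rwa [OrthOuter.sap_one]) (by rwa [OrthOuter.sap_one])
  rw [inv_one, map_one, MulAut.one_apply, MulAut.one_apply] at t1 t2
  have hfix := piece0 P hP t1.symm t2.symm
  obtain ⟨hAuP, -, hSP⟩ := pull_facts triSim_one one_switch _ (pull_one_eq N hP t1.symm t2.symm)
  have hA' := piece_gA h3 (.inr rfl) hA a12 a23 a31 hP
    (tc_of_fix hA P (by rwa [a1o]) (by rwa [a2o]) (by rwa [a3o]))
  have hy := (hA' (bv (.inl 0)) (by simp [InH, Pi.single_apply])).1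
  rw [a1x, ap_hAu] at hy
  set m := P.1.1
  set w : IJ → F := mk8 0 0 1 2 0 0 (-1) (-1) with hw'
  have hy3 : ap m ((3 : F) • omul (hLin (bv (.inl 0))) (uH F)) =
      (3 : F) • omul (hLin (bv (.inl 0))) (uH F) := by rw [map_smul, hy]
  have hsplit : (3 : F) • omul (hLin (bv (.inl 0))) (uH F) = mk8 1 (-2) 0 0 (-1) (-2) 0 0 + w := by
    apply ext8 <;> simp [hw', hLin, omul, uH, Pi.single_apply] <;> field_simp <;> ring
  rw [hsplit, map_add, hfix (mk8 1 (-2) 0 0 (-1) (-2) 0 0) (by simp [InH]), add_right_inj] at hy3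
  have hgw : ap m (ap (gA F) w) = ap (gA F) w := by
    have := hSP w
    rw [hS, hS, hy3] at this
    exact this
  have hmul : ∀ {i : IJ} {v : IJ → F}, InH (bv i : IJ → F) → ap m v = v →
      ap m (omul (bv i) v) = omul (bv i) v := fun hi hv => by rw [au_omul hAuP, hfix _ hi, hv]
  have hl0 : InH (bv (.inl 0) : IJ → F) := by simp [InH, Pi.single_apply]
  have hr0 : InH (bv (.inr 0) : IJ → F) := by simp [InH, Pi.single_apply]
  have La := hmul hl0 hy3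
  have Lb := hmul hl0 hgw
  have Ra := hmul hr0 hy3
  have Rb := hmul hr0 hgw
  have sm : ∀ {v : IJ → F} {c : F}, c ≠ 0 → ap m (c • v) = c • v → ap m v = v := fun hc h => by
    rw [map_smul] at h; exact smul_right_injective (IJ → F) hc h
  have l3 : ap m (bv (.inl 3)) = bv (.inl 3) := by
    refine sm h3 ?_
    rw [show (3 : F) • (bv (.inl 3) : IJ → F) =
      (2 : F) • omul (bv (.inl 0)) w + omul (bv (.inl 0)) (ap (gA F) w) by
        apply ext8 <;> simp [hw', omul, ap_gA, Pi.single_apply] <;> ring, map_add, map_smul, La, Lb]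
  have l2 : ap m (bv (.inl 2)) = bv (.inl 2) := by
    rw [show (bv (.inl 2) : IJ → F) = omul (bv (.inl 0)) w - (2 : F) • bv (.inl 3) by
        apply ext8 <;> simp [hw', omul, Pi.single_apply] <;> ring, map_sub, map_smul, La, l3]
  have r2 : ap m (bv (.inr 2)) = bv (.inr 2) := by
    refine sm (neg_ne_zero.2 h3) ?_
    rw [show (-3 : F) • (bv (.inr 2) : IJ → F) =
      omul (bv (.inr 0)) w - omul (bv (.inr 0)) (ap (gA F) w) by
        apply ext8 <;> simp [hw', omul, ap_gA, Pi.single_apply] <;> ring, map_sub, Ra, Rb]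
  have r3 : ap m (bv (.inr 3)) = bv (.inr 3) := by
    rw [show (bv (.inr 3) : IJ → F) = -omul (bv (.inr 0)) w - bv (.inr 2) by
        apply ext8 <;> simp [hw', omul, Pi.single_apply] <;> ring, map_sub, map_neg, Ra, r2]
  have hm1 : P.1.1 = 1 := fixes_all hAuP l2 l3 r2 r3
  exact Subtype.ext (Prod.ext hm1 (Prod.ext (t1 ▸ hm1) (t2 ▸ hm1)))

theorem core_field (h3 : (3 : F) ≠ 0) {σ : F ≃+* F} (hσ3 : ∀ t, σ (σ (σ t)) = t) :
    ∀ P ∈ Cfsg.pPrimeCore 3 (GF (1 : IsoGrp (Q4 F)) σ), P = 1 := by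
  have hm : IsModel (1 : IsoGrp (Q4 F)) σ := .inl ⟨rfl, hσ3⟩
  set N := Cfsg.pPrimeCore 3 (GF (1 : IsoGrp (Q4 F)) σ)
  have piece0 : ∀ P ∈ N, P.1.2.1 = P.1.1 → P.1.2.2 = P.1.1 → P = 1 := fun P hP hq hr =>
    piece_one h3 triSim_one one_switch one_switch one_switch hP (diag_piece hq hr)
  have hS : ∀ x : IJ → F, Sg (1 : IsoGrp (Q4 F)) σ x = σ ∘ x := fun x => by rw [Sg, ap_one]
  by_cases hσ : σ = 1
  · subst hσ
    intro P hP
    refine piece0 P hP (ext_ap fun x => ?_) (ext_ap fun x => ?_)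
    · have := (P.2.2 x).1
      rw [hS, hS] at this
      exact this.symm
    · have := (P.2.2 x).2.2
      rw [hS, hS] at this
      exact this
  have hσu : σ ∘ uH F = uH F := uH_CR σ
  have hσc : σ ∘ oConj (uH F) = oConj (uH F) := by rw [gal_oConj, hσu]
  have switch : ∀ (u : IJ → F) (hu : Q4 F u = 1) (hsq : omul u u = oConj u), σ ∘ u = u →
      eU u hu ∈ CR σ → eU u hu ^ 3 = 1 → ∀ P ∈ N,
        P.1.1 = eU u hu * P.1.2.1 * (eU u hu)⁻¹ → P.1.2.1 = eU u hu * P.1.2.2 * (eU u hu)⁻¹ → P = 1 := by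
    intro u hu hsq hσu hCR hcube P hP e12 e23
    set e := eU u hu
    have hr := (inv_mem hCR : e⁻¹ ∈ CR σ)
    obtain ⟨h, hh, hd⟩ := exists_descent (g := e⁻¹) hσ hσ3 hr.1 (fun x => by
      simp only [Sg, hr.2, ← ap_mul]
      rw [show e⁻¹ * (e⁻¹ * e⁻¹) = (e ^ 3)⁻¹ by group, hcube, inv_one, ap_one]
      funext i; exact hσ3 (x i))
    obtain ⟨T1, T2, T3, hT, h12, h23, h31, -, -, -, -, -, -, t12, t23⟩ :=
      exists_switch_triple (g := (1 : IsoGrp (Q4 F))) (g' := 1) (σ := σ) (one_mem _) hu hsq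
        (ap_one _) hσu hh (fun x => by
          rw [hS, hS, ← hd x, Sg, ap_ap_inv])
    exact piece_one h3 hT h12 h23 h31 hP ⟨t12 _ _ e12, (t12 _ _ e12).trans (t23 _ _ e23)⟩
  have hall : ∀ P ∈ N, Commute P.1.1 (e0 F) ∧ Commute P.1.2.1 (e0 F) ∧ Commute P.1.2.2 (e0 F) := by
    let W : Subgroup (GF (1 : IsoGrp (Q4 F)) σ) :=
      Subgroup.centralizer {(⟨(e0 F, e0 F, e0 F), e0T_mem hm⟩ : GF (1 : IsoGrp (Q4 F)) σ)}
    have h1 : ∀ P ∈ N, P = 1 → P ∈ W := fun P _ h => h ▸ one_mem _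
    intro P hP
    have h := core_of_pieces hm W (fun P hP hq hr => h1 P hP (piece0 P hP hq hr))
      (fun P _ c1 c2 c3 => Subgroup.mem_centralizer_singleton_iff.2
        (Subtype.ext (Prod.ext c1.eq (Prod.ext c2.eq c3.eq))))
      (fun P hP e12 e23 => h1 P hP (switch (uH F) Q_uH uH_sq hσu (by rw [eU_uH]; exact e0_CR σ)
        (by rw [eU_uH, e0_cube]) P hP (by rwa [eU_uH]) (by rwa [eU_uH])))
      (fun P hP e12 e23 => h1 P hP (switch (oConj (uH F)) uHc.1 uHc.2 hσc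
        (by rw [eU_uHc]; exact mul_mem (e0_CR σ) (e0_CR σ))
        (by rw [eU_uHc, ← sq, ← pow_mul, mul_comm, pow_mul, e0_cube, one_pow]) P hP
        (by rwa [eU_uHc]) (by rwa [eU_uHc]))) P hP
    have h' := Subgroup.mem_centralizer_singleton_iff.1 h
    exact ⟨congrArg (fun P => (P : Tr).1) (congrArg Subtype.val h'),
      congrArg (fun P => (P : Tr).2.1) (congrArg Subtype.val h'),
      congrArg (fun P => (P : Tr).2.2) (congrArg Subtype.val h')⟩
  intro P hP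
  obtain ⟨⟨h21, -⟩, -, -⟩ := roots_mem (1 : F)
  set r := root21 (1 : F) with hr
  have hrσ : ∀ x : IJ → F, ap r (σ ∘ x) = σ ∘ ap r x := fun x => by
    simp only [hr, root21]; rw [rt_ap (by decide), rt_ap (by decide)]; apply ext8 <;> simp
  let R : GF (1 : IsoGrp (Q4 F)) σ := ⟨(r, r, r), diag_mem_GF h21 (base4.eich_mem _ _) (fun x => by
    rw [hS, hS]; exact hrσ x)⟩
  have hu : ap (e0 F) (uH F) = uH F := by rw [ap_e0']; apply ext8 <;> simp [uH]
  have hru : ap r⁻¹ (uH F) = uH F + bv (.inl 2) := ap_inj r (by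
    rw [ap_ap_inv]; simp only [hr, root21]; rw [rt_ap (by decide)]
    apply ext8 <;> simp [uH, Pi.single_apply])
  have sc : ∀ (P : GF (1 : IsoGrp (Q4 F)) σ), P ∈ N → ∃ a : F, ap P.1.1 oOne = a • oOne := by
    intro P hP
    obtain ⟨a, b, e⟩ := fix_e0 h3 (x := ap P.1.1 oOne) (by rw [← ap_mul, ← (hall P hP).1.eq, ap_mul, e0_mem.2])
    have hP' : R⁻¹ * P * R⁻¹⁻¹ ∈ N := (inferInstance : N.Normal).conj_mem P hP _
    obtain ⟨c, d, e'⟩ := fix_e0 h3 (x := ap (R⁻¹ * P * R⁻¹⁻¹).1.1 oOne) (by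
      rw [← ap_mul, ← (hall _ hP').1.eq, ap_mul, e0_mem.2])
    have e2 : ap (R⁻¹ * P * R⁻¹⁻¹).1.1 oOne = a • oOne + b • ap r⁻¹ (uH F) := by
      show ap (r⁻¹ * P.1.1 * r⁻¹⁻¹) oOne = _
      rw [inv_inv, ap_mul, ap_mul, h21.2, e, map_add, map_smul, map_smul, (inv_mem h21).2]
    rw [e', hru] at e2
    have := congrFun e2 (.inl 2)
    simp [oOne, uH, Pi.single_apply] at this
    exact ⟨a, by rw [e, ← this, zero_smul, add_zero]⟩
  obtain ⟨a, ha⟩ := sc P hP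
  have hshift : ∀ P ∈ N, shiftG 1 σ P ∈ N := fun P hP =>
    (Subgroup.Characteristic.fixed (H := N) inferInstance (shiftG 1 σ)).ge hP
  obtain ⟨b, hb⟩ : ∃ b : F, ap P.1.2.1 oOne = b • oOne := sc _ (hshift _ hP)
  obtain ⟨c, hc⟩ : ∃ c : F, ap P.1.2.2 oOne = c • oOne := sc _ (hshift _ (hshift _ hP))
  have ha2 : a * a = 1 := by
    have h := Q_ap P.1.1 (oOne : IJ → F)
    rwa [ha, Q_smul, Q_oOne, mul_one] at h
  have hsa : σ a = a := by rcases mul_self_eq_one_iff.1 ha2 with rfl | rfl <;> simp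
  obtain ⟨r1, -, r3⟩ := P.2.2 oOne
  rw [hS, hS, gal_oOne, ha, hb, gal_smul, gal_oOne] at r1
  rw [hS, hS, gal_oOne, hc, ha, gal_smul, gal_oOne, hsa] at r3
  have k1 := congrFun r1 (.inl 0)
  have k3 := congrFun r3 (.inl 0)
  simp [oOne] at k1 k3
  have hba : b = a := σ.injective (by rw [← k1, hsa])
  have he := conj_prod_iso P.2.1.2 oOne oOne
  rw [ha, hb, omul_one, oConj_oOne, hc, hba, k3, smul_omul, omul_smul, omul_one, smul_smul, oConj_smul,
    oConj_oOne, ha2] at he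
  have ha1 : a = 1 := by simpa [oOne] using (congrFun he (.inl 0)).symm
  obtain ⟨t1, t2⟩ := tc_of_fix triSim_one P (by rw [OrthOuter.sap_one, ha, ha1, one_smul])
    (by rw [OrthOuter.sap_one, hb, hba, ha1, one_smul]) (by rw [OrthOuter.sap_one, hc, k3, ha1, one_smul])
  rw [inv_one, map_one, MulAut.one_apply, MulAut.one_apply] at t1 t2
  exact piece0 P hP t1.symm t2.symm

theorem core_eq_bot (h3 : (3 : F) ≠ 0) {g : IsoGrp (Q4 F)} {σ : F ≃+* F} (hm : IsModel g σ) :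
    Cfsg.pPrimeCore 3 (GF g σ) = ⊥ := by
  refine (Subgroup.eq_bot_iff_forall _).2 ?_
  rcases hm with ⟨rfl, h⟩ | ⟨rfl, rfl⟩
  · exact core_field h3 h
  · exact core_gA h3

end Cfsg.Agent.LocalBalance
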