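import Cfsg.Agent.Lib.LocalBalance.TriAlg
import Cfsg.Agent.Lib.LocalBalance.Orth

/-!
# Automorphisms of the split octonions used for triality

* `Au`, `au_omul`, `au_conj`, `Com σ`, `mkIso`
* `gA` : of order three, fixing exactly the quaternions `H`; `Xs`, `Ys`, `torD`
* `uH`, `e0` : an element of order three of `H` and its conjugation
* `hAu`, `kap` : `hAu gA² hAu = gA e0²`; `kap` commutes with `gA` and inverts `e0`
* `root21`, `root31`, `root12`, `root13` : long root elements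
-/

set_option autoImplicit false
set_option linter.unusedSectionVars false

namespace Cfsg.Agent.LocalBalance

open Cfsg Matrix Cfsg.Agent.Orth Cfsg.Agent.AutPOmega Cfsg.Agent.Triality
open Cfsg.Agent.OrthOuter (Sim sap toSim)
open QuadraticMap (polar)

variable {F : Type*} [Field F] [Fintype F]

variable (F) in
/-- Automorphisms of the octonions. -/
noncomputable def Au : Subgroup (IsoGrp (Q4 F)) where
  carrier := {p | TriEq p p p ∧ ap p oOne = oOne}
  one_mem' := ⟨fun x y z => by rw [ap_one, ap_one, ap_one], ap_one _⟩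
  mul_mem' := fun {p q} hp hq => ⟨hp.1.mul hq.1, by rw [ap_mul, hq.2, hp.2]⟩
  inv_mem' := fun {p} hp => ⟨hp.1.inv, by
    conv_lhs => rw [← hp.2]
    rw [ap_inv_ap]⟩

theorem mu_toSim (p : IsoGrp (Q4 F)) : mu (toSim (Q4 F) p) = 1 := by
  rw [mu, OrthOuter.mult_toSim, Units.val_one]

theorem conj_prod_iso {a b c : IsoGrp (Q4 F)} (h : TriEq a b c) (x y : IJ → F) :
    oConj (omul (ap a x) (ap b y)) = ap c (oConj (omul x y)) := by
  have h1 := conj_prod (a := toSim (Q4 F) a) (b := toSim (Q4 F) b) (c := toSim (Q4 F) c) (lam := 1)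
    (fun x y z => by simpa using h x y z) x y
  simpa [mu_toSim] using h1

theorem au_conj {p : IsoGrp (Q4 F)} (hp : p ∈ Au F) (x : IJ → F) : ap p (oConj x) = oConj (ap p x) := by
  have h := conj_prod_iso hp.1 x oOne
  rw [hp.2, omul_one, omul_one] at h
  exact h.symm

theorem au_omul {p : IsoGrp (Q4 F)} (hp : p ∈ Au F) (x y : IJ → F) :
    ap p (omul x y) = omul (ap p x) (ap p y) := by
  have h := conj_prod_iso hp.1 x y
  rw [au_conj hp] at h
  have h' := congrArg oConj h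
  rw [oConj_oConj, oConj_oConj] at h'
  exact h'.symm

/-- An isometry from a linear map preserving the form. -/
noncomputable def mkIso (f : (IJ → F) →ₗ[F] (IJ → F)) (hQ : ∀ x, Q4 F (f x) = Q4 F x) :
    IsoGrp (Q4 F) :=
  ⟨(mkSim f (fun x y h => eq_of_polar fun z => by
      have h1 : polar ⇑(Q4 F) (f x) (f z) = polar ⇑(Q4 F) (f y) (f z) := by rw [h]
      simpa [polar, ← map_add, hQ] using h1) 1 one_ne_zero (fun x => by rw [hQ, one_mul]) :
        Sim (Q4 F)).1, fun x _ => by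
    show Q4 F (LinearMap.toMatrix' f *ᵥ x) = Q4 F x
    rw [LinearMap.toMatrix'_mulVec]; exact hQ x⟩

theorem ap_mkIso (f : (IJ → F) →ₗ[F] (IJ → F)) (hQ : ∀ x, Q4 F (f x) = Q4 F x) (x : IJ → F) :
    ap (mkIso f hQ) x = f x := LinearMap.toMatrix'_mulVec f x

/-- Eight coordinates. -/
def mk8 (a b c d e f g h : F) : IJ → F := Sum.elim ![a, b, c, d] ![e, f, g, h]

@[simp] theorem mk8_l0 (a b c d e f g h : F) : mk8 a b c d e f g h (.inl 0) = a := rfl
@[simp] theorem mk8_l1 (a b c d e f g h : F) : mk8 a b c d e f g h (.inl 1) = b := rfl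
@[simp] theorem mk8_l2 (a b c d e f g h : F) : mk8 a b c d e f g h (.inl 2) = c := rfl
@[simp] theorem mk8_l3 (a b c d e f g h : F) : mk8 a b c d e f g h (.inl 3) = d := rfl
@[simp] theorem mk8_r0 (a b c d e f g h : F) : mk8 a b c d e f g h (.inr 0) = e := rfl
@[simp] theorem mk8_r1 (a b c d e f g h : F) : mk8 a b c d e f g h (.inr 1) = f := rfl
@[simp] theorem mk8_r2 (a b c d e f g h : F) : mk8 a b c d e f g h (.inr 2) = g := rfl
@[simp] theorem mk8_r3 (a b c d e f g h : F) : mk8 a b c d e f g h (.inr 3) = h := rfl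

theorem smul_mk8 (k a b c d e f g h : F) : k • mk8 a b c d e f g h =
    mk8 (k * a) (k * b) (k * c) (k * d) (k * e) (k * f) (k * g) (k * h) := by
  apply ext8 <;> simp

/-! ### `gA` -/

/-- A companion matrix of order three on two coordinates. -/
def gALin : (IJ → F) →ₗ[F] (IJ → F) where
  toFun x := mk8 (x (.inl 0)) (x (.inl 1)) (-x (.inl 3)) (x (.inl 2) - x (.inl 3))
    (x (.inr 0)) (x (.inr 1)) (-x (.inr 2) - x (.inr 3)) (x (.inr 2))
  map_add' x y := by apply ext8 <;> (simp; try ring)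
  map_smul' k x := by apply ext8 <;> (simp; try ring)

variable (F) in
/-- An automorphism of order three fixing a quaternion algebra. -/
noncomputable def gA : IsoGrp (Q4 F) :=
  mkIso gALin fun x => by simp [gALin, Q4_apply]; ring

theorem ap_gA (x : IJ → F) : ap (gA F) x =
    mk8 (x (.inl 0)) (x (.inl 1)) (-x (.inl 3)) (x (.inl 2) - x (.inl 3))
      (x (.inr 0)) (x (.inr 1)) (-x (.inr 2) - x (.inr 3)) (x (.inr 2)) := ap_mkIso _ _ x

theorem gA_cube : gA F ^ 3 = 1 := ext_ap fun x => by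
  rw [pow_succ, sq, ap_mul, ap_mul, ap_one]
  apply ext8 <;> (simp [ap_gA]; try ring)

theorem gA_mem : gA F ∈ Au F :=
  ⟨fun x y z => by simp [ap_gA, tri]; ring, by apply ext8 <;> simp [ap_gA, oOne]⟩

/-- Membership in the quaternion algebra fixed by `gA`. -/
def InH (x : IJ → F) : Prop :=
  x (.inl 2) = 0 ∧ x (.inl 3) = 0 ∧ x (.inr 2) = 0 ∧ x (.inr 3) = 0

theorem ap_gA_of_InH {x : IJ → F} (h : InH x) : ap (gA F) x = x := by
  obtain ⟨a, b, c, d⟩ := h
  apply ext8 <;> simp [ap_gA, a, b, c, d]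

theorem InH_of_fix (h3 : (3 : F) ≠ 0) {x : IJ → F} (h : ap (gA F) x = x) : InH x := by
  rw [ap_gA] at h
  have e2 := congrFun h (.inl 2)
  have e3 := congrFun h (.inl 3)
  have e6 := congrFun h (.inr 2)
  have e7 := congrFun h (.inr 3)
  simp only [mk8_l2, mk8_l3, mk8_r2, mk8_r3] at e2 e3 e6 e7
  have h31 : x (.inl 3) = 0 := by
    refine (mul_eq_zero.1 (?_ : (3 : F) * x (.inl 3) = 0)).resolve_left h3
    linear_combination -e2 - e3
  have h72 : x (.inr 3) = 0 := by
    refine (mul_eq_zero.1 (?_ : (3 : F) * x (.inr 3) = 0)).resolve_left h3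
    linear_combination -e6 - 2 * e7
  exact ⟨by linear_combination -e2 - h31, h31, by linear_combination e7 + h72, h72⟩

/-! ### the group `SL₂` commuting with `gA` -/

/-- An upper transvection acting on the quaternions by conjugation. -/
noncomputable def Xs (t : F) : IsoGrp (Q4 F) :=
  rt (.inr 0) (.inl 1) (-t) * rt (.inl 0) (.inl 1) t * rt (.inr 2) (.inr 3) t

/-- A lower transvection acting on the quaternions by conjugation. -/
noncomputable def Ys (t : F) : IsoGrp (Q4 F) :=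
  rt (.inr 0) (.inr 1) (-t) * rt (.inl 0) (.inr 1) t * rt (.inl 2) (.inl 3) (-t)

theorem ap_Xs (t : F) (x : IJ → F) : ap (Xs t) x =
    mk8 (x (.inl 0) - t * x (.inr 1)) (x (.inl 1) + t * (x (.inr 0) - x (.inl 0)) + t * t * x (.inr 1))
      (x (.inl 2)) (x (.inl 3)) (x (.inr 0) + t * x (.inr 1)) (x (.inr 1))
      (x (.inr 2) - t * x (.inl 3)) (x (.inr 3) + t * x (.inl 2)) := by
  rw [Xs, ap_mul, ap_mul, rt_ap (by decide), rt_ap (by decide), rt_ap (by decide)]
  apply ext8 <;> (simp; try ring)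

theorem ap_Ys (t : F) (x : IJ → F) : ap (Ys t) x =
    mk8 (x (.inl 0) - t * x (.inl 1)) (x (.inl 1)) (x (.inl 2) + t * x (.inr 3))
      (x (.inl 3) - t * x (.inr 2)) (x (.inr 0) + t * x (.inl 1))
      (x (.inr 1) + t * (x (.inr 0) - x (.inl 0)) + t * t * x (.inl 1))
      (x (.inr 2)) (x (.inr 3)) := by
  rw [Ys, ap_mul, ap_mul, rt_ap (by decide), rt_ap (by decide), rt_ap (by decide)]
  apply ext8 <;> (simp; try ring)

theorem Xs_mem (t : F) : Xs t ∈ Au F :=
  ⟨fun x y z => by simp [ap_Xs, tri]; ring, by apply ext8 <;> simp [ap_Xs, oOne]⟩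

theorem Ys_mem (t : F) : Ys t ∈ Au F :=
  ⟨fun x y z => by simp [ap_Ys, tri]; ring, by apply ext8 <;> simp [ap_Ys, oOne]⟩

theorem Xs_omega (t : F) : Xs t ∈ Omega F ⇑(Q4 F) :=
  mul_mem (mul_mem (base4.eich_mem _ _) (base4.eich_mem _ _)) (base4.eich_mem _ _)

theorem Ys_omega (t : F) : Ys t ∈ Omega F ⇑(Q4 F) :=
  mul_mem (mul_mem (base4.eich_mem _ _) (base4.eich_mem _ _)) (base4.eich_mem _ _)

theorem Xs_gA (t : F) : Commute (Xs t) (gA F) := ext_ap fun x => by
  apply ext8 <;> (simp [ap_mul, ap_Xs, ap_gA]; try ring)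

theorem Ys_gA (t : F) : Commute (Ys t) (gA F) := ext_ap fun x => by
  apply ext8 <;> (simp [ap_mul, ap_Ys, ap_gA]; try ring)

/-- `w = X(1) Y(-1) X(1)` exchanges the two nilpotent lines. -/
noncomputable def wS : IsoGrp (Q4 F) := Xs 1 * Ys (-1) * Xs 1

theorem ap_wS (x : IJ → F) : ap (wS : IsoGrp (Q4 F)) x =
    mk8 (x (.inr 0)) (x (.inr 1)) (-x (.inr 3)) (x (.inr 2)) (x (.inl 0)) (x (.inl 1))
      (-x (.inl 3)) (x (.inl 2)) := by
  rw [wS, ap_mul, ap_mul]
  apply ext8 <;> (simp [ap_Xs, ap_Ys]; try ring)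

/-- A torus element of order three, given a root `ω`. -/
noncomputable def torD (ω : F) : IsoGrp (Q4 F) :=
  Xs (-1) * Ys (1 - ω) * Xs (ω * ω) * Ys (ω * ω - ω)

theorem ap_torD {ω : F} (hω : ω * ω + ω + 1 = 0) (x : IJ → F) : ap (torD ω) x =
    mk8 (x (.inl 0)) (ω * ω * x (.inl 1)) (ω * ω * x (.inl 2)) (ω * ω * x (.inl 3)) (x (.inr 0))
      (ω * x (.inr 1)) (ω * x (.inr 2)) (ω * x (.inr 3)) := by
  rw [torD, ap_mul, ap_mul, ap_mul]
  apply ext8 <;> (simp [ap_Xs, ap_Ys]; grind)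

/-- The companion matrix in `SL₂`. -/
noncomputable def torC : IsoGrp (Q4 F) := Xs 1 * Ys (-3)

/-! ### `e0` -/

variable (F) in
/-- An element of order three of the quaternions. -/
def uH : IJ → F := mk8 0 (-1) 0 0 (-1) (-1) 0 0

theorem Q_uH : Q4 F (uH F) = 1 := by simp [Q4_apply, uH]

theorem uH_sq : omul (uH F) (uH F) = oConj (uH F) := by
  apply ext8 <;> simp [omul, oConj, uH]

/-- Conjugation by `uH`. -/
def e0Lin : (IJ → F) →ₗ[F] (IJ → F) where
  toFun x := omul (omul (uH F) x) (oConj (uH F))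
  map_add' x y := by rw [omul_add, add_omul]
  map_smul' k x := by rw [omul_smul, smul_omul]; rfl

variable (F) in
/-- Conjugation by `uH`. -/
noncomputable def e0 : IsoGrp (Q4 F) :=
  mkIso e0Lin fun x => by
    show Q4 F (omul (omul (uH F) x) (oConj (uH F))) = _
    rw [Q_omul, Q_omul, Q_oConj, Q_uH, one_mul, mul_one]

theorem ap_e0 (x : IJ → F) : ap (e0 F) x = omul (omul (uH F) x) (oConj (uH F)) := ap_mkIso _ _ x

theorem ap_e0' (x : IJ → F) : ap (e0 F) x =
    mk8 (x (.inr 0) - x (.inr 1)) (x (.inr 1)) (x (.inr 3) - x (.inl 2)) (-x (.inr 2) - x (.inl 3))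
      (x (.inl 0) + x (.inr 1))
      (x (.inl 1) + x (.inl 0) - x (.inr 0) + x (.inr 1))
      (x (.inl 3)) (-x (.inl 2)) := by
  rw [ap_e0]
  apply ext8 <;> (simp [omul, oConj, uH]; try ring)

theorem e0_mem : e0 F ∈ Au F :=
  ⟨fun x y z => by simp [ap_e0', tri]; ring, by apply ext8 <;> simp [ap_e0', oOne]⟩

theorem e0_gA : Commute (e0 F) (gA F) := ext_ap fun x => by
  apply ext8 <;> (simp [ap_mul, ap_e0', ap_gA]; try ring)

theorem e0_cube : e0 F ^ 3 = 1 := ext_ap fun x => by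
  rw [pow_succ, sq, ap_mul, ap_mul, ap_one]
  apply ext8 <;> (simp [ap_e0']; try ring)

/-! ### exchanging quaternion algebras -/

/-- An involution carrying `H` to the fixed algebra of `gA e0²`. -/
def hLin : (IJ → F) →ₗ[F] (IJ → F) where
  toFun x := (3 : F)⁻¹ • mk8
    (x (.inl 0) - x (.inl 1) + x (.inl 2) - 2 * x (.inl 3) + 2 * x (.inr 0) - x (.inr 1) - x (.inr 2) + x (.inr 3))
    (x (.inl 0) + 2 * x (.inl 1) - 2 * x (.inl 2) + x (.inl 3) - x (.inr 0) + 2 * x (.inr 1) + 2 * x (.inr 2) + x (.inr 3))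
    (x (.inl 0) - x (.inl 1) - x (.inl 2) - x (.inl 3) - x (.inr 0) + 2 * x (.inr 1) - 2 * x (.inr 2) - x (.inr 3))
    (-x (.inl 0) - 2 * x (.inl 1) + x (.inl 2) - 2 * x (.inl 3) + x (.inr 0) + x (.inr 1) - x (.inr 2) - 2 * x (.inr 3))
    (2 * x (.inl 0) + x (.inl 1) - x (.inl 2) + 2 * x (.inl 3) + x (.inr 0) + x (.inr 1) + x (.inr 2) - x (.inr 3))
    (x (.inl 0) + 2 * x (.inl 1) + x (.inl 2) + x (.inl 3) - x (.inr 0) + 2 * x (.inr 1) - x (.inr 2) - 2 * x (.inr 3))
    (-x (.inl 0) + x (.inl 1) - 2 * x (.inl 2) + x (.inl 3) + x (.inr 0) - 2 * x (.inr 1) - x (.inr 2) + x (.inr 3))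
    (2 * x (.inl 0) + x (.inl 1) + x (.inl 2) - 2 * x (.inl 3) - 2 * x (.inr 0) + x (.inr 1) - x (.inr 2) - 2 * x (.inr 3))
  map_add' x y := by apply ext8 <;> (simp; ring)
  map_smul' k x := by apply ext8 <;> (simp; ring)

/-- An involution carrying `H` to the fixed algebra of `gA e0²`. -/
noncomputable def hAu (h3 : (3 : F) ≠ 0) : IsoGrp (Q4 F) :=
  mkIso hLin fun x => by simp [hLin, Q4_apply]; field_simp; ring

theorem ap_hAu (h3 : (3 : F) ≠ 0) (x : IJ → F) : ap (hAu h3) x = hLin x := ap_mkIso _ _ x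

/-- An automorphism commuting with `gA` and inverting `e0`. -/
def kapLin (a b : F) : (IJ → F) →ₗ[F] (IJ → F) where
  toFun x := mk8 (x (.inr 0)) (-x (.inr 1)) (a * x (.inr 3) + b * x (.inr 2))
    (-(a - b) * x (.inr 2) + b * x (.inr 3)) (x (.inl 0)) (-x (.inl 1))
    (-a * x (.inl 3) - b * x (.inl 2) + b * x (.inl 3)) (a * x (.inl 2) - b * x (.inl 3))
  map_add' x y := by apply ext8 <;> (simp; try ring)
  map_smul' k x := by apply ext8 <;> (simp; try ring)

/-- An automorphism commuting with `gA` and inverting `e0`. -/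
noncomputable def kap (a b : F) (h : a * a - a * b + b * b = -1) : IsoGrp (Q4 F) :=
  mkIso (kapLin a b) fun x => by simp [kapLin, Q4_apply]; grind

theorem ap_kap (a b : F) (h : a * a - a * b + b * b = -1) (x : IJ → F) :
    ap (kap a b h) x = kapLin a b x := ap_mkIso _ _ x

theorem kap_gA (a b : F) (h : a * a - a * b + b * b = -1) : Commute (kap a b h) (gA F) :=
  ext_ap fun x => by
    simp only [ap_mul, ap_kap, ap_gA]
    apply ext8 <;> (simp [kapLin]; try ring)

theorem kap_e0 (a b : F) (h : a * a - a * b + b * b = -1) :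
    kap a b h * e0 F = e0 F * e0 F * kap a b h := ext_ap fun x => by
  simp only [ap_mul, ap_kap, ap_e0']
  apply ext8 <;> (simp [kapLin]; try ring)

/-! ### long roots -/

/-- A long root element. -/
noncomputable def root21 (t : F) : IsoGrp (Q4 F) := rt (.inr 1) (.inl 2) t
/-- A long root element. -/
noncomputable def root31 (t : F) : IsoGrp (Q4 F) := rt (.inr 1) (.inl 3) t
/-- A long root element. -/
noncomputable def root12 (t : F) : IsoGrp (Q4 F) := rt (.inl 1) (.inr 2) t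
/-- A long root element. -/
noncomputable def root13 (t : F) : IsoGrp (Q4 F) := rt (.inl 1) (.inr 3) t

theorem roots_mem (t : F) :
    (root21 t ∈ Au F ∧ root31 t ∈ Au F) ∧ root12 t ∈ Au F ∧ root13 t ∈ Au F := by
  refine ⟨⟨?_, ?_⟩, ?_, ?_⟩ <;> refine ⟨fun x y z => ?_, ?_⟩
  all_goals simp only [root21, root31, root12, root13]
  all_goals first
    | (rw [rt_ap (by decide), rt_ap (by decide), rt_ap (by decide)]; simp [tri]; ring)
    | (rw [rt_ap (by decide)]; apply ext8 <;> simp [oOne])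

end Cfsg.Agent.LocalBalance
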