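import Cfsg.Agent.Lib.LocalBalance.TriNormal
import Cfsg.Agent.Lib.Cores.Basic

/-!
# The fixed points of `conj(g) τ φ` as a group of triples

* `GF g σ` : triples of `TriK` commuting with `(v₁, v₂, v₃) ↦ (S v₂, S v₃, S v₁)`, `S = g σ`
* `triAut g σ`, `fixEquiv` : `GF g σ ≃* fixK (conj(g) τ φ)`
* `au_of_triEq` : equal components fix the unit
-/

set_option autoImplicit false
set_option linter.unusedSectionVars false

namespace Cfsg.Agent.LocalBalance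

open Cfsg Matrix Cfsg.Agent.Orth Cfsg.Agent.AutPOmega Cfsg.Agent.Triality
open Cfsg.Agent.OrthOuter (Sim sap toSim conjAut isoConj)
open QuadraticMap (polar)

variable {F : Type*} [Field F] [Fintype F]

set_option quotPrecheck false in
local notation "P8" => POmega F ⇑(Q4 F)

theorem omega_of_cube {p : IsoGrp (Q4 F)} (h : p ^ 3 = 1) : p ∈ Omega F ⇑(Q4 F) := by
  have hG : Good (Q4 F) := Good.of_card base4.nd (.inr (by simp))
  have e : p * p * (p * p) = p := by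
    rw [show p * p * (p * p) = p * p ^ 3 by rw [pow_succ, sq]; simp only [mul_assoc], h, mul_one]
  rw [← e]
  exact mul_mem (sq_mem_omega hG p) (sq_mem_omega hG p)

theorem gA_omega : gA F ∈ Omega F ⇑(Q4 F) := omega_of_cube gA_cube

theorem e0_omega : e0 F ∈ Omega F ⇑(Q4 F) := omega_of_cube e0_cube

/-- `X`, `Y`, `Z` commute with the shifted semilinear map. -/
def RelS (g : IsoGrp (Q4 F)) (σ : F ≃+* F) (P : IsoGrp (Q4 F) × IsoGrp (Q4 F) × IsoGrp (Q4 F)) : Prop :=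
  ∀ x, ap P.1 (Sg g σ x) = Sg g σ (ap P.2.1 x) ∧ ap P.2.1 (Sg g σ x) = Sg g σ (ap P.2.2 x) ∧
    ap P.2.2 (Sg g σ x) = Sg g σ (ap P.1 x)

theorem Sg_surjective (g : IsoGrp (Q4 F)) (σ : F ≃+* F) (y : IJ → F) : ∃ x, Sg g σ x = y :=
  ⟨σ.symm ∘ ap g⁻¹ y, by
    rw [Sg, show σ ∘ σ.symm ∘ ap g⁻¹ y = ap g⁻¹ y from funext fun i => σ.apply_symm_apply _, ap_ap_inv]⟩

theorem Sg_injective (g : IsoGrp (Q4 F)) (σ : F ≃+* F) : Function.Injective (Sg g σ) := fun x y h =>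
  funext fun i => σ.injective (congrFun (ap_inj g h) i)

/-- Triples commuting with `(v₁, v₂, v₃) ↦ (S v₂, S v₃, S v₁)`. -/
noncomputable def GF (g : IsoGrp (Q4 F)) (σ : F ≃+* F) :
    Subgroup (IsoGrp (Q4 F) × IsoGrp (Q4 F) × IsoGrp (Q4 F)) where
  carrier := {P | P ∈ TriK F ∧ RelS g σ P}
  one_mem' := ⟨one_mem _, fun x => by simp⟩
  mul_mem' := fun {P Q} hP hQ => ⟨mul_mem hP.1 hQ.1, fun x => by
    simp only [Prod.fst_mul, Prod.snd_mul, ap_mul]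
    rw [(hQ.2 x).1, (hP.2 _).1, (hQ.2 x).2.1, (hP.2 _).2.1, (hQ.2 x).2.2, (hP.2 _).2.2]
    exact ⟨rfl, rfl, rfl⟩⟩
  inv_mem' := fun {P} hP => ⟨inv_mem hP.1, fun x => by
    simp only [Prod.fst_inv, Prod.snd_inv]
    refine ⟨ap_inj P.1 ?_, ap_inj P.2.1 ?_, ap_inj P.2.2 ?_⟩
    · rw [ap_ap_inv, (hP.2 _).1, ap_ap_inv]
    · rw [ap_ap_inv, (hP.2 _).2.1, ap_ap_inv]
    · rw [ap_ap_inv, (hP.2 _).2.2, ap_ap_inv]⟩

theorem mem_GF {g : IsoGrp (Q4 F)} {σ : F ≃+* F} {P : IsoGrp (Q4 F) × IsoGrp (Q4 F) × IsoGrp (Q4 F)} :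
    P ∈ GF g σ ↔ P ∈ TriK F ∧ RelS g σ P := Iff.rfl

theorem diag_mem_GF {g p : IsoGrp (Q4 F)} {σ : F ≃+* F} (hp : p ∈ Au F) (ho : p ∈ Omega F ⇑(Q4 F))
    (hc : ∀ x, ap p (Sg g σ x) = Sg g σ (ap p x)) : (p, p, p) ∈ GF g σ :=
  ⟨⟨⟨ho, ho, ho⟩, hp.1⟩, fun x => ⟨hc x, hc x, hc x⟩⟩

/-- The cyclic shift of `GF g σ`. -/
noncomputable def shiftG (g : IsoGrp (Q4 F)) (σ : F ≃+* F) : MulAut (GF g σ) where
  toFun P := ⟨(P.1.2.1, P.1.2.2, P.1.1), mem_TriK_shift P.2.1,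
    fun x => ⟨(P.2.2 x).2.1, (P.2.2 x).2.2, (P.2.2 x).1⟩⟩
  invFun P := ⟨(P.1.2.2, P.1.1, P.1.2.1), mem_TriK_shift (mem_TriK_shift P.2.1),
    fun x => ⟨(P.2.2 x).2.2, (P.2.2 x).1, (P.2.2 x).2.1⟩⟩
  left_inv _ := rfl
  right_inv _ := rfl
  map_mul' _ _ := rfl

theorem shiftG_cube (g : IsoGrp (Q4 F)) (σ : F ≃+* F) : shiftG g σ ^ 3 = 1 := by
  ext P <;> rfl

/-- `conj(g) τ φ`. -/
noncomputable def triAut (g : IsoGrp (Q4 F)) (σ : F ≃+* F) : MulAut P8 :=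
  conjAut (Q4 F) (toSim _ g) * triality F * galHom 4 F σ

theorem galHom_om (σ : F ≃+* F) {q : IsoGrp (Q4 F)} (hq : q ∈ Omega F ⇑(Q4 F)) :
    ∃ q', q' ∈ Omega F ⇑(Q4 F) ∧ galHom 4 F σ (om q) = om q' ∧
      ∀ x : IJ → F, ap q' (σ ∘ x) = σ ∘ ap q x := by
  set L := FieldAut.liftAut FieldAut.omMat_injective
    ⟨_, OrthOuter.semi_keep (semisim_gal_plus (m := 4) σ)⟩ ⟨q, hq⟩ with hLdef
  refine ⟨L.1, L.2, ?_, fun x => ?_⟩
  · show semiAut (Q4 F) (semisim_gal_plus σ) (om q) = _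
    rw [om_of_mem hq, om_of_mem L.2, semiAut, FieldAut.indAut_mk]
  · have hL : ((L.1 : IsoGrp (Q4 F)) : GL IJ F) = OrthOuter.psi 1 σ ((q : IsoGrp (Q4 F)) : GL IJ F) :=
      FieldAut.mat_liftAut (mat := FieldAut.omMat ⇑(Q4 F)) FieldAut.omMat_injective _ _
    rw [ap_apply, ap_apply, hL, ← FieldAut.galGL_mulVec]
    simp [OrthOuter.psi]

theorem map_tri_S {g : IsoGrp (Q4 F)} (hg : g ∈ Au F) (σ : F ≃+* F) (x y z : IJ → F) :
    tri (Sg g σ x) (Sg g σ y) (Sg g σ z) = σ (tri x y z) := by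
  rw [Sg, Sg, Sg, hg.1]
  exact (map_tri σ.toRingHom x y z).symm

/-- The triple `S (q, r, p) S⁻¹`. -/
theorem exists_push {g : IsoGrp (Q4 F)} (hg : g ∈ Au F) (σ : F ≃+* F) {p q r : IsoGrp (Q4 F)}
    (h : (p, q, r) ∈ TriK F) : ∃ p' q' r', (p', q', r') ∈ TriK F ∧
      triAut g σ (om p) = om p' ∧ ∀ x, ap p' (Sg g σ x) = Sg g σ (ap q x) ∧
        ap q' (Sg g σ x) = Sg g σ (ap r x) ∧ ap r' (Sg g σ x) = Sg g σ (ap p x) := by
  obtain ⟨q₁, hq₁, eq, fq⟩ := galHom_om σ h.1.2.1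
  obtain ⟨r₁, hr₁, -, fr⟩ := galHom_om σ h.1.2.2
  obtain ⟨p₁, hp₁, -, fp⟩ := galHom_om σ h.1.1
  have key : ∀ {a b : IsoGrp (Q4 F)}, (∀ x : IJ → F, ap b (σ ∘ x) = σ ∘ ap a x) → ∀ x,
      ap (isoConj (Q4 F) (toSim _ g) b) (Sg g σ x) = Sg g σ (ap a x) := by
    intro a b hab x
    rw [ap_isoConj, OrthOuter.sap_toSim, ← map_inv, OrthOuter.sap_toSim, Sg, ap_inv_ap, hab]
    rfl
  refine ⟨isoConj (Q4 F) (toSim _ g) q₁, isoConj (Q4 F) (toSim _ g) r₁, isoConj (Q4 F) (toSim _ g) p₁,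
    ⟨⟨isoConj_mem_omega _ hq₁, isoConj_mem_omega _ hr₁, isoConj_mem_omega _ hp₁⟩, ?_⟩, ?_,
    fun x => ⟨key fq x, key fr x, key fp x⟩⟩
  · intro x y z
    obtain ⟨x, rfl⟩ := Sg_surjective g σ x
    obtain ⟨y, rfl⟩ := Sg_surjective g σ y
    obtain ⟨z, rfl⟩ := Sg_surjective g σ z
    show tri _ _ _ = _
    rw [key fq, key fr, key fp, map_tri_S hg, map_tri_S hg, h.2.shift]
  · rw [triAut, mul_assoc, (tau_gal σ).eq, MulAut.mul_apply, MulAut.mul_apply, triality_om h, eq,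
      conjAut_om _ hq₁]

/-- The first component. -/
noncomputable def fstG {g : IsoGrp (Q4 F)} (hg : g ∈ Au F) (σ : F ≃+* F) :
    GF g σ →* fixK (triAut g σ) :=
  MonoidHom.mk' (fun P => ⟨om P.1.1, by
      obtain ⟨p', q', r', -, e, h⟩ := exists_push hg σ (p := P.1.1) (q := P.1.2.1) (r := P.1.2.2) P.2.1
      rw [mem_fixK, e]
      refine congrArg om (ext_ap fun x => ?_)
      obtain ⟨y, rfl⟩ := Sg_surjective g σ x
      rw [(h y).1, (P.2.2 y).1]⟩)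
    fun P Q => Subtype.ext (om_mul P.2.1.1.1 Q.2.1.1.1)

theorem scalar_of_mk {a b c : IsoGrp (Q4 F)} (h : (a, b, c) ∈ TriK F) {s : F} (ha : ∀ x, ap a x = s • x) :
    ∃ t u : F, (∀ x, ap b x = t • x) ∧ (∀ x, ap c x = u • x) ∧ s * t * u = 1 ∧ s * s = 1 ∧ t * t = 1 ∧
      u * u = 1 := by
  obtain ⟨⟨t, ht⟩, u, hu⟩ := TriEq.scalar h.2 ha
  have sq : ∀ {a : IsoGrp (Q4 F)} {s : F}, (∀ x, ap a x = s • x) → s * s = 1 := by
    intro a s ha
    have h1 := Q_ap a (oOne : IJ → F)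
    rwa [ha, Q_smul, Q_oOne, mul_one] at h1
  refine ⟨t, u, ht, hu, ?_, sq ha, sq ht, sq hu⟩
  have h1 := h.2 (bv (.inl 0)) (bv (.inl 0)) (bv (.inl 0))
  rw [ha, ht, hu] at h1
  simpa [tri, Pi.single_apply, mul_assoc] using h1

theorem fstG_injective {g : IsoGrp (Q4 F)} (hg : g ∈ Au F) (σ : F ≃+* F) :
    Function.Injective (fstG hg σ) := by
  rw [injective_iff_map_eq_one]
  rintro ⟨⟨p, q, r⟩, hT, hR⟩ h
  obtain ⟨s, hs⟩ := (om_eq_one_iff hT.1.1).1 (congrArg Subtype.val h)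
  obtain ⟨t, u, ht, hu, hstu, h2, -, -⟩ := scalar_of_mk hT hs
  have hS : ∀ x, (Sg g σ x ≠ 0) → s = σ t ∧ t = σ u ∧ u = σ s := by
    intro x hx
    have h' := hR x
    simp only [hs, ht, hu, Sg_smul] at h'
    exact ⟨smul_left_injective F hx h'.1, smul_left_injective F hx h'.2.1,
      smul_left_injective F hx h'.2.2⟩
  obtain ⟨e1, e2, e3⟩ := hS oOne (by
    rw [Sg, gal_oOne, hg.2]; intro h0; simpa [oOne] using congrFun h0 (.inl 0))
  have hs1 : s = 1 ∧ t = 1 ∧ u = 1 := by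
    rcases mul_self_eq_one_iff.1 h2 with rfl | rfl
    · rw [map_one] at e3; subst e3; rw [map_one] at e2; exact ⟨rfl, e2, rfl⟩
    · rw [map_neg, map_one] at e3; subst e3; rw [map_neg, map_one] at e2; subst e2
      refine ⟨?_, ?_, ?_⟩ <;> linear_combination hstu
  obtain ⟨rfl, rfl, rfl⟩ := hs1
  refine Subtype.ext (Prod.ext ?_ (Prod.ext ?_ ?_)) <;> refine ext_ap fun x => ?_
  · simpa using hs x
  · simpa using ht x
  · simpa using hu x

theorem fstG_surjective {g : IsoGrp (Q4 F)} (hg : g ∈ Au F) (σ : F ≃+* F) :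
    Function.Surjective (fstG hg σ) := by
  rintro ⟨k, hk⟩
  obtain ⟨⟨⟨p, q, r⟩, hT⟩, rfl⟩ := fstHom_surjective k
  obtain ⟨p', q', r', hT', e, h⟩ := exists_push hg σ hT
  have hk' : om p' = om p := e ▸ hk
  obtain ⟨s, hs2, hs⟩ := (om_eq_iff base4 hT.1.1 hT'.1.1).1 hk'.symm
  set Z := (p', q', r') * (p, q, r)⁻¹ with hZ
  have hZT : Z ∈ TriK F := mul_mem hT' (inv_mem hT)
  have hs' : ∀ x, ap Z.1 x = s • x := fun x => by
    show ap (p' * p⁻¹) x = _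
    rw [ap_mul, hs, ap_ap_inv]
  obtain ⟨t, u, ht, hu, hstu, -, ht2, hu2⟩ := scalar_of_mk (a := Z.1) (b := Z.2.1) (c := Z.2.2) hZT hs'
  have hq : ∀ x, ap q' x = t • ap q x := fun x => by
    rw [← ht, ← ap_mul]
    show _ = ap (q' * q⁻¹ * q) x
    rw [inv_mul_cancel_right]
  have hr : ∀ x, ap r' x = u • ap r x := fun x => by
    rw [← hu, ← ap_mul]
    show _ = ap (r' * r⁻¹ * r) x
    rw [inv_mul_cancel_right]
  have hsig : ∀ {a : F}, a * a = 1 → σ a = a := by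
    intro a ha
    rcases mul_self_eq_one_iff.1 ha with rfl | rfl <;> simp
  have hP : (Z.2.1 * p, Z.2.2 * q, Z.1 * r) ∈ GF g σ := by
    refine ⟨mul_mem (mem_TriK_shift hZT) hT, fun x => ?_⟩
    obtain ⟨h1, h2, h3⟩ := h x
    rw [hs] at h1
    rw [hq] at h2
    rw [hr] at h3
    simp only [ap_mul, hs', ht, hu, Sg_smul, hsig hs2, hsig hu2, hsig ht2, ← h1, ← h2, ← h3, smul_smul]
    refine ⟨?_, ?_, ?_⟩ <;> congr 1
    · linear_combination (-t) * hstu + (s * u) * ht2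
    · linear_combination (-u) * hstu + (s * t) * hu2
    · linear_combination (-s) * hstu + (t * u) * hs2
  refine ⟨⟨_, hP⟩, Subtype.ext ?_⟩
  show om (Z.2.1 * p) = om p
  refine (om_eq_iff base4 (mul_mem hZT.1.2.1 hT.1.1) hT.1.1).2 ⟨t, ht2, fun x => ?_⟩
  rw [ap_mul, ht, smul_smul, ht2, one_smul]

/-- The fixed points as triples. -/
noncomputable def fixEquiv {g : IsoGrp (Q4 F)} (hg : g ∈ Au F) (σ : F ≃+* F) :
    GF g σ ≃* fixK (triAut g σ) :=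
  MulEquiv.ofBijective (fstG hg σ) ⟨fstG_injective hg σ, fstG_surjective hg σ⟩

/-- Equal components preserving `tri` fix the unit. -/
theorem au_of_triEq {p : IsoGrp (Q4 F)} (h : TriEq p p p) : p ∈ Au F := by
  refine ⟨h, ?_⟩
  set e := ap p oOne with he
  have r1 : ∀ x, oConj (omul e (ap p x)) = ap p (oConj x) := fun x => by
    rw [he, conj_prod_iso h, one_omul]
  have r2 : ∀ x, oConj (omul (ap p x) e) = ap p (oConj x) := fun x => by
    rw [he, conj_prod_iso h, omul_one]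
  have hc : ∀ z, omul e z = omul z e := fun z => by
    have := congrArg oConj ((r1 (ap p⁻¹ z)).trans (r2 (ap p⁻¹ z)).symm)
    rwa [oConj_oConj, oConj_oConj, ap_ap_inv] at this
  have c0 := fun i => congrFun (hc (bv (.inl 0))) i
  have c1 := congrFun (hc (bv (.inl 1))) (.inl 1)
  have l1 := c0 (.inl 1)
  have l2 := c0 (.inl 2)
  have l3 := c0 (.inl 3)
  have r1' := c0 (.inr 1)
  have r2' := c0 (.inr 2)
  have r3' := c0 (.inr 3)
  simp [omul, Pi.single_apply] at c1 l1 l2 l3 r1' r2' r3'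
  have hee : e = e (.inl 0) • oOne := by
    apply ext8 <;> simp [oOne] <;>
      first
        | exact l1 | exact l2 | exact l3 | exact r1' | exact r2' | exact r3'
        | exact l1.symm | exact l2.symm | exact l3.symm | exact r1'.symm | exact r2'.symm | exact r3'.symm
        | exact c1 | exact c1.symm
  have hsq : e (.inl 0) * e (.inl 0) = 1 := by
    have h1 := Q_ap p (oOne : IJ → F)
    rwa [← he, hee, Q_smul, Q_oOne, mul_one] at h1
  have h1 := r1 oOne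
  rw [← he, oConj_oOne, ← he, hee, smul_omul, one_omul, smul_smul, hsq, one_smul, oConj_oOne] at h1
  rw [hee, ← h1]

end Cfsg.Agent.LocalBalance
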