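import Cfsg.Agent.Lib.Coprime.Generation

/-!
# Generation by the fixed points of two commuting automorphisms of order three

* `mem_of_aut_pair`
-/

set_option autoImplicit false

namespace Cfsg.Agent.LocalBalance

theorem mem_of_aut_pair {N : Type*} [Group N] [Finite N] (α β : MulAut N) (hab : Commute α β)
    (ha : α ^ 3 = 1) (hb : β ^ 3 = 1) (hN : (Nat.card N).Coprime 3) (W : Subgroup N)
    (h1 : ∀ v, α v = v → v ∈ W) (h2 : ∀ v, β v = v → v ∈ W) (h3 : ∀ v, α (β v) = v → v ∈ W)
    (h4 : ∀ v, α (β (β v)) = v → v ∈ W) (v : N) : v ∈ W := by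
  classical
  let φ : MulAut N →* MulAut N := MonoidHom.id _
  let G := N ⋊[φ] MulAut N
  haveI : Finite (MulAut N) := Finite.of_injective (fun a : MulAut N => (a : N → N)) DFunLike.coe_injective
  haveI : Finite G := Finite.of_equiv (N × MulAut N)
    ⟨fun x => ⟨x.1, x.2⟩, fun x => (x.left, x.right), fun _ => rfl, fun _ => rfl⟩
  let inl : N →* G := SemidirectProduct.inl
  let inr : MulAut N →* G := SemidirectProduct.inr
  let f : Subgroup.zpowers α × Subgroup.zpowers β →* MulAut N :=
    MonoidHom.noncommCoprod (Subgroup.zpowers α).subtype (Subgroup.zpowers β).subtype fun a b => by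
      obtain ⟨i, hi⟩ := a.2
      obtain ⟨j, hj⟩ := b.2
      show Commute (a : MulAut N) (b : MulAut N)
      rw [← show α ^ i = (a : MulAut N) from hi, ← show β ^ j = (b : MulAut N) from hj]
      exact hab.zpow_zpow i j
  let A : Subgroup G := (inr.comp f).range
  haveI : IsMulCommutative A := ⟨⟨by
    rintro ⟨_, ⟨⟨a, b⟩, rfl⟩⟩ ⟨_, ⟨⟨c, d⟩, rfl⟩⟩
    refine Subtype.ext ?_
    show inr.comp f (a, b) * inr.comp f (c, d) = inr.comp f (c, d) * inr.comp f (a, b)
    rw [← map_mul, ← map_mul]
    congr 1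
    obtain ⟨i, hi⟩ := a.2
    obtain ⟨j, hj⟩ := c.2
    obtain ⟨k, hk⟩ := b.2
    obtain ⟨l, hl⟩ := d.2
    refine Prod.ext (Subtype.ext ?_) (Subtype.ext ?_)
    · show (a : MulAut N) * c = c * a
      rw [← show α ^ i = (a : MulAut N) from hi, ← show α ^ j = (c : MulAut N) from hj]
      exact ((Commute.refl α).zpow_zpow i j).eq
    · show (b : MulAut N) * d = d * b
      rw [← show β ^ k = (b : MulAut N) from hk, ← show β ^ l = (d : MulAut N) from hl]
      exact ((Commute.refl β).zpow_zpow k l).eq⟩⟩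
  have hmemα : inr α ∈ A := ⟨(⟨α, Subgroup.mem_zpowers α⟩, 1), by simp [f]⟩
  have hmemβ : inr β ∈ A := ⟨(1, ⟨β, Subgroup.mem_zpowers β⟩), by simp [f]⟩
  have hnorm : A ≤ Subgroup.normalizer (inl.range : Set G) := by
    intro a _
    rw [show (inl.range : Subgroup G) = (SemidirectProduct.rightHom : G →* MulAut N).ker from
      SemidirectProduct.range_inl_eq_ker_rightHom]
    exact Subgroup.normalizer_eq_top (H := (SemidirectProduct.rightHom : G →* MulAut N).ker) ▸
      Subgroup.mem_top a
  have hcard : (Nat.card A).Coprime (Nat.card inl.range) := by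
    rw [← Nat.card_congr (MonoidHom.ofInjective (f := inl) SemidirectProduct.inl_injective).toEquiv]
    have hA : Nat.card A ∣ 3 * 3 := by
      refine (Subgroup.card_range_dvd _).trans ?_
      rw [Nat.card_prod, Nat.card_zpowers, Nat.card_zpowers]
      exact mul_dvd_mul (orderOf_dvd_of_pow_eq_one ha) (orderOf_dvd_of_pow_eq_one hb)
    exact Nat.Coprime.coprime_dvd_left hA (Nat.Coprime.mul_left hN.symm hN.symm)
  have hpow : ∀ {γ : MulAut N}, γ ^ 3 = 1 → ∀ {n : ℕ}, n % 3 = 2 → ∀ {v : N}, (γ ^ n) v = v → γ v = v := by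
    intro γ hγ n hn v hv
    rw [pow_eq_pow_mod n hγ, hn, sq, MulAut.mul_apply] at hv
    have h := congrArg γ hv
    rw [show γ (γ (γ v)) = v from by rw [← MulAut.mul_apply, ← MulAut.mul_apply, ← sq, ← pow_succ, hγ]; rfl] at h
    exact h.symm
  have key : inl.range ≤ W.map inl := by
    refine Coprime.le_of_pair hnorm hcard Nat.prime_three hmemα hmemβ ?_ ?_ fun i j hij => ?_
    · rw [← map_pow, ha, map_one]; exact one_mem _
    · rw [← map_pow, hb, map_one]; exact one_mem _
    rintro _ ⟨⟨v, rfl⟩, hc⟩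
    refine ⟨v, ?_, rfl⟩
    have hfix : (α ^ i * β ^ j) v = v := by
      have h := Subgroup.mem_centralizer_singleton_iff.1 hc
      rw [← map_pow, ← map_pow, ← map_mul] at h
      have h' : inr (α ^ i * β ^ j) * inl v * (inr (α ^ i * β ^ j))⁻¹ = inl v := by
        rw [← h, mul_inv_cancel_right]
      have h'' : inl ((α ^ i * β ^ j) v) = inl v := by
        refine (SemidirectProduct.inl_aut _ v).trans ?_
        rw [map_inv]
        exact h'
      exact SemidirectProduct.inl_injective h''
    have hi := Nat.mod_lt i (show 0 < 3 by norm_num)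
    have hj := Nat.mod_lt j (show 0 < 3 by norm_num)
    rw [pow_eq_pow_mod i ha, pow_eq_pow_mod j hb] at hfix
    have hne : ¬ (i % 3 = 0 ∧ j % 3 = 0) := fun ⟨a, b⟩ =>
      hij ⟨Nat.dvd_of_mod_eq_zero a, Nat.dvd_of_mod_eq_zero b⟩
    have hαβ : (α * β) ^ 3 = 1 := by rw [hab.mul_pow, ha, hb, one_mul]
    have hαβ2 : (α * (β * β)) ^ 3 = 1 := by
      rw [(hab.mul_right hab).mul_pow, ha, ← sq, ← pow_mul, mul_comm, pow_mul, hb, one_pow, one_mul]
    interval_cases hi' : i % 3 <;> interval_cases hj' : j % 3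
    · exact absurd ⟨rfl, rfl⟩ hne
    · exact h2 v (by simpa using hfix)
    · exact h2 v (hpow hb (n := 2) rfl (by simpa using hfix))
    · exact h1 v (by simpa using hfix)
    · exact h3 v (by simpa using hfix)
    · exact h4 v (by simpa [sq] using hfix)
    · exact h1 v (hpow ha (n := 2) rfl (by simpa using hfix))
    · refine h4 v (hpow hαβ2 (n := 2) rfl ?_)
      rw [(hab.mul_right hab).mul_pow, ← sq, ← pow_mul, show 2 * 2 = 3 + 1 from rfl, pow_succ β 3, hb, one_mul]
      simpa using hfix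
    · refine h3 v (hpow hαβ (n := 2) rfl ?_)
      rw [hab.mul_pow]
      exact hfix
  obtain ⟨w, hw, e⟩ := key ⟨v, rfl⟩
  exact SemidirectProduct.inl_injective e ▸ hw

end Cfsg.Agent.LocalBalance
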