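import Cfsg.Agent.Lib.LocalBalance.TriFix
import Cfsg.Agent.Lib.LocalBalance.TriGen

/-!
# Subgroups of order prime to three normalised by rational automorphisms of the octonions

* `CR σ`, `CA σ` : automorphisms commuting with `σ`, and with `gA`
* `fixH_of_core` : such a subgroup of `CA σ` fixes the quaternions `H` pointwise
* `trivial_of_core` : such a subgroup of `CR σ` is trivial
-/

set_option autoImplicit false
set_option linter.unusedSectionVars false

namespace Cfsg.Agent.LocalBalance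

open Cfsg Matrix Cfsg.Agent.Orth Cfsg.Agent.AutPOmega Cfsg.Agent.Triality
open Cfsg.Agent.OrthOuter (Sim sap toSim isoConj)

variable {F : Type*} [Field F] [Fintype F]

/-- Automorphisms commuting with `σ`. -/
noncomputable def CR (σ : F ≃+* F) : Subgroup (IsoGrp (Q4 F)) where
  carrier := {p | p ∈ Au F ∧ ∀ x : IJ → F, ap p (σ ∘ x) = σ ∘ ap p x}
  one_mem' := ⟨one_mem _, fun x => by rw [ap_one, ap_one]⟩
  mul_mem' := fun {p q} hp hq => ⟨mul_mem hp.1 hq.1, fun x => by rw [ap_mul, ap_mul, hq.2, hp.2]⟩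
  inv_mem' := fun {p} hp => ⟨inv_mem hp.1, fun x => ap_inj p (by rw [ap_ap_inv, hp.2, ap_ap_inv])⟩

/-- Automorphisms commuting with `σ` and `gA`. -/
noncomputable def CA (σ : F ≃+* F) : Subgroup (IsoGrp (Q4 F)) :=
  CR σ ⊓ Subgroup.centralizer {gA F}

theorem mem_CA {σ : F ≃+* F} {p : IsoGrp (Q4 F)} : p ∈ CA σ ↔ p ∈ CR σ ∧ Commute p (gA F) := by
  rw [CA, Subgroup.mem_inf, Subgroup.mem_centralizer_singleton_iff]
  exact Iff.rfl

theorem gA_CR (σ : F ≃+* F) : gA F ∈ CR σ :=
  ⟨gA_mem, fun x => by rw [ap_gA, ap_gA]; apply ext8 <;> simp⟩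

theorem e0_CR (σ : F ≃+* F) : e0 F ∈ CR σ :=
  ⟨e0_mem, fun x => by rw [ap_e0', ap_e0']; apply ext8 <;> simp⟩

theorem Xs_CA {σ : F ≃+* F} {t : F} (ht : σ t = t) : Xs t ∈ CA σ :=
  mem_CA.2 ⟨⟨Xs_mem t, fun x => by rw [ap_Xs, ap_Xs]; apply ext8 <;> simp [ht]⟩, Xs_gA t⟩

theorem Ys_CA {σ : F ≃+* F} {t : F} (ht : σ t = t) : Ys t ∈ CA σ :=
  mem_CA.2 ⟨⟨Ys_mem t, fun x => by rw [ap_Ys, ap_Ys]; apply ext8 <;> simp [ht]⟩, Ys_gA t⟩

/-- Rational points of the line. -/
abbrev Pt (σ : F ≃+* F) : Type _ := Option {t : F // σ t = t}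

/-- The nilpotent quaternion of a point. -/
def nv {σ : F ≃+* F} : Pt σ → IJ → F
  | none => mk8 0 1 0 0 0 0 0 0
  | some t => mk8 (-t.1) (t.1 * t.1) 0 0 t.1 1 0 0

theorem nv_eq {σ : F ≃+* F} {P P' : Pt σ} {c : F} (hc : c ≠ 0) (h : nv P = c • nv P') : P = P' := by
  rcases P with _ | t <;> rcases P' with _ | t'
  · rfl
  · have := congrFun h (.inr 1); simp [nv] at this; exact absurd this.symm hc
  · have := congrFun h (.inr 1); simp [nv] at this
  · have h1 := congrFun h (.inr 1)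
    have h2 := congrFun h (.inr 0)
    simp [nv] at h1 h2
    rw [← h1, one_mul] at h2
    exact congrArg some (Subtype.ext h2)

theorem exists_pt (h3 : (3 : F) ≠ 0) {σ : F ≃+* F} {p : IsoGrp (Q4 F)} (hp : p ∈ CA σ) (P : Pt σ) :
    ∃ (P' : Pt σ) (c : F), c ≠ 0 ∧ ap p (nv P) = c • nv P' := by
  obtain ⟨⟨hA, hr⟩, hc⟩ := mem_CA.1 hp
  set v := nv P with hv
  have hH : InH v := by rcases P with _ | t <;> simp [hv, nv, InH]
  have hQ : Q4 F v = 0 := by rcases P with _ | t <;> simp [hv, nv, Q4_apply]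
  have hT : oConj v = -v := by rcases P with _ | t <;> apply ext8 <;> simp [hv, nv, oConj]
  have hσ : σ ∘ v = v := by
    rcases P with _ | t
    · apply ext8 <;> simp [hv, nv]
    · apply ext8 <;> simp [hv, nv, t.2]
  have hv0 : v ≠ 0 := by
    rcases P with _ | t
    · intro h; simpa [hv, nv] using congrFun h (.inl 1)
    · intro h; simpa [hv, nv] using congrFun h (.inr 1)
  set y := ap p v with hy
  obtain ⟨y2, y3, y6, y7⟩ := InH_of_fix h3 (x := y) (by
    rw [hy, ← ap_mul, ← hc.eq, ap_mul, ap_gA_of_InH hH])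
  have hy0 : y ≠ 0 := ap_ne_zero p hv0
  have ey : y (.inl 0) = -y (.inr 0) := by
    have h := au_conj hA v
    rw [hT, map_neg, ← hy] at h
    have := congrFun h (.inl 0)
    simp [oConj] at this
    linear_combination -this
  have hQy : y (.inl 1) * y (.inr 1) = y (.inr 0) * y (.inr 0) := by
    have h : Q4 F y = 0 := by rw [hy, Q_ap, hQ]
    rw [Q4_apply, ey, y2, y3] at h
    linear_combination h
  have hσy : ∀ i, σ (y i) = y i := fun i => congrFun (show σ ∘ y = y by rw [hy, ← hr, hσ]) i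
  by_cases h5 : y (.inr 1) = 0
  · rw [h5, mul_zero] at hQy
    have h4 : y (.inr 0) = 0 := mul_self_eq_zero.1 hQy.symm
    refine ⟨none, y (.inl 1), fun h1 => hy0 ?_, ?_⟩
    · apply ext8 <;> simp [ey, h4, h1, y2, y3, h5, y6, y7]
    · apply ext8 <;> simp [nv, ey, h4, y2, y3, h5, y6, y7]
  · refine ⟨some ⟨y (.inr 0) / y (.inr 1), by rw [map_div₀, hσy, hσy]⟩, y (.inr 1), h5, ?_⟩
    apply ext8 <;> simp [nv, ey, y2, y3, y6, y7] <;> field_simp
    linear_combination hQy

theorem ap_nv_Xs {σ : F ≃+* F} (s t : {t : F // σ t = t}) :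
    ap (Xs s.1) (nv (none : Pt σ)) = nv (none : Pt σ) ∧
      ap (Xs s.1) (nv (some t : Pt σ)) =
        nv (some ⟨t.1 + s.1, by rw [map_add, t.2, s.2]⟩ : Pt σ) := by
  constructor <;> rw [ap_Xs] <;> apply ext8 <;> simp [nv] <;> ring

theorem perm_fixed {α : Type*} [Finite α] (hα : ¬ 3 ∣ Nat.card α) (f : α → α)
    (hf : ∀ a, f (f (f a)) = a) : ∃ a, f a = a := by
  classical
  haveI := Fintype.ofFinite α
  haveI : Fact (Nat.Prime 3) := ⟨Nat.prime_three⟩
  let e : Equiv.Perm α := ⟨f, fun a => f (f a), hf, hf⟩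
  exact Equiv.Perm.exists_fixed_point_of_prime (p := 3) (n := 1) (by rwa [← Nat.card_eq_fintype_card])
    (σ := e) (Equiv.ext fun a => hf a)

theorem torC_cube : (torC : IsoGrp (Q4 F)) ^ 3 = 1 := ext_ap fun x => by
  rw [pow_succ, sq, torC, ap_mul, ap_mul, ap_one]
  simp only [ap_mul, ap_Xs, ap_Ys]
  apply ext8 <;> (simp; ring)

theorem torD_cube {ω : F} (hω : ω * ω + ω + 1 = 0) : torD ω ^ 3 = 1 := ext_ap fun x => by
  rw [pow_succ, sq, ap_mul, ap_mul, ap_one, ap_torD hω, ap_torD hω, ap_torD hω]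
  apply ext8 <;> simp <;> grind

set_option maxHeartbeats 1000000 in
/-- A subgroup of order prime to three normalised by `SL₂` fixes the quaternions. -/
theorem fixH_of_core (h3 : (3 : F) ≠ 0) (σ : F ≃+* F) (M : Subgroup (IsoGrp (Q4 F))) (hM : M ≤ CA σ)
    (hcop : (Nat.card M).Coprime 3)
    (hn : ∀ e ∈ CA σ, e ∈ Omega F ⇑(Q4 F) → ∀ m ∈ M, e * m * e⁻¹ ∈ M) :
    ∀ m ∈ M, ∀ x, InH x → ap m x = x := by
  classical
  choose π c hc hπ using fun (p : CA σ) (P : Pt σ) => exists_pt h3 p.2 P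
  have hu : ∀ (p : CA σ) (P P' : Pt σ) (d : F), d ≠ 0 → ap p.1 (nv P) = d • nv P' → π p P = P' := by
    intro p P P' d hd h
    rw [hπ p P] at h
    exact nv_eq (div_ne_zero hd (hc p P)) (by
      rw [div_eq_inv_mul, mul_smul, ← h, inv_smul_smul₀ (hc p P)])
  have hone : ∀ P, π 1 P = P := fun P => hu 1 P P 1 one_ne_zero (by simp)
  have hmul : ∀ p q P, π (p * q) P = π p (π q P) := fun p q P =>
    hu _ _ _ (c q P * c p (π q P)) (mul_ne_zero (hc _ _) (hc _ _)) (by
      rw [Subgroup.coe_mul, ap_mul, hπ q P, map_smul, hπ p, smul_smul])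
  haveI : Finite (Pt σ) := inferInstance
  letI : MulAction M (Pt σ) :=
    { smul := fun m P => π ⟨m.1, hM m.2⟩ P
      one_smul := fun P => hone P
      mul_smul := fun m m' P => hmul ⟨m.1, hM m.2⟩ ⟨m'.1, hM m'.2⟩ P }
  have hdiv : ∀ {n : ℕ}, n ∣ Nat.card M → ¬ 3 ∣ n := fun hn' h =>
    (by norm_num : (3 : ℕ) ≠ 1) (Nat.eq_one_of_dvd_coprimes hcop (h.trans hn') dvd_rfl)
  -- the normalising elements
  let X : {t : F // σ t = t} → CA σ := fun t => ⟨Xs t.1, Xs_CA t.2⟩
  let Y : {t : F // σ t = t} → CA σ := fun t => ⟨Ys t.1, Ys_CA t.2⟩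
  let z : {t : F // σ t = t} := ⟨0, map_zero σ⟩
  let o : {t : F // σ t = t} := ⟨1, map_one σ⟩
  have hXi : ∀ s, π (X s) none = none ∧ ∀ t, π (X s) (some t) =
      some ⟨t.1 + s.1, by rw [map_add, t.2, s.2]⟩ := fun s =>
    ⟨hu _ _ _ 1 one_ne_zero (by rw [one_smul]; exact (ap_nv_Xs s z).1),
      fun t => hu _ _ _ 1 one_ne_zero (by rw [one_smul]; exact (ap_nv_Xs s t).2)⟩
  have hconj : ∀ (e : CA σ), e.1 ∈ Omega F ⇑(Q4 F) → ∀ m : M, ∃ m' : M, ∀ P, m' • P = π e (m • π e⁻¹ P) := by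
    intro e he m
    refine ⟨⟨e.1 * m.1 * e.1⁻¹, hn e.1 e.2 he m.1 m.2⟩, fun P => ?_⟩
    show π _ P = π e (π _ (π e⁻¹ P))
    rw [← hmul, ← hmul]
    congr 1
  by_cases hfix : ∀ m : M, m • (none : Pt σ) = none
  · have hall : ∀ (e : CA σ), e.1 ∈ Omega F ⇑(Q4 F) → ∀ m : M, m • π e none = π e none := by
      intro e he m
      obtain ⟨m', hm'⟩ := hconj e⁻¹ (inv_mem he) m
      have h := hm' none
      rw [hfix m', inv_inv] at h
      have h' := congrArg (π e) h
      rw [← hmul, mul_inv_cancel, hone] at h'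
      exact h'.symm
    let wE : CA σ := ⟨wS, mul_mem (mul_mem (Xs_CA (map_one σ)) (Ys_CA (by simp))) (Xs_CA (map_one σ))⟩
    have w1 : π wE none = some z := hu _ _ _ 1 one_ne_zero (by
      show ap wS _ = _
      rw [ap_wS]; apply ext8 <;> simp [nv, z])
    have y1 : π (Y o) none = some o := hu _ _ _ 1 one_ne_zero (by
      show ap (Ys 1) _ = _
      rw [ap_Ys]; apply ext8 <;> simp [nv, o])
    intro m hm
    have fz : (⟨m, hm⟩ : M) • (some z : Pt σ) = some z :=
      w1 ▸ hall wE (mul_mem (mul_mem (Xs_omega _) (Ys_omega _)) (Xs_omega _)) _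
    have fo : (⟨m, hm⟩ : M) • (some o : Pt σ) = some o := y1 ▸ hall (Y o) (Ys_omega _) _
    have fn := hfix ⟨m, hm⟩
    set p : CA σ := ⟨m, hM hm⟩
    have hA := (mem_CA.1 p.2).1.1
    have e1 := hπ p none
    have e2 := hπ p (some z)
    have e3 := hπ p (some o)
    rw [show π p none = none from fn] at e1
    rw [show π p (some z) = some z from fz] at e2
    rw [show π p (some o) = some o from fo] at e3
    set α := c p none
    set β := c p (some z)
    set γ := c p (some o)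
    have hz : nv (some z : Pt σ) = bv (.inr 1) := by apply ext8 <;> simp [nv, z, Pi.single_apply]
    have hn1 : nv (none : Pt σ) = bv (.inl 1) := by apply ext8 <;> simp [nv, Pi.single_apply]
    have ho : nv (some o : Pt σ) = bv (.inl 1) + bv (.inr 1) + bv (.inr 0) - bv (.inl 0) := by
      apply ext8 <;> simp [nv, o, Pi.single_apply]
    rw [hn1] at e1
    rw [hz] at e2
    have hlr : omul (bv (.inl 1)) (bv (.inr 1)) = -(bv (.inl 0) : IJ → F) := by
      apply ext8 <;> simp [omul, Pi.single_apply]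
    have e0' : ap p.1 (bv (.inl 0)) = (α * β) • bv (.inl 0) := by
      have h := au_omul hA (bv (.inl 1)) (bv (.inr 1))
      rw [hlr, map_neg, e1, e2, smul_omul, omul_smul, hlr, smul_smul, smul_neg, neg_inj] at h
      exact h
    have hid : omul (bv (.inl 0)) (bv (.inl 0)) = (bv (.inl 0) : IJ → F) := by
      apply ext8 <;> simp [omul, Pi.single_apply]
    have hαβ : α * β = 1 := by
      have h := au_omul hA (bv (.inl 0)) (bv (.inl 0))
      rw [hid, e0', smul_omul, omul_smul, hid, smul_smul] at h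
      have h' := congrFun h (.inl 0)
      simp at h'
      exact (mul_eq_left₀ (mul_ne_zero (hc _ _) (hc _ _))).1 h'.symm
    rw [hαβ, one_smul] at e0'
    have er : ap p.1 (bv (.inr 0)) = bv (.inr 0) := by
      have : (bv (.inr 0) : IJ → F) = oOne - bv (.inl 0) := by
        apply ext8 <;> simp [oOne, Pi.single_apply]
      rw [this, map_sub, hA.2, e0']
    rw [ho, map_sub, map_add, map_add, e1, e2, er, e0'] at e3
    have k0 := congrFun e3 (.inr 0)
    have k1 := congrFun e3 (.inl 1)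
    have k5 := congrFun e3 (.inr 1)
    simp [Pi.single_apply] at k0 k1 k5
    rw [← k0] at k1 k5
    rw [k1, one_smul] at e1
    rw [k5, one_smul] at e2
    intro x hx
    obtain ⟨x2, x3, x6, x7⟩ := hx
    have hx' : x = x (.inl 0) • bv (.inl 0) + x (.inl 1) • bv (.inl 1) + x (.inr 0) • bv (.inr 0)
        + x (.inr 1) • bv (.inr 1) := by
      apply ext8 <;> simp [Pi.single_apply, x2, x3, x6, x7]
    rw [hx']
    change ap m _ = _ at e0' e1 e2 er
    simp only [map_add, map_smul, e0', e1, e2, er]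
  exfalso
  push_neg at hfix
  obtain ⟨m₀, hm₀⟩ := hfix
  -- transitivity
  obtain ⟨a, ha⟩ : ∃ a, m₀ • (none : Pt σ) = some a := Option.ne_none_iff_exists'.1 hm₀
  have horb : ∀ t, ∃ m : M, m • (none : Pt σ) = some t := by
    intro t
    let s : {t : F // σ t = t} := ⟨t.1 - a.1, by rw [map_sub, t.2, a.2]⟩
    obtain ⟨m', hm'⟩ := hconj (X s) (Xs_omega _) m₀
    refine ⟨m', ?_⟩
    have hinv : π (X s)⁻¹ none = none := by
      have h := congrArg (π (X s)⁻¹) (hXi s).1
      rwa [← hmul, inv_mul_cancel, hone, eq_comm] at h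
    rw [hm', hinv, ha, (hXi s).2]
    exact congrArg some (Subtype.ext (add_sub_cancel _ _))
  have hpre : MulAction.IsPretransitive M (Pt σ) := by
    refine ⟨fun P P' => ?_⟩
    have : ∀ P : Pt σ, ∃ m : M, m • (none : Pt σ) = P := fun P => by
      rcases P with _ | t
      · exact ⟨1, one_smul _ _⟩
      · exact horb t
    obtain ⟨m, hm⟩ := this P
    obtain ⟨m', hm'⟩ := this P'
    exact ⟨m' * m⁻¹, by rw [mul_smul, ← hm, inv_smul_smul, hm']⟩
  have hcardP : ¬ 3 ∣ Nat.card (Pt σ) := hdiv (by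
    rw [← MulAction.index_stabilizer_of_transitive M (none : Pt σ)]
    exact Subgroup.index_dvd_card _)
  by_cases hω : ∃ ω : F, σ ω = ω ∧ ω * ω + ω + 1 = 0
  · obtain ⟨ω, hωσ, hω⟩ := hω
    have hs : ∀ t : F, t = 1 ∨ t = ω ∨ t = -1 → σ t = t := fun t h => by
      rcases h with rfl | rfl | rfl
      · exact map_one σ
      · exact hωσ
      · rw [map_neg, map_one]
    let D : CA σ := ⟨torD ω, mul_mem (mul_mem (mul_mem (Xs_CA (hs _ (.inr (.inr rfl))))
      (Ys_CA (by rw [map_sub, map_one, hωσ]))) (Xs_CA (by rw [map_mul, hωσ])))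
      (Ys_CA (by rw [map_sub, map_mul, hωσ]))⟩
    have hDo : D.1 ∈ Omega F ⇑(Q4 F) :=
      mul_mem (mul_mem (mul_mem (Xs_omega _) (Ys_omega _)) (Xs_omega _)) (Ys_omega _)
    have hω0 : ω ≠ 0 := fun h => by simp [h] at hω
    have d0 : π D (some z) = some z := hu _ _ _ ω hω0 (by
      show ap (torD ω) _ = _
      rw [ap_torD hω]; apply ext8 <;> simp [nv, z])
    have d1 : π D none = none := hu _ _ _ (ω * ω) (mul_ne_zero hω0 hω0) (by
      show ap (torD ω) _ = _
      rw [ap_torD hω]; apply ext8 <;> simp [nv])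
    obtain ⟨n₀, hn₀⟩ := horb z
    let S := {m : M // m • (none : Pt σ) = some z}
    have hS : ¬ 3 ∣ Nat.card S := hdiv (by
      have e : S ≃ MulAction.stabilizer M (none : Pt σ) :=
        { toFun := fun m => ⟨n₀⁻¹ * m.1, by
            rw [MulAction.mem_stabilizer_iff, mul_smul, m.2, ← hn₀, inv_smul_smul]⟩
          invFun := fun k => ⟨n₀ * k.1, by rw [mul_smul, k.2, hn₀]⟩
          left_inv := fun m => Subtype.ext (mul_inv_cancel_left _ _)
          right_inv := fun k => Subtype.ext (inv_mul_cancel_left _ _) }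
      rw [Nat.card_congr e]
      exact Subgroup.card_subgroup_dvd_card _)
    have hd' : π D⁻¹ none = none := by
      have h := congrArg (π D⁻¹) d1
      rwa [← hmul, inv_mul_cancel, hone, eq_comm] at h
    let f : S → S := fun m => ⟨⟨D.1 * m.1.1 * D.1⁻¹, hn D.1 D.2 hDo _ m.1.2⟩, by
      show π _ none = some z
      rw [show (⟨D.1 * m.1.1 * D.1⁻¹, hM (hn D.1 D.2 hDo _ m.1.2)⟩ : CA σ) =
        D * ⟨m.1.1, hM m.1.2⟩ * D⁻¹ from Subtype.ext rfl, hmul, hmul, hd',
        show π ⟨m.1.1, hM m.1.2⟩ none = some z from m.2, d0]⟩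
    obtain ⟨⟨⟨m, hm⟩, hmS⟩, hfx⟩ := perm_fixed hS f (fun m => by
      apply Subtype.ext; apply Subtype.ext
      show torD ω * (torD ω * (torD ω * m.1.1 * (torD ω)⁻¹) * (torD ω)⁻¹) * (torD ω)⁻¹ = m.1.1
      calc _ = torD ω * torD ω * torD ω * m.1.1 * (torD ω * torD ω * torD ω)⁻¹ := by group
        _ = _ := by rw [← sq, ← pow_succ, torD_cube hω, one_mul, inv_one, mul_one])
    have hcm : torD ω * m = m * torD ω :=
      mul_inv_eq_iff_eq_mul.1 (congrArg (fun m : S => m.1.1) hfx)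
    have e := hπ ⟨m, hM hm⟩ none
    rw [show π ⟨m, hM hm⟩ none = some z from hmS] at e
    have hcc := hc ⟨m, hM hm⟩ none
    generalize c ⟨m, hM hm⟩ none = cc at e hcc
    change ap m _ = _ at e
    have key := congrArg (fun g => ap g (nv (none : Pt σ))) hcm
    simp only [ap_mul] at key
    rw [e, map_smul, show ap (torD ω) (nv (none : Pt σ)) = (ω * ω) • nv (none : Pt σ) by
      rw [ap_torD hω]; apply ext8 <;> simp [nv], map_smul, e, smul_smul] at key
    have k := congrFun key (.inr 1)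
    simp [ap_torD hω, nv] at k
    have : ω * ω = ω := mul_left_cancel₀ hcc (by linear_combination -k)
    exact h3 (by
      have hω1 : ω = 1 := (mul_eq_left₀ hω0).1 this
      rw [hω1] at hω; linear_combination hω)
  · push_neg at hω
    let C : CA σ := ⟨torC, mul_mem (Xs_CA (map_one σ)) (Ys_CA (by rw [map_neg]; exact congrArg Neg.neg (by exact_mod_cast map_natCast σ 3)))⟩
    obtain ⟨P, hP⟩ := perm_fixed hcardP (π C) (fun P => by
      rw [← hmul, ← hmul, show C * C * C = 1 from Subtype.ext (by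
        show torC * torC * torC = (1 : IsoGrp (Q4 F))
        rw [← sq, ← pow_succ, torC_cube]), hone])
    have e := hπ C P
    rw [hP] at e
    generalize c C P = cc at e
    change ap (torC : IsoGrp (Q4 F)) _ = _ at e
    rw [torC, ap_mul, ap_Ys, ap_Xs] at e
    rcases P with _ | ⟨t, ht⟩
    · have := congrFun e (.inr 1)
      simp [nv] at this
      exact h3 this
    · have h5 := congrFun e (.inr 1)
      have h4 := congrFun e (.inr 0)
      simp [nv] at h5 h4
      subst h5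
      have h6 : (3 * t - 1) * (3 * t * t - 3 * t + 1) = 0 := by linear_combination -h4
      rcases mul_eq_zero.1 h6 with h6 | h6
      · have ht' : 3 * t = 1 := sub_eq_zero.1 h6
        have h7 := congrFun e (.inl 1)
        simp [nv] at h7
        exact h3 (by grind)
      · refine hω (3 * t - 2) ?_ ?_
        · have h3' : σ (3 : F) = 3 := by exact_mod_cast map_natCast σ 3
          have h2' : σ (2 : F) = 2 := by exact_mod_cast map_natCast σ 2
          rw [map_sub, map_mul, ht, h3', h2']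
        · linear_combination 3 * h6

end Cfsg.Agent.LocalBalance
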