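import Cfsg.Agent.Lib.LocalBalance.TriAut

/-!
# Idempotents of twisted composition algebras

* `exists_sc_idem` : a symmetric composition algebra in characteristic not three has an idempotent line
* `GoodT a b c σ u1 u2 u3` : an idempotent triple of `v ↦ (a σ v₂, b σ v₃, c σ v₁)`
* `exists_goodT` : existence, when the cube of this map is a scalar
-/

set_option autoImplicit false
set_option linter.unusedSectionVars false

namespace Cfsg.Agent.LocalBalance

open Cfsg Matrix Cfsg.Agent.Orth Cfsg.Agent.Triality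
open Cfsg.Agent.OrthOuter (Sim sap toSim)
open QuadraticMap (polar)

variable {F : Type*} [Field F] [Fintype F]

/-- An idempotent triple. -/
structure GoodT (a b c : Sim (Q4 F)) (σ : F ≃+* F) (u1 u2 u3 : IJ → F) : Prop where
  n1 : Q4 F u1 ≠ 0
  n2 : Q4 F u2 ≠ 0
  n3 : Q4 F u3 ≠ 0
  sq : ∃ k : F, oConj (omul u2 u3) = k • u1
  l1 : ∃ k : F, sap a (σ ∘ u2) = k • u1
  l2 : ∃ k : F, sap b (σ ∘ u3) = k • u2
  l3 : ∃ k : F, sap c (σ ∘ u1) = k • u3

theorem pl_add4 (x y z w : IJ → F) : polar ⇑(Q4 F) (x + y) (z + w) =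
    polar ⇑(Q4 F) x z + polar ⇑(Q4 F) x w + (polar ⇑(Q4 F) y z + polar ⇑(Q4 F) y w) := by
  rw [pl_add_left, pl_add_right, pl_add_right]

theorem exists_sc_idem (h3 : (3 : F) ≠ 0) (m : (IJ → F) →ₗ[F] (IJ → F) →ₗ[F] (IJ → F)) {C : F}
    (hC : C ≠ 0) (hl : ∀ x y, m (m x y) x = (C * Q4 F x) • y)
    (hr : ∀ x y, m x (m y x) = (C * Q4 F x) • y) :
    ∃ e, Q4 F e ≠ 0 ∧ ∃ k : F, m e e = k • e := by
  classical
  set B : (IJ → F) → (IJ → F) → F := fun x y => C * polar ⇑(Q4 F) x y with hB
  have lin1 : ∀ x y z, m (m x y) z + m (m z y) x = B x z • y := by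
    intro x y z
    have h := hl (x + z) y
    simp only [map_add, LinearMap.add_apply, hl, Q_add] at h
    simp only [hB]
    linear_combination (norm := module) h
  have lin2 : ∀ x y z, m x (m y z) + m z (m y x) = B x z • y := by
    intro x y z
    have h := hr (x + z) y
    simp only [map_add, LinearMap.add_apply, hr, Q_add] at h
    simp only [hB]
    linear_combination (norm := module) h
  -- a nonzero zero of the cubic form
  let bb : Fin 8 ≃ IJ := (finSumFinEquiv (m := 4) (n := 4)).symm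
  obtain ⟨c, hc0, hc⟩ := exists_zero_form (k := F) (F := F) (n := 8) (d := 3) (by norm_num) (by norm_num)
    (fun s : Fin 8 × Fin 8 × Fin 8 => B (bv (bb s.1)) (m (bv (bb s.2.1)) (bv (bb s.2.2))))
    (fun s => ![s.1, s.2.1, s.2.2]) (fun c => ⟨_, rfl⟩)
  set x := ∑ i, c i • (bv (bb i) : IJ → F) with hx
  have hxi : ∀ i, x (bb i) = c i := fun i => by
    simp [hx, Finset.sum_apply, Pi.single_apply, bb.injective.eq_iff]
  have hx0 : x ≠ 0 := fun h => hc0 (funext fun i => by rw [← hxi, h]; rfl)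
  have hf : B x (m x x) = 0 := by
    refine Eq.trans ?_ hc
    have hs : ∀ (n : ℕ) (w : Fin n → IJ → F) (d : Fin n → F) (v : IJ → F),
        polar ⇑(Q4 F) v (∑ i, d i • w i) = ∑ i, d i * polar ⇑(Q4 F) v (w i) := by
      intro n w d v
      show QuadraticMap.polarBilin (Q4 F) v _ = _
      rw [map_sum]
      exact Finset.sum_congr rfl fun i _ => map_smul _ _ _
    have hs' : ∀ (n : ℕ) (w : Fin n → IJ → F) (d : Fin n → F) (v : IJ → F),
        polar ⇑(Q4 F) (∑ i, d i • w i) v = ∑ i, d i * polar ⇑(Q4 F) (w i) v := by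
      intro n w d v
      rw [pl_comm, hs]
      exact Finset.sum_congr rfl fun i _ => by rw [pl_comm]
    have hm : m x x = ∑ i, c i • ∑ j, c j • m (bv (bb i)) (bv (bb j)) := by
      rw [hx]
      simp only [map_sum, map_smul, LinearMap.sum_apply, LinearMap.smul_apply, Finset.smul_sum, smul_smul]
      rw [Finset.sum_comm]
      exact Finset.sum_congr rfl fun i _ => Finset.sum_congr rfl fun j _ => by rw [mul_comm]
    simp only [hB, Fintype.sum_prod_type, Fin.prod_univ_three, Algebra.algebraMap_self, RingHom.id_apply]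
    rw [hm, hx, hs', Finset.mul_sum]
    refine Finset.sum_congr rfl fun i _ => ?_
    rw [hs, Finset.mul_sum, Finset.mul_sum]
    refine Finset.sum_congr rfl fun j _ => ?_
    rw [hs, Finset.mul_sum, Finset.mul_sum, Finset.mul_sum]
    refine Finset.sum_congr rfl fun l _ => ?_
    simp
    ring
  set w := m x x with hw
  have hwx : m w x = (C * Q4 F x) • x := hl x x
  have hxw : m x w = (C * Q4 F x) • x := hr x x
  have hww : m w w = -(C * Q4 F x) • w := by
    have h := lin2 x x w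
    rw [← hw, hxw, map_smul, hf, zero_smul, ← hw] at h
    linear_combination (norm := module) h
  by_cases hn : Q4 F x = 0
  swap
  · refine ⟨w, fun h0 => ?_, _, hww⟩
    have h := hl w x
    rw [hwx, map_smul, LinearMap.smul_apply, hxw, smul_smul, h0, mul_zero, zero_smul] at h
    exact smul_ne_zero (mul_ne_zero (mul_ne_zero hC hn) (mul_ne_zero hC hn)) hx0 h
  -- a square-zero element
  obtain ⟨y, hy0, hy⟩ : ∃ y, y ≠ 0 ∧ m y y = 0 := by
    by_cases h0 : w = 0
    · exact ⟨x, hx0, h0⟩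
    · exact ⟨w, h0, by rw [hww, hn, mul_zero, neg_zero, zero_smul]⟩
  have hQy : C * Q4 F y = 0 := by
    have h := hl y y
    rw [hy, map_zero, LinearMap.zero_apply] at h
    exact (smul_eq_zero.1 h.symm).resolve_right hy0
  obtain ⟨z, hz⟩ : ∃ z, B y z = 1 := by
    obtain ⟨z, hz⟩ : ∃ z, polar ⇑(Q4 F) y z ≠ 0 := by
      by_contra h
      push_neg at h
      exact hy0 (eq_of_polar fun z => by rw [h z, pl_zero_left])
    exact ⟨(C * polar ⇑(Q4 F) y z)⁻¹ • z, by
      simp only [hB, pl_smul_right]; field_simp⟩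
  set p := m y z with hp
  set q := m z y with hq
  have hpy : m p y = 0 := by rw [hp, hl, hQy, zero_smul]
  have hyq : m y q = 0 := by rw [hq, hr, hQy, zero_smul]
  have hqy : m q y = y := by
    have h := lin1 y y z
    rwa [hy, map_zero, LinearMap.zero_apply, zero_add, hz, one_smul, ← hq] at h
  have hyp : m y p = y := by
    have h := lin2 y y z
    rwa [hy, map_zero, add_zero, hz, one_smul, ← hp] at h
  have hByp : B y p = 0 := by
    have h := lin1 y y p
    rw [hy, map_zero, LinearMap.zero_apply, zero_add, hpy, map_zero, LinearMap.zero_apply] at h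
    simpa [hy0] using h.symm
  have hByq : B y q = 0 := by
    have h := lin2 y y q
    rw [hy, map_zero, add_zero, hyq, map_zero] at h
    exact (smul_eq_zero.1 h.symm).resolve_right hy0
  set t := m z z with ht
  set β := B t y with hβ
  have hty : m (m t y) y = β • y := by
    have h := lin1 t y y
    rwa [hy, map_zero, LinearMap.zero_apply, add_zero, ← hβ] at h
  have hpz : m p z = z - m t y := by
    have h := lin1 y z z
    rw [hz, one_smul, ← hp, ← ht] at h
    exact eq_sub_of_add_eq h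
  have hpp : m p p = β • y - q := by
    have h := lin1 y z p
    rw [hByp, zero_smul, hpz, map_sub, LinearMap.sub_apply, ← hp, hty, ← hq] at h
    linear_combination (norm := module) h
  have hzq : m z q = z - m y t := by
    have h := lin2 y z z
    rw [hz, one_smul, ← ht, ← hq] at h
    linear_combination (norm := module) h
  have hqq : m q q = β • y - p := by
    have h := lin2 q z y
    rw [hzq, map_sub, ← hp] at h
    have h' := lin2 y y t
    rw [hy, map_zero, add_zero] at h'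
    rw [h', show B q y = 0 from by simp only [hB] at hByq ⊢; rw [pl_comm, hByq], zero_smul,
      show B y t = β by simp only [hβ, hB]; rw [pl_comm], ← hq] at h
    linear_combination (norm := module) h
  have hqz : m q z = (C * Q4 F z) • y := by rw [hq, hl]
  have hpq : m p q = 0 := by
    have h := lin1 y z q
    rw [hByq, zero_smul, hqz, map_smul, LinearMap.smul_apply, hy, smul_zero, add_zero, ← hp] at h
    exact h
  have hqp : m q p = B q z • y := by
    have h := lin2 q y z
    rwa [hyq, map_zero, add_zero, ← hp] at h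
  set γ := (2 * β + B q z) * (3 : F)⁻¹ with hγ
  have h3γ : 2 * β + B q z = 3 * γ := by rw [hγ]; field_simp
  set e := γ • y - (p + q) with he
  have hee : m e e = e := by
    have h : m e e = (2 * β + B q z - 2 * γ) • y - (p + q) := by
      simp only [he, map_sub, map_add, map_smul, LinearMap.sub_apply, LinearMap.add_apply,
        LinearMap.smul_apply, hy, hpy, hyq, hqy, hyp, hpp, hqq, hpq, hqp]
      module
    rw [h, show 2 * β + B q z - 2 * γ = γ by linear_combination h3γ, he]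
  refine ⟨e, fun h0 => ?_, 1, by rw [one_smul]; exact hee⟩
  have h := hl e e
  rw [hee, hee, h0, mul_zero, zero_smul] at h
  have h' : m e y = 0 := by rw [h, map_zero, LinearMap.zero_apply]
  simp only [he, map_sub, map_add, map_smul, LinearMap.sub_apply, LinearMap.add_apply,
    LinearMap.smul_apply, hy, hpy, hqy, smul_zero, zero_add, zero_sub, neg_eq_zero] at h'
  exact hy0 h'

/-! ### triples -/

theorem triSim_rule {a b c : Sim (Q4 F)} (h : TriSim a b c) :
    ∃ k : F, k ≠ 0 ∧ ∀ x y, oConj (omul (sap a x) (sap b y)) = k • sap c (oConj (omul x y)) :=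
  h.elim fun lam h => ⟨lam / mu c, div_ne_zero h.1 (mu_ne c), conj_prod h.2⟩

theorem sap_ne (a : Sim (Q4 F)) {x : IJ → F} (hx : Q4 F x ≠ 0) : Q4 F (sap a x) ≠ 0 := by
  rw [OrthOuter.Q_sap exists_Q4_ne]
  exact mul_ne_zero (mu_ne a) hx

theorem gal_sum {n : ℕ} (σ : F ≃+* F) (c : Fin n → F) (v : Fin n → IJ → F)
    (hc : ∀ i, σ (c i) = c i) : σ ∘ (∑ i, c i • v i) = ∑ i, c i • (σ ∘ v i) := by
  funext j
  simp [Finset.sum_apply, map_sum, hc]

theorem tri_sum {n : ℕ} (c : Fin n → F) (u v w : Fin n → IJ → F) :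
    tri (∑ i, c i • u i) (∑ i, c i • v i) (∑ i, c i • w i) =
      ∑ s : Fin n × Fin n × Fin n, c s.1 * c s.2.1 * c s.2.2 * tri (u s.1) (v s.2.1) (w s.2.2) := by
  have h1 : ∀ (x y : IJ → F) (d : Fin n → F) (f : Fin n → IJ → F),
      tri x y (∑ i, d i • f i) = ∑ i, d i * tri x y (f i) := by
    intro x y d f
    rw [tri_eq_polar]
    show QuadraticMap.polarBilin (Q4 F) _ _ = _
    rw [map_sum]
    exact Finset.sum_congr rfl fun i _ => by rw [map_smul, tri_eq_polar]; rfl
  have h2 : ∀ (x z : IJ → F) (d : Fin n → F) (f : Fin n → IJ → F),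
      tri x (∑ i, d i • f i) z = ∑ i, d i * tri x (f i) z := by
    intro x z d f
    rw [tri_cyclic z x (∑ i, d i • f i), h1]
    exact Finset.sum_congr rfl fun i _ => by rw [tri_cyclic z x (f i)]
  have h3 : ∀ (y z : IJ → F) (d : Fin n → F) (f : Fin n → IJ → F),
      tri (∑ i, d i • f i) y z = ∑ i, d i * tri (f i) y z := by
    intro y z d f
    rw [← tri_cyclic (∑ i, d i • f i) y z, h1]
    exact Finset.sum_congr rfl fun i _ => by rw [tri_cyclic (f i) y z]
  simp only [Fintype.sum_prod_type]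
  rw [h3]
  refine Finset.sum_congr rfl fun i _ => ?_
  rw [h2, Finset.mul_sum]
  refine Finset.sum_congr rfl fun j _ => ?_
  rw [h1, Finset.mul_sum, Finset.mul_sum]
  exact Finset.sum_congr rfl fun l _ => by ring

theorem exists_aniso_plane : ∃ δ : F, ∀ u w : F, u * u + u * w + δ * (w * w) = 0 → u = 0 ∧ w = 0 := by
  have hns : ¬ Function.Surjective (fun t : F => t * t + t) := fun h => by
    have h1 := (Finite.injective_iff_surjective.2 h) (a₁ := 0) (a₂ := -1) (by ring)
    simp at h1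
  simp only [Function.Surjective, not_forall, not_exists] at hns
  obtain ⟨d, hd⟩ := hns
  refine ⟨-d, fun u w h => ?_⟩
  by_cases hw : w = 0
  · subst hw
    simp at h
    exact ⟨h, rfl⟩
  · refine absurd ?_ (hd (u / w))
    field_simp
    linear_combination h

theorem exists_goodT (h3 : (3 : F) ≠ 0) {a b c : Sim (Q4 F)} {σ : F ≃+* F} (hT : TriSim a b c)
    (hσ3 : ∀ t, σ (σ (σ t)) = t) {s : F} (hs : s ≠ 0)
    (hcube : ∀ x, sap a (σ ∘ sap b (σ ∘ sap c (σ ∘ x))) = s • x) :
    ∃ u1 u2 u3, GoodT a b c σ u1 u2 u3 := by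
  classical
  obtain ⟨lam, hlam, hlam'⟩ := id hT
  by_cases hσ : σ = 1
  · subst hσ
    have hid : ∀ v : IJ → F, (⇑(1 : F ≃+* F)) ∘ v = v := fun v => rfl
    simp only [hid] at hcube
    let m : (IJ → F) →ₗ[F] (IJ → F) →ₗ[F] (IJ → F) :=
      LinearMap.mk₂ F (fun x y => oConj (omul (sap a⁻¹ x) (sap c y)))
        (fun x x' y => by rw [map_add, add_omul, oConj_add])
        (fun k x y => by rw [map_smul, smul_omul, oConj_smul])
        (fun x y y' => by rw [map_add, omul_add, oConj_add])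
        (fun k x y => by rw [map_smul, omul_smul, oConj_smul])
    obtain ⟨k1, hk1, h1⟩ := triSim_rule hT.shift
    obtain ⟨k3, hk3, h2⟩ := triSim_rule hT
    have hbc : ∀ x, sap b (sap c x) = s • sap a⁻¹ x := fun x => by
      conv_lhs => rw [← OrthOuter.sap_inv_sap a (sap b (sap c x)), hcube x, map_smul]
    have hl : ∀ x y, m (m x y) x = ((s⁻¹ * k1) * mu c * Q4 F x) • y := by
      intro x y
      have e : sap a⁻¹ (m x y) = (s⁻¹ * k1) • oConj (omul (sap c x) y) := by
        have h := h1 (sap c x) y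
        rw [hbc, smul_omul, oConj_smul] at h
        have h' := congrArg (sap a⁻¹) h
        rw [map_smul, map_smul, OrthOuter.sap_inv_sap] at h'
        show sap a⁻¹ (oConj (omul (sap a⁻¹ x) (sap c y))) = _
        rw [mul_smul, ← h', inv_smul_smul₀ hs]
      show oConj (omul (sap a⁻¹ (m x y)) (sap c x)) = _
      rw [e, smul_omul, oConj_smul, conj_omul, oConj_oConj, cancel_left, smul_smul,
        OrthOuter.Q_sap exists_Q4_ne]
      congr 1
      simp only [mu]
      ring
    have hr : ∀ x y, m x (m y x) = (s * k3⁻¹ * mu a⁻¹ * Q4 F x) • y := by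
      intro x y
      have e : sap c (m y x) = (s * k3⁻¹) • oConj (omul y (sap a⁻¹ x)) := by
        have h := h2 (sap a⁻¹ y) (sap c x)
        rw [OrthOuter.sap_sap_inv, hbc, omul_smul, oConj_smul] at h
        show sap c (oConj (omul (sap a⁻¹ y) (sap c x))) = _
        rw [mul_comm s, mul_smul, h, inv_smul_smul₀ hk3]
      show oConj (omul (sap a⁻¹ x) (sap c (m y x))) = _
      rw [e, omul_smul, oConj_smul, conj_omul, oConj_oConj, cancel_right, smul_smul,
        OrthOuter.Q_sap exists_Q4_ne]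
      congr 1
      simp only [mu]
      ring
    have hC : (s⁻¹ * k1) * mu c = s * k3⁻¹ * mu a⁻¹ := by
      obtain ⟨v, hv⟩ : ∃ v : IJ → F, Q4 F v ≠ 0 := exists_Q4_ne
      have h := hr v (m v v)
      rw [hl v v, map_smul] at h
      have h' := congrArg (fun w => m w v) h
      simp only [map_smul, LinearMap.smul_apply, hl, smul_smul] at h'
      have hm : m v v ≠ 0 := fun h0 => by
        have h4 := hl v v
        rw [h0, map_zero, LinearMap.zero_apply] at h4
        exact smul_ne_zero (mul_ne_zero (mul_ne_zero (mul_ne_zero (inv_ne_zero hs) hk1) (mu_ne c)) hv)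
          (fun hv0 => hv (by rw [hv0]; exact map_zero (Q4 F))) h4.symm
      have h5 := smul_left_injective F hm (h.trans rfl)
      exact mul_right_cancel₀ hv h5
    obtain ⟨z, hz, k, hk⟩ := exists_sc_idem h3 m
      (mul_ne_zero (mul_ne_zero (inv_ne_zero hs) hk1) (mu_ne c)) hl (by rw [hC]; exact hr)
    refine ⟨z, sap a⁻¹ z, sap c z, hz, sap_ne _ hz, sap_ne _ hz, ⟨k, hk⟩, ⟨1, ?_⟩, ⟨s, ?_⟩, ⟨1, ?_⟩⟩
    · rw [hid, OrthOuter.sap_sap_inv, one_smul]
    · rw [hid, hbc]
    · rw [hid, one_smul]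
  -- a nontrivial field automorphism
  let τ := σ.symm
  let v2 : (IJ → F) → (IJ → F) := fun x => τ ∘ sap a⁻¹ x
  let v3 : (IJ → F) → (IJ → F) := fun x => sap c (σ ∘ x)
  have e1 : ∀ x, sap a (σ ∘ v2 x) = x := fun x => by
    have : σ ∘ v2 x = sap a⁻¹ x := funext fun i => σ.apply_symm_apply _
    rw [this, OrthOuter.sap_sap_inv]
  have e2 : ∀ x, sap b (σ ∘ v3 x) = τ s • v2 x := fun x => by
    have h := congrArg (fun w => τ ∘ sap a⁻¹ w) (hcube x)
    simp only [OrthOuter.sap_inv_sap, map_smul] at h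
    rw [gal_smul] at h
    refine Eq.trans ?_ h
    funext i; exact (σ.symm_apply_apply _).symm
  have hτs : τ s ≠ 0 := fun h => hs (by simpa [τ] using congrArg σ h)
  -- the cubic form
  let f : (IJ → F) → F := fun x => tri x (v2 x) (v3 x)
  have hfσ : ∀ x, f x = lam / τ s * σ (f x) := by
    intro x
    have h := hlam' (σ ∘ v2 x) (σ ∘ v3 x) (σ ∘ x)
    rw [e1, e2, show sap c (σ ∘ x) = v3 x from rfl] at h
    rw [show tri (σ ∘ v2 x) (σ ∘ v3 x) (σ ∘ x) = σ (tri (v2 x) (v3 x) x) from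
      (map_tri σ.toRingHom _ _ _).symm, tri_cyclic x (v2 x) (v3 x)] at h
    have h' : tri x (τ s • v2 x) (v3 x) = τ s * f x := by
      simp only [f]; simp [tri]; ring
    rw [h'] at h
    field_simp
    linear_combination h
  let k := σ.toRingHom.eqLocusField (RingHom.id F)
  letI : Fintype k := Fintype.ofFinite k
  obtain ⟨θ, hθ⟩ : ∃ θ, σ θ ≠ θ := by
    by_contra hall
    push_neg at hall
    exact hσ (RingEquiv.ext hall)
  obtain ⟨δ, hδ⟩ := exists_aniso_plane (F := F)
  let d : Fin 4 → IJ → F := ![mk8 1 0 0 0 1 0 0 0, mk8 θ 0 0 0 θ 0 0 0, mk8 0 1 0 0 1 δ 0 0,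
    mk8 0 θ 0 0 θ (δ * θ) 0 0]
  let X : (Fin 4 → k) → (IJ → F) := fun e => ∑ i, (e i : F) • d i
  have hX : ∀ e, X e = mk8 ((e 0 : F) + e 1 * θ) ((e 2 : F) + e 3 * θ) 0 0
      (((e 0 : F) + e 1 * θ) + ((e 2 : F) + e 3 * θ)) (δ * ((e 2 : F) + e 3 * θ)) 0 0 := fun e => by
    apply ext8 <;> simp [X, d, Finset.sum_apply, Fin.sum_univ_four] <;> ring
  have hXQ : ∀ e, e ≠ 0 → Q4 F (X e) ≠ 0 := by
    intro e he h
    rw [hX, Q4_apply] at h
    obtain ⟨h1, h2⟩ := hδ ((e 0 : F) + e 1 * θ) ((e 2 : F) + e 3 * θ) (by simp at h; linear_combination h)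
    have key : ∀ i j : k, (i : F) + j * θ = 0 → i = 0 ∧ j = 0 := by
      intro i j hij
      have hi : σ (i : F) = i := i.2
      have hj : σ (j : F) = j := j.2
      have h := congrArg σ hij
      rw [map_add, map_mul, hi, hj, map_zero] at h
      have : (j : F) * (σ θ - θ) = 0 := by linear_combination h - hij
      have hj0 : (j : F) = 0 := (mul_eq_zero.1 this).resolve_right (sub_ne_zero.2 hθ)
      rw [hj0, zero_mul, add_zero] at hij
      exact ⟨Subtype.ext hij, Subtype.ext hj0⟩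
    obtain ⟨a0, a1⟩ := key _ _ h1
    obtain ⟨a2, a3⟩ := key _ _ h2
    exact he (funext fun i => by fin_cases i <;> assumption)
  obtain ⟨e, he0, hf0⟩ : ∃ e, e ≠ 0 ∧ f (X e) = 0 := by
    by_cases hall : ∀ e, f (X e) = 0
    · exact ⟨Pi.single 0 1, by simp, hall _⟩
    push_neg at hall
    obtain ⟨e₁, he₁⟩ := hall
    obtain ⟨r, hr⟩ : ∃ r, r = f (X e₁) := ⟨_, rfl⟩
    have hr0 : r ≠ 0 := hr ▸ he₁
    have hexp : ∀ e : Fin 4 → k, f (X e) = ∑ s' : Fin 4 × Fin 4 × Fin 4,
        ((e s'.1 : F) * e s'.2.1 * e s'.2.2) * tri (d s'.1) (v2 (d s'.2.1)) (v3 (d s'.2.2)) := by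
      intro e
      have hfix : ∀ i, σ (e i : F) = e i := fun i => (e i).2
      have hfix' : ∀ i, τ (e i : F) = e i := fun i => by
        conv_lhs => rw [← hfix i]
        exact σ.symm_apply_apply _
      have p2 : v2 (X e) = ∑ i, (e i : F) • v2 (d i) := by
        show τ ∘ sap a⁻¹ (∑ i, (e i : F) • d i) = _
        rw [map_sum]; simp only [map_smul]
        exact gal_sum τ _ _ hfix'
      have p3 : v3 (X e) = ∑ i, (e i : F) • v3 (d i) := by
        show sap c (σ ∘ ∑ i, (e i : F) • d i) = _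
        rw [gal_sum σ _ _ hfix, map_sum]; simp only [map_smul]; rfl
      show tri (X e) (v2 (X e)) (v3 (X e)) = _
      rw [p2, p3]
      exact tri_sum _ _ _ _
    obtain ⟨e, he, h⟩ := exists_zero_form (k := k) (n := 4) (d := 3) (by norm_num) (by norm_num)
      (fun s' : Fin 4 × Fin 4 × Fin 4 => tri (d s'.1) (v2 (d s'.2.1)) (v3 (d s'.2.2)) / r)
      (fun s' => ![s'.1, s'.2.1, s'.2.2]) (fun e => by
        refine ⟨⟨f (X e) / r, ?_⟩, ?_⟩
        · show σ (f (X e) / r) = f (X e) / r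
          have h1 := hfσ (X e)
          have h2 := hfσ (X e₁)
          rw [← hr] at h2
          have hl0 : lam / τ s ≠ 0 := div_ne_zero hlam hτs
          rw [map_div₀]
          conv_rhs => rw [h1, h2, mul_div_mul_left _ _ hl0]
        · show f (X e) / r = _
          rw [hexp, Finset.sum_div]
          exact Finset.sum_congr rfl fun s' _ => by
            simp [Fin.prod_univ_three, mul_div_assoc]; left; rfl)
    refine ⟨e, he, ?_⟩
    have h' : f (X e) / r = 0 := by
      rw [hexp, Finset.sum_div, ← h]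
      exact Finset.sum_congr rfl fun s' _ => by
        simp [Fin.prod_univ_three, mul_div_assoc]; left; rfl
    exact (div_eq_zero_iff.1 h').resolve_right hr0
  set x := X e
  have hn : Q4 F x ≠ 0 := hXQ e he0
  have hgQ : ∀ (ρ : F ≃+* F) {v : IJ → F}, Q4 F v ≠ 0 → Q4 F (ρ ∘ v) ≠ 0 := fun ρ v hv => by
    rw [gal_Q]; exact fun h => hv (ρ.injective (by rw [h, map_zero]))
  have hn2 : Q4 F (v2 x) ≠ 0 := hgQ τ (sap_ne _ hn)
  have hn3 : Q4 F (v3 x) ≠ 0 := sap_ne _ (hgQ σ hn)
  have hnz : ∀ {p q : IJ → F}, Q4 F p ≠ 0 → Q4 F q ≠ 0 → Q4 F (oConj (omul p q)) ≠ 0 := fun hp hq => by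
    rw [Q_oConj, Q_omul]; exact mul_ne_zero hp hq
  refine ⟨oConj (omul (v2 x) (v3 x)), oConj (omul (v3 x) x), oConj (omul x (v2 x)), hnz hn2 hn3,
    hnz hn3 hn, hnz hn hn2, ⟨-Q4 F x, ?_⟩, ?_, ?_, ?_⟩
  · rw [sharp_sharp, show tri x (v2 x) (v3 x) = 0 from hf0, zero_smul, zero_sub, neg_smul]
  · obtain ⟨k1, hk1, h⟩ := triSim_rule hT.shift
    refine ⟨k1⁻¹ * τ s, ?_⟩
    have h' := h (σ ∘ v3 x) (σ ∘ x)
    rw [e2, smul_omul, oConj_smul, show sap c (σ ∘ x) = v3 x from rfl] at h'
    rw [gal_oConj, gal_omul, mul_smul, h', inv_smul_smul₀ hk1]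
  · obtain ⟨k1, hk1, h⟩ := triSim_rule hT.shift.shift
    refine ⟨k1⁻¹, ?_⟩
    have h' := h (σ ∘ x) (σ ∘ v2 x)
    rw [e1, show sap c (σ ∘ x) = v3 x from rfl] at h'
    rw [gal_oConj, gal_omul, h', inv_smul_smul₀ hk1]
  · obtain ⟨k1, hk1, h⟩ := triSim_rule hT
    refine ⟨k1⁻¹ * τ s, ?_⟩
    have h' := h (σ ∘ v2 x) (σ ∘ v3 x)
    rw [e1, e2, omul_smul, oConj_smul] at h'
    rw [gal_oConj, gal_omul, mul_smul, h', inv_smul_smul₀ hk1]

end Cfsg.Agent.LocalBalance
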