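import Cfsg.Agent.Lib.LocalBalance.TriIdem
import Cfsg.Agent.Lib.LocalBalance.PlusEight

/-!
# Normal forms in the triality coset

* `cube_facts` : the meaning of `(conj(a) τ φ)³ = 1`
* `conj_step` : conjugation by a triple
* `exists_au_form` : a conjugate is `conj(g) τ φ` with `g` an automorphism of the octonions
* `exists_model` : a conjugate is `conj(g) τ φ` with `g = 1`, or `g = gA` and `φ = 1`
-/

set_option autoImplicit false
set_option linter.unusedSectionVars false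

namespace Cfsg.Agent.LocalBalance

open Cfsg Matrix Cfsg.Agent.Orth Cfsg.Agent.AutPOmega Cfsg.Agent.Triality
open Cfsg.Agent.OrthOuter (Sim sap toSim conjAut)
open QuadraticMap (polar)

variable {F : Type*} [Field F] [Fintype F]

set_option quotPrecheck false in
local notation "P8" => POmega F ⇑(Q4 F)

theorem triSim_gal {a b c : Sim (Q4 F)} (h : TriSim a b c) (σ : F ≃+* F) :
    TriSim (galSim σ a) (galSim σ b) (galSim σ c) := by
  obtain ⟨lam, hl, h⟩ := h
  refine ⟨σ lam, (map_ne_zero σ).2 hl, fun x y z => ?_⟩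
  obtain ⟨x, rfl⟩ : ∃ v : IJ → F, σ ∘ v = x := ⟨σ.symm ∘ x, funext fun i => by simp⟩
  obtain ⟨y, rfl⟩ : ∃ v : IJ → F, σ ∘ v = y := ⟨σ.symm ∘ y, funext fun i => by simp⟩
  obtain ⟨z, rfl⟩ : ∃ v : IJ → F, σ ∘ v = z := ⟨σ.symm ∘ z, funext fun i => by simp⟩
  have h1 := congrArg σ (h x y z)
  rw [map_mul] at h1
  rw [sap_galSim, sap_galSim, sap_galSim]
  exact (map_tri σ.toRingHom _ _ _).symm.trans (h1.trans (congrArg (σ lam * ·) (map_tri σ.toRingHom _ _ _)))

theorem triSim_mul {a b c a' b' c' : Sim (Q4 F)} (h : TriSim a b c) (h' : TriSim a' b' c') :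
    TriSim (a * a') (b * b') (c * c') := by
  obtain ⟨l, hl, h⟩ := h
  obtain ⟨l', hl', h'⟩ := h'
  exact ⟨l * l', mul_ne_zero hl hl', fun x y z => by
    rw [OrthOuter.sap_mul, OrthOuter.sap_mul, OrthOuter.sap_mul, h, h', mul_assoc]⟩

theorem triSim_inv {a b c : Sim (Q4 F)} (h : TriSim a b c) : TriSim a⁻¹ b⁻¹ c⁻¹ := by
  obtain ⟨l, hl, h⟩ := h
  exact ⟨l⁻¹, inv_ne_zero hl, fun x y z => by
    rw [eq_inv_mul_iff_mul_eq₀ hl, ← h, OrthOuter.sap_sap_inv, OrthOuter.sap_sap_inv,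
      OrthOuter.sap_sap_inv]⟩

theorem tau_gal (σ : F ≃+* F) : Commute (triality F) (galHom 4 F σ) := triality_gal σ

theorem gal_swap (σ : F ≃+* F) (a : Sim (Q4 F)) :
    galHom 4 F σ * conjAut (Q4 F) a = conjAut (Q4 F) (galSim σ a) * galHom 4 F σ :=
  gal_conjAut σ a _ rfl

theorem tau_phi_conj {a b c : Sim (Q4 F)} (h : TriSim a b c) (σ : F ≃+* F) :
    triality F * galHom 4 F σ * conjAut (Q4 F) a =
      conjAut (Q4 F) (galSim σ b) * (triality F * galHom 4 F σ) := by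
  rw [mul_assoc, gal_swap, ← mul_assoc, triality_conjAut (triSim_gal h σ), mul_assoc]

theorem cube_facts {a b c : Sim (Q4 F)} (h : TriSim a b c) (σ : F ≃+* F)
    (hx : (conjAut (Q4 F) a * triality F * galHom 4 F σ) ^ 3 = 1) :
    (∀ t, σ (σ (σ t)) = t) ∧
      ∃ s : F, s ≠ 0 ∧ ∀ x, sap a (σ ∘ sap b (σ ∘ sap c (σ ∘ x))) = s • x := by
  set M := a * galSim σ b * galSim σ (galSim σ c) with hM
  set T := triality F * galHom 4 F σ
  have hT3 : T ^ 3 = galHom 4 F (σ ^ 3) := by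
    rw [(tau_gal σ).mul_pow, map_pow, pow_succ (triality F), sq, triality_cube, one_mul]
  have e : (conjAut (Q4 F) a * triality F * galHom 4 F σ) ^ 3 = conjAut (Q4 F) M * T ^ 3 := by
    rw [mul_assoc, show triality F * galHom 4 F σ = T from rfl, hM, map_mul, map_mul,
      pow_succ, sq, pow_succ T, sq]
    calc conjAut (Q4 F) a * T * (conjAut (Q4 F) a * T) * (conjAut (Q4 F) a * T)
        = conjAut (Q4 F) a * (T * conjAut (Q4 F) a) * (T * conjAut (Q4 F) a) * T := by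
          simp only [mul_assoc]
      _ = conjAut (Q4 F) a * (conjAut (Q4 F) (galSim σ b) * T) *
            (conjAut (Q4 F) (galSim σ b) * T) * T := by rw [tau_phi_conj h]
      _ = conjAut (Q4 F) a * conjAut (Q4 F) (galSim σ b) *
            (T * conjAut (Q4 F) (galSim σ b)) * T * T := by simp only [mul_assoc]
      _ = conjAut (Q4 F) a * conjAut (Q4 F) (galSim σ b) *
            (conjAut (Q4 F) (galSim σ (galSim σ c)) * T) * T * T := by
          rw [tau_phi_conj (triSim_gal h σ).shift]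
      _ = _ := by simp only [mul_assoc]
  rw [e, hT3] at hx
  have hσ : σ ^ 3 = 1 := semi_field (semisim_gal_plus (m := 4) (σ ^ 3)) (x := M⁻¹) (by
    rw [map_inv]; exact eq_inv_of_mul_eq_one_right hx)
  rw [hσ, map_one, mul_one] at hx
  have h3 : ∀ t, σ (σ (σ t)) = t := fun t => RingEquiv.congr_fun hσ t
  obtain ⟨hs, es⟩ := conjAut_eq_semiAut M
  obtain ⟨-, s, hs'⟩ := semi_eq_one base4 hs (es.symm.trans hx)
  refine ⟨h3, (s : F), s.ne_zero, fun x => ?_⟩
  have hMx : ∀ y, sap M y = (s : F) • y := fun y => by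
    show ((M : GL IJ F) : Matrix IJ IJ F) *ᵥ y = _
    rw [← hs']
    show Matrix.scalar IJ (s : F) *ᵥ y = _
    rw [Matrix.scalar_apply, ← Matrix.smul_one_eq_diagonal, Matrix.smul_mulVec, Matrix.one_mulVec]
  have e' : sap a (σ ∘ sap b (σ ∘ sap c (σ ∘ x))) = sap M (σ ∘ σ ∘ σ ∘ x) := by
    rw [hM, OrthOuter.sap_mul, OrthOuter.sap_mul, sap_galSim, sap_galSim, sap_galSim]
  rw [e', hMx, show σ ∘ σ ∘ σ ∘ x = x from funext fun i => h3 (x i)]

theorem conj_step {T1 T2 T3 : Sim (Q4 F)} (hT : TriSim T1 T2 T3) (a : Sim (Q4 F)) (σ : F ≃+* F) :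
    conjAut (Q4 F) T1 * (conjAut (Q4 F) a * triality F * galHom 4 F σ) * (conjAut (Q4 F) T1)⁻¹ =
      conjAut (Q4 F) (T1 * a * galSim σ T2⁻¹) * triality F * galHom 4 F σ := by
  rw [← map_inv, map_mul, map_mul]
  calc conjAut (Q4 F) T1 * (conjAut (Q4 F) a * triality F * galHom 4 F σ) * conjAut (Q4 F) T1⁻¹
      = conjAut (Q4 F) T1 * conjAut (Q4 F) a * (triality F * galHom 4 F σ * conjAut (Q4 F) T1⁻¹) := by
        simp only [mul_assoc]
    _ = _ := by rw [tau_phi_conj (triSim_inv hT)]; simp only [mul_assoc]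

theorem sap_inv_scalar (T : Sim (Q4 F)) {u : IJ → F} {k : F} (hu : Q4 F u ≠ 0)
    (h : sap T u = k • oOne) : k ≠ 0 ∧ sap T⁻¹ oOne = k⁻¹ • u := by
  have hk : k ≠ 0 := fun h0 => sap_ne T hu (by rw [h, h0, zero_smul, map_zero])
  exact ⟨hk, by rw [eq_inv_smul_iff₀ hk, ← map_smul, ← h, OrthOuter.sap_inv_sap]⟩

theorem au_of_fix_one {a b c : Sim (Q4 F)} (hT : TriSim a b c) {ka kb kc : F} (ha : sap a oOne = ka • oOne)
    (hb : sap b oOne = kb • oOne) (hc : sap c oOne = kc • oOne) :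
    ∃ g ∈ Au F, conjAut (Q4 F) a = conjAut (Q4 F) (toSim _ g) := by
  have h1 : Q4 F (oOne : IJ → F) ≠ 0 := by rw [Q_oOne]; exact one_ne_zero
  have norm : ∀ (a : Sim (Q4 F)) (k : F), sap a oOne = k • oOne → ∃ A : Sim (Q4 F),
      (∀ x, sap A x = k⁻¹ • sap a x) ∧ sap A oOne = oOne ∧ conjAut (Q4 F) A = conjAut (Q4 F) a ∧
      mu A = 1 := by
    intro a k hk
    have hk0 := (sap_inv_scalar a h1 hk).1
    refine ⟨OrthOuter.scal (Q4 F) (Units.mk0 k hk0)⁻¹ * a, fun x => ?_, ?_, ?_, ?_⟩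
    · rw [OrthOuter.sap_mul, OrthOuter.sap_scal, Units.val_inv_eq_inv_val, Units.val_mk0]
    · rw [OrthOuter.sap_mul, OrthOuter.sap_scal, Units.val_inv_eq_inv_val, Units.val_mk0, hk,
        inv_smul_smul₀ hk0]
    · rw [map_mul, conjAut_scal, one_mul]
    · have h := OrthOuter.Q_sap exists_Q4_ne (OrthOuter.scal (Q4 F) (Units.mk0 k hk0)⁻¹ * a) oOne
      rw [OrthOuter.sap_mul, OrthOuter.sap_scal, Units.val_inv_eq_inv_val, Units.val_mk0, hk,
        inv_smul_smul₀ hk0, Q_oOne, mul_one] at h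
      exact h.symm
  obtain ⟨A, hA, hA1, hAc, hAm⟩ := norm a ka ha
  obtain ⟨B, hB, hB1, -, hBm⟩ := norm b kb hb
  obtain ⟨C, hC, hC1, -, hCm⟩ := norm c kc hc
  obtain ⟨lam, -, hlam⟩ := id hT
  have hk : ∀ x y z, tri (sap A x) (sap B y) (sap C z) = ka⁻¹ * kb⁻¹ * kc⁻¹ * lam * tri x y z := by
    intro x y z
    rw [hA, hB, hC, mul_assoc _ lam, ← hlam]
    simp [tri]; ring
  set L := ka⁻¹ * kb⁻¹ * kc⁻¹ * lam with hL
  have r3 := conj_prod hk
  have hL1 : L = 1 := by
    have h := r3 oOne oOne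
    rw [hA1, hB1, hCm, div_one, omul_one, oConj_oOne, hC1] at h
    have := congrFun h (.inl 0)
    simpa [oOne] using this.symm
  rw [hL1] at hk
  have r3 : ∀ x y, oConj (omul (sap A x) (sap B y)) = sap C (oConj (omul x y)) := fun x y => by
    rw [conj_prod hk, hCm, div_one, one_smul]
  have r1 : ∀ x y, oConj (omul (sap B x) (sap C y)) = sap A (oConj (omul x y)) := fun x y => by
    rw [conj_prod (lam := 1) (a := B) (b := C) (c := A) (fun x y z => by
      rw [tri_cyclic (sap A z) (sap B x) (sap C y), hk, tri_cyclic z x y]), hAm, div_one, one_smul]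
  have r2 : ∀ x y, oConj (omul (sap C x) (sap A y)) = sap B (oConj (omul x y)) := fun x y => by
    rw [conj_prod (lam := 1) (a := C) (b := A) (c := B) (fun x y z => by
      rw [← tri_cyclic (sap C x) (sap A y) (sap B z), hk, ← tri_cyclic x y z]), hBm, div_one, one_smul]
  have hAC : ∀ x, oConj (sap A x) = sap C (oConj x) := fun x => by
    have := r3 x oOne
    rwa [hB1, omul_one, omul_one] at this
  have hBA : ∀ x, oConj (sap B x) = sap A (oConj x) := fun x => by
    have := r1 x oOne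
    rwa [hC1, omul_one, omul_one] at this
  have hCB : ∀ x, oConj (sap C x) = sap B (oConj x) := fun x => by
    have := r2 x oOne
    rwa [hA1, omul_one, omul_one] at this
  have eAB : ∀ x, sap A x = sap B x := fun x => by
    have h := hCB (oConj x)
    rwa [← hAC, oConj_oConj, oConj_oConj] at h
  have eAC : ∀ x, sap A x = sap C x := fun x => by
    have h := hBA (oConj x)
    rw [← eAB, oConj_oConj, hAC, oConj_oConj] at h
    exact h.symm
  obtain ⟨g, hg⟩ := (OrthOuter.mem_range_toSim_iff exists_Q4_ne A).2 (Units.ext hAm)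
  refine ⟨g, ⟨fun x y z => ?_, ?_⟩, by rw [hg, hAc]⟩
  · have h := hk x y z
    rw [← eAB, ← eAC, one_mul] at h
    simpa [← hg, OrthOuter.sap_toSim] using h
  · rw [← OrthOuter.sap_toSim, hg, hA1]

theorem exists_aniso_perp (v : IJ → F) :
    ∃ s, Q4 F s ≠ 0 ∧ polar ⇑(Q4 F) oOne s = 0 ∧ polar ⇑(Q4 F) v s = 0 := by
  classical
  by_contra! hall
  set W := LinearMap.ker ((QuadraticMap.polarBilin (Q4 F) oOne).prod (QuadraticMap.polarBilin (Q4 F) v))
    with hW
  have hmem : ∀ s ∈ W, Q4 F s = 0 := by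
    intro s hs
    rw [hW, LinearMap.mem_ker, LinearMap.prod_apply, Prod.mk_eq_zero] at hs
    by_contra h0
    exact hall s h0 hs.1 hs.2
  have hrk : 6 ≤ Module.finrank F W := by
    have h1 := LinearMap.finrank_range_add_finrank_ker
      ((QuadraticMap.polarBilin (Q4 F) oOne).prod (QuadraticMap.polarBilin (Q4 F) v))
    have h2 := Submodule.finrank_le
      (LinearMap.range ((QuadraticMap.polarBilin (Q4 F) oOne).prod (QuadraticMap.polarBilin (Q4 F) v)))
    simp only [Module.finrank_prod, Module.finrank_self, Module.finrank_fintype_fun_eq_card] at h1 h2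
    have h8 : Fintype.card IJ = 8 := rfl
    rw [← hW] at h1
    omega
  have hle : W ≤ LinearMap.BilinForm.orthogonal (QuadraticMap.polarBilin (Q4 F)) W := by
    intro x hx y hy
    show polar ⇑(Q4 F) y x = 0
    simp only [polar, hmem _ (W.add_mem hy hx), hmem x hx, hmem y hy, sub_zero]
  have h3 := Submodule.finrank_mono hle
  rw [LinearMap.BilinForm.finrank_orthogonal base4.nd] at h3
  simp only [Module.finrank_fintype_fun_eq_card] at h3
  have h8 : Fintype.card IJ = 8 := rfl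
  omega

theorem conj_of_perp_one {s : IJ → F} (h : polar ⇑(Q4 F) oOne s = 0) : oConj s = -s := by
  rw [oConj_eq]
  have : s (.inl 0) + s (.inr 0) = 0 := by
    rw [pl_comm, polar_eq_oB, oConj_oOne] at h
    simpa [oB, oOne] using h
  rw [this, zero_smul, zero_sub]

theorem omul_zero_left (x : IJ → F) : omul (0 : IJ → F) x = 0 := by
  rw [← zero_smul F (0 : IJ → F), smul_omul, zero_smul, zero_smul]

theorem neg_omul (x y : IJ → F) : omul (-x) y = -omul x y := by
  rw [← neg_one_smul F x, smul_omul, neg_one_smul]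

theorem omul_neg' (x y : IJ → F) : omul x (-y) = -omul x y := by
  rw [← neg_one_smul F y, omul_smul, neg_one_smul]

theorem exists_move {u1 u2 u3 : IJ → F} (n1 : Q4 F u1 ≠ 0) (n2 : Q4 F u2 ≠ 0) (n3 : Q4 F u3 ≠ 0) {k : F}
    (hk : oConj (omul u2 u3) = k • u1) : ∃ T1 T2 T3 : Sim (Q4 F), TriSim T1 T2 T3 ∧
      (∃ l : F, sap T1 u1 = l • oOne) ∧ (∃ l : F, sap T2 u2 = l • oOne) ∧ ∃ l : F, sap T3 u3 = l • oOne := by
  have hu : Q4 F (oConj u1) ≠ 0 := by rwa [Q_oConj]
  set v := omul u2 (oConj u1)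
  have hv : Q4 F v ≠ 0 := by rw [Q_omul]; exact mul_ne_zero n2 hu
  obtain ⟨s, hs, hs1, hsv⟩ := exists_aniso_perp v
  have hsc := conj_of_perp_one hs1
  set t := omul s v with ht
  have ht0 : Q4 F t ≠ 0 := by rw [Q_omul]; exact mul_ne_zero hs hv
  have htc : oConj t = -t := by
    refine conj_of_perp_one ?_
    rw [pl_comm, polar_eq_oB, oConj_oOne, ht]
    rw [polar_eq_oB, hsc] at hsv
    simp [oB, omul, oOne] at hsv ⊢
    linear_combination -hsv
  have hsq : ∀ {s : IJ → F}, oConj s = -s → omul s s = -(Q4 F s) • oOne := fun {s} hsc => by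
    have := omul_conj_self s
    rw [hsc, omul_neg', neg_eq_iff_eq_neg] at this
    rw [this, neg_smul]
  have hB1 : ∀ {s : IJ → F} (hs : Q4 F s ≠ 0), oConj s = -s → sap (biSim s hs) oOne = -(Q4 F s) • oOne :=
    fun {s} hs hsc => by rw [sap_biSim, hsc, omul_one, neg_omul, omul_neg', neg_neg, hsq hsc]
  have hT := triSim_mul (triSim_mul (triSim_LRB ht0).shift.shift (triSim_LRB hs).shift.shift) (triSim_LRB hu)
  refine ⟨_, _, _, hT, ?_⟩
  obtain ⟨l1, hl1⟩ : ∃ l1, sap (biSim t ht0 * biSim s hs * lmulSim (oConj u1) hu) u1 = l1 • oOne := by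
    refine ⟨Q4 F u1 * (-(Q4 F s) * -(Q4 F t)), ?_⟩
    rw [OrthOuter.sap_mul, OrthOuter.sap_mul, sap_lmulSim, conj_self_omul, map_smul, hB1 hs hsc, map_smul,
      map_smul, hB1 ht0 htc, smul_smul, smul_smul]
    ring_nf
  have hl2 : sap (lmulSim t ht0 * lmulSim s hs * rmulSim (oConj u1) hu) u2 = -(Q4 F t) • oOne := by
    rw [OrthOuter.sap_mul, OrthOuter.sap_mul, sap_rmulSim, sap_lmulSim, sap_lmulSim, ← ht, hsq htc]
  refine ⟨⟨_, hl1⟩, ⟨_, hl2⟩, ?_⟩
  set T1 := biSim t ht0 * biSim s hs * lmulSim (oConj u1) hu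
  set T2 := lmulSim t ht0 * lmulSim s hs * rmulSim (oConj u1) hu
  set T3 := rmulSim t ht0 * rmulSim s hs * biSim (oConj u1) hu
  obtain ⟨r, -, hr⟩ := triSim_rule hT.shift
  have h := hr u2 u3
  rw [hk, map_smul, hl1, hl2, smul_omul, one_omul, oConj_smul] at h
  have ht' : -(Q4 F t) ≠ 0 := neg_ne_zero.2 ht0
  refine ⟨(-(Q4 F t))⁻¹ * (r * (k * l1)), ?_⟩
  have h' := congrArg oConj h
  rw [oConj_smul, oConj_oConj, oConj_smul, oConj_smul, oConj_smul, oConj_oOne] at h'
  rw [mul_smul, eq_inv_smul_iff₀ ht', h', smul_smul, smul_smul, mul_assoc]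

theorem exists_au_form (h3 : (3 : F) ≠ 0) {a : Sim (Q4 F)} (ha : a ∈ Trip F) {σ : F ≃+* F}
    (hx : (conjAut (Q4 F) a * triality F * galHom 4 F σ) ^ 3 = 1) :
    ∃ (α : MulAut P8), ∃ g ∈ Au F, α * (conjAut (Q4 F) a * triality F * galHom 4 F σ) * α⁻¹ =
      conjAut (Q4 F) (toSim _ g) * triality F * galHom 4 F σ := by
  obtain ⟨b, c, hT⟩ := ha
  obtain ⟨hσ3, s, hs, hcube⟩ := cube_facts hT σ hx
  obtain ⟨u1, u2, u3, hG⟩ := exists_goodT h3 hT hσ3 hs hcube
  obtain ⟨k, hk⟩ := hG.sq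
  obtain ⟨T1, T2, T3, hTT, ⟨l1, h1⟩, ⟨l2, h2⟩, ⟨l3, h3'⟩⟩ := exists_move hG.n1 hG.n2 hG.n3 hk
  have key : ∀ {A P Q : Sim (Q4 F)} {p q : IJ → F} {lp lq : F}, (∃ r : F, sap A (σ ∘ q) = r • p) →
      sap P p = lp • oOne → Q4 F q ≠ 0 → sap Q q = lq • oOne →
      ∃ r : F, sap (P * A * galSim σ Q⁻¹) oOne = r • oOne := by
    rintro A P Q p q lp lq ⟨r, hr⟩ hp hq hQ
    refine ⟨σ lq⁻¹ * r * lp, ?_⟩
    rw [OrthOuter.sap_mul, OrthOuter.sap_mul, ← gal_oOne σ, sap_galSim, (sap_inv_scalar Q hq hQ).2,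
      gal_smul, map_smul, hr, map_smul, map_smul, hp, smul_smul, smul_smul, gal_oOne, mul_assoc]
  obtain ⟨ka, hka⟩ := key hG.l1 h1 hG.n2 h2
  obtain ⟨kb, hkb⟩ := key hG.l2 h2 hG.n3 h3'
  obtain ⟨kc, hkc⟩ := key hG.l3 h3' hG.n1 h1
  obtain ⟨g, hg, e⟩ := au_of_fix_one
    (triSim_mul (triSim_mul hTT hT) (triSim_gal (triSim_inv hTT) σ).shift) hka hkb hkc
  exact ⟨conjAut (Q4 F) T1, g, hg, by rw [conj_step hTT, e]⟩

theorem au_triSim {g : IsoGrp (Q4 F)} (hg : g ∈ Au F) :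
    TriSim (toSim (Q4 F) g) (toSim _ g) (toSim _ g) :=
  ⟨1, one_ne_zero, fun x y z => by rw [one_mul]; simpa using hg.1 x y z⟩

theorem conj_au_eq (p : IsoGrp (Q4 F)) (hp : p ∈ Au F) {g g' : IsoGrp (Q4 F)} (σ : F ≃+* F)
    (h : ∀ x, ap p⁻¹ (ap g (σ ∘ ap p x)) = ap g' (σ ∘ x)) :
    conjAut (Q4 F) (toSim _ p)⁻¹ * (conjAut (Q4 F) (toSim _ g) * triality F * galHom 4 F σ) *
      (conjAut (Q4 F) (toSim _ p)⁻¹)⁻¹ = conjAut (Q4 F) (toSim _ g') * triality F * galHom 4 F σ := by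
  rw [conj_step (triSim_inv (au_triSim hp))]
  congr 3
  refine OrthOuter.ext_sap fun x => ?_
  obtain ⟨x, rfl⟩ : ∃ v : IJ → F, σ ∘ v = x := ⟨σ.symm ∘ x, funext fun i => by simp⟩
  rw [inv_inv, OrthOuter.sap_mul, OrthOuter.sap_mul, sap_galSim, ← map_inv]
  simp only [OrthOuter.sap_toSim]
  exact h x

theorem au_cube {g : IsoGrp (Q4 F)} (hg : g ∈ Au F) {σ : F ≃+* F}
    (hx : (conjAut (Q4 F) (toSim _ g) * triality F * galHom 4 F σ) ^ 3 = 1) :
    (∀ t, σ (σ (σ t)) = t) ∧ ∀ x, Sg g σ (Sg g σ (Sg g σ x)) = x := by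
  obtain ⟨h3, s, -, h⟩ := cube_facts (au_triSim hg) σ hx
  have hs : s = 1 := by
    have h1 := h oOne
    simp only [OrthOuter.sap_toSim, gal_oOne, hg.2] at h1
    simpa [oOne] using (congrFun h1 (.inl 0)).symm
  refine ⟨h3, fun x => ?_⟩
  have h1 := h x
  rw [hs, one_smul] at h1
  simpa [Sg] using h1

/-! ### the linear case -/

theorem alt_right (w u : IJ → F) : omul (omul w u) u = omul w (omul u u) := by
  apply ext8 <;> (simp [omul]; ring)

theorem alt_left (w u : IJ → F) : omul u (omul u w) = omul (omul u u) w := by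
  apply ext8 <;> (simp [omul]; ring)

theorem flex_conj (u z : IJ → F) : omul u (omul z (oConj u)) = omul (omul u z) (oConj u) := by
  apply ext8 <;> (simp [omul, oConj]; ring)

/-- Conjugation by an element of norm one. -/
noncomputable def eU (u : IJ → F) (hu : Q4 F u = 1) : IsoGrp (Q4 F) :=
  mkIso
    { toFun := fun x => omul (omul u x) (oConj u)
      map_add' := fun x y => by rw [omul_add, add_omul]
      map_smul' := fun k x => by rw [omul_smul, smul_omul]; rfl }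
    fun x => by show Q4 F (omul (omul u x) (oConj u)) = _; rw [Q_omul, Q_omul, Q_oConj, hu, one_mul, mul_one]

theorem ap_eU {u : IJ → F} (hu : Q4 F u = 1) (x : IJ → F) :
    ap (eU u hu) x = omul (omul u x) (oConj u) := ap_mkIso _ _ x

/-- Exchanging idempotents of a twisted algebra: `T τ T⁻¹ = conj(u) τ`. -/
theorem triSim_switch {u : IJ → F} (hu : Q4 F u = 1) (hsq : omul u u = oConj u) :
    TriSim (rmulSim u (hu ▸ one_ne_zero)) (biSim u (hu ▸ one_ne_zero)) (lmulSim u (hu ▸ one_ne_zero)) ∧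
    (∀ x, sap (rmulSim u (hu ▸ one_ne_zero)) (sap (biSim u (hu ▸ one_ne_zero))⁻¹ x) = ap (eU u hu) x) ∧
    (∀ x, sap (biSim u (hu ▸ one_ne_zero)) (sap (lmulSim u (hu ▸ one_ne_zero))⁻¹ x) = ap (eU u hu) x) ∧
    (∀ x, sap (lmulSim u (hu ▸ one_ne_zero)) (sap (rmulSim u (hu ▸ one_ne_zero))⁻¹ x) = ap (eU u hu) x) := by
  have hu0 : Q4 F u ≠ 0 := hu ▸ one_ne_zero
  have hcu : omul (oConj u) (oConj u) = u := by rw [← conj_omul, hsq, oConj_oConj]
  refine ⟨(triSim_LRB hu0).shift, fun x => ?_, fun x => ?_, fun x => ?_⟩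
  · obtain ⟨y, rfl⟩ : ∃ y, sap (biSim u hu0) y = x := ⟨_, OrthOuter.sap_sap_inv _ x⟩
    rw [OrthOuter.sap_inv_sap, ap_eU, sap_rmulSim, sap_biSim, flex (oConj u) y]
    rw [cancel_left', hu, one_smul, alt_right, hcu]
  · obtain ⟨y, rfl⟩ : ∃ y, sap (lmulSim u hu0) y = x := ⟨_, OrthOuter.sap_sap_inv _ x⟩
    rw [OrthOuter.sap_inv_sap, ap_eU, sap_biSim, sap_lmulSim, alt_left, hsq]
  · obtain ⟨y, rfl⟩ : ∃ y, sap (rmulSim u hu0) y = x := ⟨_, OrthOuter.sap_sap_inv _ x⟩
    rw [OrthOuter.sap_inv_sap, ap_eU, sap_lmulSim, sap_rmulSim, ← flex_conj, cancel_right, hu, one_smul]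

theorem eU_mem {u : IJ → F} (hu : Q4 F u = 1) (hsq : omul u u = oConj u) : eU u hu ∈ Au F := by
  obtain ⟨hT, e1, e2, e3⟩ := triSim_switch hu hsq
  have hT' := triSim_mul hT (triSim_inv hT).shift
  obtain ⟨l, hl, h⟩ := hT'
  have h1 : ap (eU u hu) oOne = oOne := by
    rw [ap_eU, omul_one, omul_conj_self, hu, one_smul]
  refine ⟨fun x y z => ?_, h1⟩
  have hh : ∀ x y z, tri (ap (eU u hu) x) (ap (eU u hu) y) (ap (eU u hu) z) = l * tri x y z := fun x y z => by
    have := h x y z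
    rwa [OrthOuter.sap_mul, OrthOuter.sap_mul, OrthOuter.sap_mul, e1, e2, e3] at this
  have hl1 : l = 1 := by
    have := hh oOne (bv (.inl 0)) (bv (.inl 0))
    have hc := conj_prod (a := toSim (Q4 F) (eU u hu)) (b := toSim _ (eU u hu)) (c := toSim _ (eU u hu))
      (lam := l) (fun x y z => by simpa using hh x y z) oOne oOne
    simp only [OrthOuter.sap_toSim, h1, omul_one, oConj_oOne, mu_toSim, div_one] at hc
    simpa [oOne] using (congrFun hc (.inl 0)).symm
  rw [hh, hl1, one_mul]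

theorem fixed_perp {g : IsoGrp (Q4 F)} {f y : IJ → F} (hf : ap g f = f) :
    polar ⇑(Q4 F) (ap g y - y) f = 0 := by
  rw [sub_eq_add_neg, pl_add_left, ← neg_one_smul F y, pl_smul_left]
  conv_lhs => arg 1; rw [← hf]
  rw [polar_ap]
  ring

theorem fixed_nondeg (h3 : (3 : F) ≠ 0) {g : IsoGrp (Q4 F)}
    (hg3 : ∀ x, ap g (ap g (ap g x)) = x) {z : IJ → F} (hz : ap g z = z)
    (h : ∀ f, ap g f = f → polar ⇑(Q4 F) z f = 0) : z = 0 := by
  refine eq_of_polar fun y => ?_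
  rw [pl_zero_left]
  have h1 := h (y + ap g y + ap g (ap g y)) (by rw [map_add, map_add, hg3]; abel)
  have e : polar ⇑(Q4 F) z (ap g y) = polar ⇑(Q4 F) z y := by
    conv_lhs => arg 2; rw [← hz]
    rw [polar_ap]
  have e' : polar ⇑(Q4 F) z (ap g (ap g y)) = polar ⇑(Q4 F) z y := by
    conv_lhs => arg 2; rw [← hz]
    rw [polar_ap, e]
  rw [pl_add_right, pl_add_right, e, e'] at h1
  exact (mul_eq_zero.1 (show (3 : F) * polar ⇑(Q4 F) z y = 0 by linear_combination h1)).resolve_left h3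

theorem exists_moved_aniso (h3 : (3 : F) ≠ 0) {g : IsoGrp (Q4 F)} (hg : g ≠ 1)
    (hg3 : ∀ x, ap g (ap g (ap g x)) = x) :
    ∃ x, Q4 F x ≠ 0 ∧ ap g (ap g x) = -x - ap g x ∧ ∀ f, ap g f = f → polar ⇑(Q4 F) x f = 0 := by
  let D : (IJ → F) →ₗ[F] (IJ → F) := ap g - LinearMap.id
  have hD : ∀ x, D x = ap g x - x := fun x => rfl
  suffices h : ∃ y, Q4 F (D y) ≠ 0 by
    obtain ⟨y, hy⟩ := h
    refine ⟨D y, hy, ?_, fun f hf => hD y ▸ fixed_perp hf⟩
    rw [hD, map_sub, map_sub, hg3]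
    abel
  by_contra! hall
  refine hg (ext_ap fun y => ?_)
  rw [ap_one, ← sub_eq_zero, ← hD]
  refine eq_of_polar fun z => ?_
  rw [pl_zero_left]
  have hKK : ∀ w, polar ⇑(Q4 F) (D y) (D w) = 0 := fun w => by
    simp only [polar, ← map_add, hall, sub_zero]
  have hfix := fixed_perp (g := g) (y := y)
    (show ap g (z + ap g z + ap g (ap g z)) = z + ap g z + ap g (ap g z) by
      rw [map_add, map_add, hg3]; abel)
  rw [← hD] at hfix
  have e : (3 : F) • z = (z + ap g z + ap g (ap g z)) + D (-(ap g z) - (2 : F) • z) := by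
    simp only [hD, map_sub, map_neg, map_smul]
    module
  have h1 : (3 : F) * polar ⇑(Q4 F) (D y) z = 0 := by
    rw [← pl_smul_right, e, pl_add_right, hfix, hKK, add_zero]
  exact (mul_eq_zero.1 h1).resolve_left h3

theorem exists_switch (h3 : (3 : F) ≠ 0) {g : IsoGrp (Q4 F)} (hg : g ∈ Au F) (hg1 : g ≠ 1)
    (hg3 : ∀ x, ap g (ap g (ap g x)) = x) :
    ∃ (α : MulAut P8), ∃ g' ∈ Au F, α * (conjAut (Q4 F) (toSim _ g) * triality F) * α⁻¹ =
      conjAut (Q4 F) (toSim _ g') * triality F ∧ ∃ u x, ap g' u = u ∧ ap g' x = x ∧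
        u (.inl 0) + u (.inr 0) = -1 ∧ Q4 F u = 1 ∧ Q4 F x ≠ 0 ∧
        polar ⇑(Q4 F) x oOne = 0 ∧ polar ⇑(Q4 F) x u = 0 := by
  obtain ⟨x, hx, hgx, hperp⟩ := exists_moved_aniso h3 hg1 hg3
  set n := Q4 F x with hn
  set t := omul (ap g x) (oConj x) with ht
  have hQgx : Q4 F (ap g x) = n := Q_ap g x
  have hpol : polar ⇑(Q4 F) (ap g x) x = -n := by
    have h : Q4 F (ap g (ap g x)) = n := by rw [Q_ap, Q_ap]
    rw [hgx, show -x - ap g x = (-1 : F) • (x + ap g x) by module, Q_smul, Q_add, hQgx, ← hn,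
      pl_comm] at h
    linear_combination h
  have htt : t (.inl 0) + t (.inr 0) = -n := by
    rw [← hpol, polar_eq_oB, ht]; simp [oB, omul]; ring
  have htc : oConj t = omul x (oConj (ap g x)) := by rw [ht, conj_omul, oConj_oConj]
  have hgt : ap g t = t := by
    have hgg : ap g t = omul (-x - ap g x) (oConj (ap g x)) := by
      rw [ht, au_omul hg, au_conj hg, hgx]
    rw [hgg, sub_eq_add_neg, add_omul, neg_omul, neg_omul, omul_conj_self, ← htc, oConj_eq t, htt, hQgx]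
    module
  set u := n⁻¹ • t with hu
  have hgu : ap g u = u := by rw [hu, map_smul, hgt]
  have hQu : Q4 F u = 1 := by
    rw [hu, Q_smul, ht, Q_omul, Q_oConj, hQgx, ← hn]
    field_simp
  have htr : u (.inl 0) + u (.inr 0) = -1 := by
    rw [hu, Pi.smul_apply, Pi.smul_apply, smul_eq_mul, smul_eq_mul, ← mul_add, htt, mul_neg,
      inv_mul_cancel₀ hx]
  have huc : oConj u = -oOne - u := by rw [oConj_eq, htr, neg_smul, one_smul]
  have hsq : omul u u = oConj u := by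
    rw [omul_self, htr, hQu, huc, neg_smul, one_smul, one_smul]; abel
  have hux : omul u x = ap g x := by
    rw [hu, smul_omul, ht, cancel_right', smul_smul, inv_mul_cancel₀ hx, one_smul]
  have hx1 : polar ⇑(Q4 F) x oOne = 0 := hperp _ hg.2
  have hxu : polar ⇑(Q4 F) x u = 0 := hperp _ hgu
  obtain ⟨hT, e1, e2, -⟩ := triSim_switch hQu hsq
  have hu0 : Q4 F u ≠ 0 := hQu ▸ one_ne_zero
  refine ⟨conjAut (Q4 F) (rmulSim u hu0), g * eU u hQu, mul_mem hg (eU_mem hQu hsq), ?_, u, x, ?_, ?_,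
    htr, hQu, hx, hx1, hxu⟩
  · have h := conj_step hT (toSim (Q4 F) g) (1 : F ≃+* F)
    rw [map_one, mul_one, mul_one] at h
    rw [h]
    congr 2
    refine OrthOuter.ext_sap fun y => ?_
    rw [OrthOuter.sap_mul, OrthOuter.sap_mul]
    conv_lhs => rw [show y = (⇑(1 : F ≃+* F)) ∘ y from rfl, sap_galSim]
    show sap _ (sap (toSim _ g) (sap (biSim u _)⁻¹ y)) = _
    rw [OrthOuter.sap_toSim, OrthOuter.sap_toSim, ap_mul, ← e1 y, sap_rmulSim, sap_rmulSim,
      au_omul hg, hgu]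
  · rw [ap_mul, ap_eU, show omul (omul u u) (oConj u) = u by
      rw [hsq, ← conj_omul, hsq, oConj_oConj], hgu]
  · have hxc : omul x (oConj u) = omul u x := by
      have hc := conj_of_perp_one (s := x) (by rw [pl_comm]; exact hx1)
      have h0 : omul x (oConj u) + oConj (omul x (oConj u)) = polar ⇑(Q4 F) x u • oOne := by
        rw [oConj_eq (omul x (oConj u)), polar_eq_oB, add_sub_cancel]
        congr 1
        simp [oB, omul]; ring
      rw [hxu, zero_smul, conj_omul, oConj_oConj, hc, omul_neg', ← sub_eq_add_neg, sub_eq_zero] at h0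
      exact h0
    rw [ap_mul, ap_eU, ← flex_conj, hxc, alt_left, au_omul hg, hsq, au_conj hg, hgu, ← hux,
      cancel_left, hQu, one_smul]

theorem exists_iso_fixed (h3 : (3 : F) ≠ 0) {g : IsoGrp (Q4 F)} (hg : g ∈ Au F)
    (hg3 : ∀ x, ap g (ap g (ap g x)) = x) {u x : IJ → F} (hu : ap g u = u) (hx : ap g x = x)
    (htr : u (.inl 0) + u (.inr 0) = -1) (hQu : Q4 F u = 1) (hQx : Q4 F x ≠ 0)
    (hx1 : polar ⇑(Q4 F) x oOne = 0) (hxu : polar ⇑(Q4 F) x u = 0) :
    (∀ a b d : F, a • (oOne : IJ → F) + b • u + d • x = 0 → a = 0 ∧ b = 0 ∧ d = 0) ∧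
      ∃ c, ap g c = c ∧ Q4 F c = 0 ∧ c (.inl 0) + c (.inr 0) = 1 := by
  have hpo : polar ⇑(Q4 F) (oOne : IJ → F) oOne = 2 := by
    rw [pl_self, Q_oOne, mul_one]
  have hpu : polar ⇑(Q4 F) u oOne = -1 := by
    rw [polar_eq_oB, oConj_oOne, ← htr]; simp [oB, oOne]
  have hind : ∀ a b d : F, a • (oOne : IJ → F) + b • u + d • x = 0 → a = 0 ∧ b = 0 ∧ d = 0 := by
    intro a b d h
    have k1 : polar ⇑(Q4 F) (a • (oOne : IJ → F) + b • u + d • x) oOne = 0 := by rw [h, pl_zero_left]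
    have k2 : polar ⇑(Q4 F) (a • (oOne : IJ → F) + b • u + d • x) u = 0 := by rw [h, pl_zero_left]
    rw [pl_add_left, pl_add_left, pl_smul_left, pl_smul_left, pl_smul_left, hpo, hpu, hx1] at k1
    rw [pl_add_left, pl_add_left, pl_smul_left, pl_smul_left, pl_smul_left, pl_comm (Q4 F) oOne, hpu,
      pl_self, hQu, hxu] at k2
    have hb : b = 0 := (mul_eq_zero.1 (show (3 : F) * b = 0 by linear_combination k1 + 2 * k2)).resolve_left h3
    have ha : a = 0 := by rw [hb] at k2; linear_combination -k2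
    refine ⟨ha, hb, ?_⟩
    rw [ha, hb, zero_smul, zero_smul, zero_add, zero_add] at h
    exact (smul_eq_zero.1 h).resolve_right fun h0 => hQx (by rw [h0, map_zero])
  refine ⟨hind, ?_⟩
  let d : Fin 3 → IJ → F := ![oOne, u, x]
  obtain ⟨c, hc0, hc⟩ := exists_zero_form (k := F) (F := F) (n := 3) (d := 2) (by norm_num) (by norm_num)
    (fun s : Fin 3 × Fin 3 => beta8 (d s.1) (d s.2)) (fun s => ![s.1, s.2]) (fun c => ⟨_, rfl⟩)
  set z := ∑ i, c i • d i with hz
  have hz0 : z ≠ 0 := by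
    intro h0
    simp [hz, d, Fin.sum_univ_three] at h0
    obtain ⟨a, b, e⟩ := hind _ _ _ h0
    exact hc0 (funext fun i => by fin_cases i <;> assumption)
  have hQz : Q4 F z = 0 := by
    rw [← beta8_self, hz, beta8_sum]
    exact Eq.trans (Finset.sum_congr rfl fun s _ => by simp [Fin.prod_univ_two]) hc
  have hgz : ap g z = z := by
    rw [hz, map_sum]
    exact Finset.sum_congr rfl fun i _ => by
      rw [map_smul]; fin_cases i <;> simp [d, hg.2, hu, hx]
  obtain ⟨y, hy, hy0⟩ : ∃ y, ap g y = y ∧ polar ⇑(Q4 F) z y ≠ 0 := by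
    by_contra! h
    exact hz0 (fixed_nondeg h3 hg3 hgz h)
  set y' := (polar ⇑(Q4 F) z y)⁻¹ • y
  refine ⟨omul z (oConj y'), ?_, ?_, ?_⟩
  · rw [au_omul hg, au_conj hg, hgz, map_smul, hy]
  · rw [Q_omul, hQz, zero_mul]
  · have : polar ⇑(Q4 F) z y' = 1 := by rw [pl_smul_right, inv_mul_cancel₀ hy0]
    rw [← this, polar_eq_oB]; simp [oB, omul]; ring

/-! ### elements of order three of `SL₃` with a fixed vector -/

theorem det_sub_eq (A : Matrix (Fin 3) (Fin 3) F) (hA : A.det = 1) (hA3 : A * A * A = 1) (t : F) :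
    (A - t • 1).det = -(t * t * t) + A.trace * (t * t) - (A * A).trace * t + 1 := by
  have hadj : A.adjugate = A * A := by
    have h := Matrix.adjugate_mul A
    rw [hA, one_smul] at h
    calc A.adjugate = A.adjugate * (A * A * A) := by rw [hA3, mul_one]
      _ = A.adjugate * A * (A * A) := by simp only [mul_assoc]
      _ = A * A := by rw [h, one_mul]
  rw [← hadj, ← hA]
  simp [Matrix.det_fin_three, Matrix.trace_fin_three, Matrix.adjugate_fin_three, Matrix.smul_apply]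
  ring

theorem exists_companion (h3 : (3 : F) ≠ 0) {A : Matrix (Fin 3) (Fin 3) F} (hA : A.det = 1)
    (hA3 : A * A * A = 1) (hA1 : A ≠ 1) (h0 : (A - 1).det = 0) :
    ∃ B : Matrix (Fin 3) (Fin 3) F, B.det = 1 ∧
      A * B = B * !![1, 0, 0; 0, 0, -1; 0, 1, -1] := by
  obtain ⟨v, hv0, hv⟩ := Matrix.exists_mulVec_eq_zero_iff.2 h0
  rw [Matrix.sub_mulVec, Matrix.one_mulVec, sub_eq_zero] at hv
  have hM : A.trace = (A * A).trace := by
    have h := det_sub_eq A hA hA3 1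
    rw [one_smul, h0] at h
    linear_combination -h
  -- an eigenvalue other than one kills the trace
  have heig : ∀ {r : F} {w : Fin 3 → F}, w ≠ 0 → A *ᵥ w = r • w → r * r + r + 1 = 0 → A.trace = 0 := by
    intro r w hw hr hr0
    have h : (A - r • 1).det = 0 := Matrix.exists_mulVec_eq_zero_iff.1
      ⟨w, hw, by rw [Matrix.sub_mulVec, Matrix.smul_mulVec, Matrix.one_mulVec, hr, sub_self]⟩
    rw [det_sub_eq A hA hA3, ← hM] at h
    have hr3 : r * r * r = 1 := by linear_combination (r - 1) * hr0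
    have h' : A.trace * (r * r - r) = 0 := by linear_combination h + hr3
    refine (mul_eq_zero.1 h').resolve_right fun hh => h3 ?_
    have hr1 : r = 1 := by
      have : r * (r - 1) = 0 := by linear_combination hh
      rcases mul_eq_zero.1 this with e | e
      · rw [e] at hr0; simp at hr0
      · exact sub_eq_zero.1 e
    rw [hr1] at hr0; linear_combination hr0
  have hkill : ∀ y, A *ᵥ (A *ᵥ (A *ᵥ y - y)) = -(A *ᵥ y - y) - A *ᵥ (A *ᵥ y - y) := fun y => by
    simp only [Matrix.mulVec_sub, Matrix.mulVec_mulVec]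
    simp only [← mul_assoc]
    rw [show A * A * A = 1 from hA3, Matrix.one_mulVec]
    abel
  obtain ⟨w, hw, hne⟩ : ∃ w, A *ᵥ (A *ᵥ w) = -w - A *ᵥ w ∧ ∀ r : F, A *ᵥ w ≠ r • w := by
    by_contra! hall
    have hr : ∀ y, ∃ r, A *ᵥ (A *ᵥ y - y) = r • (A *ᵥ y - y) := fun y => hall _ (hkill y)
    obtain ⟨y₀, hy₀⟩ : ∃ y₀, A *ᵥ y₀ - y₀ ≠ 0 := by
      by_contra! h
      exact hA1 (Matrix.ext_of_mulVec_single fun i => by
        rw [Matrix.one_mulVec]; exact sub_eq_zero.1 (h _))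
    obtain ⟨r, hr0⟩ := hr y₀
    set w₀ := A *ᵥ y₀ - y₀ with hw₀
    have hrr : r * r + r + 1 = 0 := by
      have h := hkill y₀
      rw [← hw₀, hr0, Matrix.mulVec_smul, hr0, smul_smul] at h
      have h' : (r * r + r + 1) • w₀ = 0 := by linear_combination (norm := module) h
      exact (smul_eq_zero.1 h').resolve_right hy₀
    have htr := heig hy₀ hr0 hrr
    have hall' : ∀ y, A *ᵥ (A *ᵥ y - y) = r • (A *ᵥ y - y) := by
      intro y
      set z := A *ᵥ y - y with hz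
      obtain ⟨r₁, h1⟩ := hr y
      rw [← hz] at h1
      obtain ⟨r₂, h2⟩ := hr (y + y₀)
      rw [Matrix.mulVec_add, show A *ᵥ y + A *ᵥ y₀ - (y + y₀) = z + w₀ by rw [hz, hw₀]; abel,
        Matrix.mulVec_add, hr0, h1] at h2
      have e : (r₁ - r₂) • z = (r₂ - r) • w₀ := by linear_combination (norm := module) h2
      by_cases h12 : r₁ = r₂
      · rw [h12, sub_self, zero_smul] at e
        rcases smul_eq_zero.1 e.symm with e' | e'
        · rw [h1, h12, sub_eq_zero.1 e']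
        · exact absurd e' hy₀
      · rw [← inv_smul_smul₀ (sub_ne_zero.2 h12) z, e, Matrix.mulVec_smul, Matrix.mulVec_smul, hr0]
        module
    have hq : A * A = (1 + r) • A - r • 1 := Matrix.ext_of_mulVec_single fun i => by
      have h := hall' (Pi.single i 1)
      rw [Matrix.mulVec_sub, Matrix.mulVec_mulVec] at h
      rw [Matrix.sub_mulVec, Matrix.smul_mulVec, Matrix.smul_mulVec, Matrix.one_mulVec]
      linear_combination (norm := module) h
    have h := congrArg Matrix.trace hq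
    rw [← hM, Matrix.trace_sub, Matrix.trace_smul, Matrix.trace_smul, htr, Matrix.trace_one] at h
    simp at h
    rcases h with h | h
    · simp [h] at hrr
    · exact h3 h
  have hw0 : w ≠ 0 := fun h => hne 0 (by rw [h, Matrix.mulVec_zero, smul_zero])
  have hind : ∀ a b d : F, a • v + b • w + d • (A *ᵥ w) = 0 → a = 0 ∧ b = 0 ∧ d = 0 := by
    intro a b d h
    have h1 := congrArg (A *ᵥ ·) h
    simp only [Matrix.mulVec_add, Matrix.mulVec_smul, Matrix.mulVec_zero, hv, hw] at h1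
    have h2 := congrArg (A *ᵥ ·) h1
    simp only [Matrix.mulVec_add, Matrix.mulVec_smul, Matrix.mulVec_sub, Matrix.mulVec_neg,
      Matrix.mulVec_zero, hv, hw] at h2
    have h4 : ((3 : F) * a) • v = 0 := by linear_combination (norm := module) h + h1 + h2
    have ha : a = 0 := (mul_eq_zero.1 ((smul_eq_zero.1 h4).resolve_right hv0)).resolve_left h3
    rw [ha, zero_smul, zero_add] at h
    by_cases hd : d = 0
    · rw [hd, zero_smul, add_zero] at h
      exact ⟨ha, (smul_eq_zero.1 h).resolve_right hw0, hd⟩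
    · refine absurd ?_ (hne (-b / d))
      rw [← inv_smul_smul₀ hd (A *ᵥ w), show d • (A *ᵥ w) = -(b • w) from eq_neg_of_add_eq_zero_right h]
      module
  let B₀ : Matrix (Fin 3) (Fin 3) F := Matrix.of fun i j => ![v, w, A *ᵥ w] j i
  have hd0 : B₀.det ≠ 0 := by
    intro h
    obtain ⟨e, he, he0⟩ := Matrix.exists_mulVec_eq_zero_iff.2 h
    have h' : e 0 • v + e 1 • w + e 2 • (A *ᵥ w) = 0 := by
      rw [← he0]
      funext i
      simp [B₀, Matrix.mulVec, dotProduct, Fin.sum_univ_three]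
      ring
    obtain ⟨a, b, d⟩ := hind _ _ _ h'
    exact he (funext fun i => by fin_cases i <;> assumption)
  let B : Matrix (Fin 3) (Fin 3) F := Matrix.of fun i j => ![B₀.det⁻¹ • v, w, A *ᵥ w] j i
  refine ⟨B, ?_, ?_⟩
  · have : B.det = B₀.det⁻¹ * B₀.det := by simp [B, B₀, Matrix.det_fin_three]; ring
    rw [this, inv_mul_cancel₀ hd0]
  · ext i j
    rw [Matrix.mul_apply, show (∑ k, A i k * B k j) = (A *ᵥ (![B₀.det⁻¹ • v, w, A *ᵥ w] j)) i from rfl]
    fin_cases j <;> simp [B, Matrix.mul_apply, Fin.sum_univ_three, Matrix.mulVec_smul, hv, hw]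
    ring

theorem gA_eq_dAu : gA F = dAu !![1, 0, 0; 0, 0, -1; 0, 1, -1] (by simp [Matrix.det_fin_three]) :=
  ext_ap fun x => by
    rw [ap_gA, ap_dAu]
    apply ext8 <;> (simp [dLin]; try ring)

theorem au_order_three (h3 : (3 : F) ≠ 0) {g : IsoGrp (Q4 F)} (hg : g ∈ Au F)
    (hg3 : ∀ x, ap g (ap g (ap g x)) = x) {u x : IJ → F} (hu : ap g u = u) (hx : ap g x = x)
    (htr : u (.inl 0) + u (.inr 0) = -1) (hQu : Q4 F u = 1) (hQx : Q4 F x ≠ 0)
    (hx1 : polar ⇑(Q4 F) x oOne = 0) (hxu : polar ⇑(Q4 F) x u = 0) :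
    g = 1 ∨ ∃ p ∈ Au F, ∀ y, ap g (ap p y) = ap p (ap (gA F) y) := by
  obtain ⟨hind, c, hc, hQc, htc⟩ := exists_iso_fixed h3 hg hg3 hu hx htr hQu hQx hx1 hxu
  obtain ⟨p, hp, hpc⟩ := exists_au_idem hQc htc
  set q := p⁻¹ * g * p
  have hq : q ∈ Au F := mul_mem (mul_mem (inv_mem hp) hg) hp
  obtain ⟨A, hA, hqA⟩ := exists_dAu hq (by
    rw [ap_mul, ap_mul, hpc, hc, ← hpc, ap_inv_ap])
  have hA3 : A * A * A = 1 := by
    refine dAu_inj (hB := by rw [Matrix.det_mul, Matrix.det_mul, hA, one_mul, one_mul]) (hC := Matrix.det_one) ?_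
    rw [← dAu_mul (by rw [Matrix.det_mul, hA, one_mul]) hA, ← dAu_mul hA hA, dAu_one, ← hqA]
    refine ext_ap fun y => ?_
    simp [q, ap_mul, hg3]
  by_cases hA1 : A = 1
  · left
    have : q = 1 := by subst hA1; rw [hqA, dAu_one]
    simpa [q, mul_assoc, inv_mul_eq_one] using this
  right
  have hdet : (A - 1).det = 0 := by
    by_contra hd
    have hL : ∀ y, ap q y = y → vL y = 0 ∧ vR y = 0 := by
      intro y hy
      rw [hqA, ap_dAu] at hy
      have eL : A *ᵥ vL y = vL y := by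
        conv_rhs => rw [← hy]
        funext i; fin_cases i <;> simp [dLin, vL, Matrix.mulVec, dotProduct, Fin.sum_univ_three]
      have eR : A.adjugateᵀ *ᵥ vR y = vR y := by
        conv_rhs => rw [← hy]
        funext i
        fin_cases i <;>
          simp [dLin, vR, Matrix.mulVec, dotProduct, Fin.sum_univ_three, Matrix.adjugate_fin_three, -mul_eq_mul_left_iff, -mul_eq_mul_right_iff] <;> ring
      constructor
      · by_contra h0
        exact hd (Matrix.exists_mulVec_eq_zero_iff.1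
          ⟨_, h0, by rw [Matrix.sub_mulVec, Matrix.one_mulVec, eL, sub_self]⟩)
      · by_contra h0
        have eT : Aᵀ *ᵥ vR y = vR y := by
          conv_lhs => rw [← eR, Matrix.mulVec_mulVec, ← Matrix.transpose_mul, Matrix.adjugate_mul, hA,
            one_smul, Matrix.transpose_one, Matrix.one_mulVec]
        refine hd ?_
        rw [← Matrix.det_transpose]
        exact Matrix.exists_mulVec_eq_zero_iff.1
          ⟨_, h0, by rw [Matrix.transpose_sub, Matrix.transpose_one, Matrix.sub_mulVec, Matrix.one_mulVec,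
            eT, sub_self]⟩
    let f : (Fin 3 → F) →ₗ[F] (F × F) :=
      ((LinearMap.proj (Sum.inl 0)).prod (LinearMap.proj (Sum.inr 0))) ∘ₗ
        Fintype.linearCombination F ![ap p⁻¹ oOne, ap p⁻¹ u, ap p⁻¹ x]
    have hinj : Function.Injective f := by
      rw [← LinearMap.ker_eq_bot, LinearMap.ker_eq_bot']
      intro e he
      set y := Fintype.linearCombination F ![ap p⁻¹ oOne, ap p⁻¹ u, ap p⁻¹ x] e with hy
      have hyy : y = ap p⁻¹ (e 0 • oOne + e 1 • u + e 2 • x) := by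
        simp [hy, Fintype.linearCombination_apply, Fin.sum_univ_three]
      have hfix : ap q y = y := by
        rw [hyy, ap_mul, ap_mul, ap_ap_inv]
        simp only [map_add, map_smul, hg.2, hu, hx]
      obtain ⟨hl, hr⟩ := hL y hfix
      have hl0 : y (.inl 0) = 0 := congrArg Prod.fst he
      have hr0 : y (.inr 0) = 0 := congrArg Prod.snd he
      have hy0 : y = 0 := by
        apply ext8
        · exact hl0
        · exact congrFun hl 0
        · exact congrFun hl 1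
        · exact congrFun hl 2
        · exact hr0
        · exact congrFun hr 0
        · exact congrFun hr 1
        · exact congrFun hr 2
      rw [hyy] at hy0
      have h' := congrArg (ap p) hy0
      rw [ap_ap_inv, map_zero] at h'
      obtain ⟨a, b, d⟩ := hind _ _ _ h'
      funext i; fin_cases i <;> assumption
    have := LinearMap.finrank_le_finrank_of_injective hinj
    simp at this
  obtain ⟨B, hB, hAB⟩ := exists_companion h3 hA hA3 hA1 hdet
  refine ⟨p * dAu B hB, mul_mem hp (dAu_mem B hB), fun y => ?_⟩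
  rw [ap_mul, ap_mul]
  conv_lhs => rw [← ap_ap_inv p (ap g (ap p (ap (dAu B hB) y)))]
  congr 1
  rw [← ap_mul, ← ap_mul, ← ap_mul, ← ap_mul]
  show ap (q * dAu B hB) y = _
  rw [hqA, gA_eq_dAu, dAu_mul, dAu_mul, dAu_ext _ _ hAB]

theorem exists_model (h3 : (3 : F) ≠ 0) {a : Sim (Q4 F)} (ha : a ∈ Trip F) {σ : F ≃+* F}
    (hx : (conjAut (Q4 F) a * triality F * galHom 4 F σ) ^ 3 = 1) :
    ∃ (α : MulAut P8) (g : IsoGrp (Q4 F)), (g = 1 ∧ (∀ t, σ (σ (σ t)) = t) ∨ g = gA F ∧ σ = 1) ∧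
      α * (conjAut (Q4 F) a * triality F * galHom 4 F σ) * α⁻¹ =
        conjAut (Q4 F) (toSim _ g) * triality F * galHom 4 F σ := by
  obtain ⟨α, g, hg, e⟩ := exists_au_form h3 ha hx
  have hx' : (conjAut (Q4 F) (toSim _ g) * triality F * galHom 4 F σ) ^ 3 = 1 := by
    rw [← e, conj_pow, hx, mul_one, mul_inv_cancel]
  obtain ⟨hσ3, hg3⟩ := au_cube hg hx'
  by_cases hσ : σ = 1
  swap
  · obtain ⟨h, hh, hd⟩ := exists_descent hσ hσ3 hg hg3
    refine ⟨conjAut (Q4 F) (toSim _ h)⁻¹ * α, 1, .inl ⟨rfl, hσ3⟩, ?_⟩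
    rw [← conj_au_eq h hh (g := g) (g' := 1) σ (fun x => by
      rw [show ap g (σ ∘ ap h x) = ap h (σ ∘ x) from hd x, ap_inv_ap, ap_one]), ← e]
    group
  subst hσ
  have hg3' : ∀ x, ap g (ap g (ap g x)) = x := hg3
  by_cases hg1 : g = 1
  · exact ⟨α, g, .inl ⟨hg1, hσ3⟩, e⟩
  obtain ⟨β, g', hg', e', u, x, hu, hx0, htr, hQu, hQx, hx1, hxu⟩ := exists_switch h3 hg hg1 hg3'
  simp only [map_one, mul_one] at e hx' ⊢
  have hx'' : (conjAut (Q4 F) (toSim _ g') * triality F * galHom 4 F 1) ^ 3 = 1 := by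
    rw [map_one, mul_one, ← e', conj_pow, hx', mul_one, mul_inv_cancel]
  have hg'3 : ∀ x, ap g' (ap g' (ap g' x)) = x := (au_cube hg' hx'').2
  rcases au_order_three h3 hg' hg'3 hu hx0 htr hQu hQx hx1 hxu with h1 | ⟨p, hp, hh⟩
  · refine ⟨β * α, g', .inl ⟨h1, hσ3⟩, ?_⟩
    rw [← e', ← e]; group
  · refine ⟨conjAut (Q4 F) (toSim _ p)⁻¹ * β * α, gA F, .inr ⟨rfl, trivial⟩, ?_⟩
    have := conj_au_eq p hp (g := g') (g' := gA F) (1 : F ≃+* F) (fun y => by
      show ap p⁻¹ (ap g' (ap p y)) = _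
      rw [hh, ap_inv_ap]; rfl)
    simp only [map_one, mul_one] at this
    rw [← this, ← e', ← e]; group

end Cfsg.Agent.LocalBalance
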