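import Cfsg.Agent.Lib.LocalBalance.TriCore
import Cfsg.Agent.Lib.LocalBalance.PlusMain

/-!
# Rigidity in the triality coset

* `Cm a τ p` : `p` commutes with `x ↦ a (τ x)`
* `plain_or_conj` : the action on the quaternion algebra
* `scalar_of_plain` : the action on the octonions
* `rigid_model` : an automorphism commuting with `conj(g) τ φ` and fixing its fixed points has cube `1`
-/

set_option autoImplicit false
set_option linter.unusedSectionVars false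

namespace Cfsg.Agent.LocalBalance

open Cfsg Matrix Cfsg.Agent.Orth Cfsg.Agent.AutPOmega Cfsg.Agent.Triality
open Cfsg.Agent.OrthOuter (Sim sap toSim conjAut isoConj)

variable {F : Type*} [Field F] [Fintype F]

set_option quotPrecheck false in
local notation "P8" => POmega F ⇑(Q4 F)

/-! ### the semilinear map -/

/-- `p` commutes with `x ↦ a (τ x)`. -/
def Cm (a : Sim (Q4 F)) (τ : F ≃+* F) (p : IsoGrp (Q4 F)) : Prop :=
  ∀ x, ap p (sap a (τ ∘ x)) = sap a (τ ∘ ap p x)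

theorem Cm.conj {a A : Sim (Q4 F)} {τ : F ≃+* F} {m : IsoGrp (Q4 F)}
    (h : Cm a τ (isoConj (Q4 F) A m)) : Cm (A⁻¹ * a * galSim τ A) τ m := by
  intro x
  simp only [OrthOuter.sap_mul, sap_galSim]
  refine sap_injective A ?_
  rw [← ap_conjS, OrthOuter.sap_sap_inv, OrthOuter.sap_sap_inv, h, ap_conjS]

theorem Cm.graph {a : Sim (Q4 F)} {τ : F ≃+* F} {p : IsoGrp (Q4 F)} (hp : p ∈ Au F) (h : Cm a τ p) :
    Cm (a * toSim _ (cIso F)) τ p := by
  intro x
  simp only [OrthOuter.sap_mul, OrthOuter.sap_toSim, ap_cIso, ← gal_oConj, ← au_conj hp]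
  exact h _

/-- What is used about the commutation. -/
def Base3 (a : Sim (Q4 F)) (τ σ : F ≃+* F) : Prop :=
  Cm a τ (gA F) ∧ ∀ t : F, σ t = t → Cm a τ (Xs t) ∧ Cm a τ (Ys t)

theorem Q_zero (a : Sim (Q4 F)) {τ : F ≃+* F} {x : IJ → F} (h : Q4 F x = 0) :
    Q4 F (sap a (τ ∘ x)) = 0 := by
  rw [OrthOuter.Q_sap exists_Q4_ne a, gal_Q, h, map_zero, mul_zero]

theorem plain_or_conj (h3 : (3 : F) ≠ 0) {a : Sim (Q4 F)} {τ σ : F ≃+* F} (h : Base3 a τ σ) :
    ∃ c : F, c ≠ 0 ∧ (∀ t, σ t = t → τ t = t) ∧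
      ((∀ x, InH x → sap a (τ ∘ x) = c • (τ ∘ x)) ∨
        ∀ x, InH x → sap a (τ ∘ x) = c • oConj (τ ∘ x)) := by
  obtain ⟨hg, hXY⟩ := h
  obtain ⟨hX, hY⟩ := hXY 1 (map_one σ)
  set T : (IJ → F) → IJ → F := fun x => sap a (τ ∘ x) with hTdef
  have hadd : ∀ x y, T (x + y) = T x + T y := fun x y => by simp only [hTdef, gal_add, map_add]
  have hsmul : ∀ (k : F) x, T (k • x) = τ k • T x := fun k x => by simp only [hTdef, gal_smul, map_smul]
  have hH : ∀ x, InH x → InH (T x) := fun x hx =>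
    InH_of_fix h3 (by show ap (gA F) (sap a _) = _; rw [hg, ap_gA_of_InH hx])
  -- the unit
  have o1 : ap (Xs 1) (oOne : IJ → F) = oOne := (Xs_mem 1).2
  have o2 : ap (Ys 1) (oOne : IJ → F) = oOne := (Ys_mem 1).2
  have hIn1 : InH (oOne : IJ → F) := by simp [InH, oOne]
  have fix1 : ∀ {p : IsoGrp (Q4 F)}, Cm a τ p → ∀ {x}, ap p x = x → ap p (T x) = T x :=
      fun {p} hp {x} hx => by
    show ap _ (sap a _) = _
    rw [hp, hx]
  obtain ⟨n, hn⟩ : ∃ n, T oOne = n := ⟨_, rfl⟩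
  have hnH := hH _ hIn1
  have f1 := fix1 hX o1
  have f2 := fix1 hY o2
  rw [hn] at hnH f1 f2
  obtain ⟨z1, z2, z3, z4⟩ := hnH
  have e1 := congrFun f1 (.inl 0)
  have e1' := congrFun f1 (.inl 1)
  have e2 := congrFun f2 (.inl 0)
  simp [ap_Xs] at e1 e1'
  simp [ap_Ys] at e2
  set c := n (.inl 0) with hc
  have hone : T oOne = c • oOne := by
    rw [hn]
    apply ext8 <;> simp [oOne, hc, z1, z2, z3, z4, e1, e2]
    linear_combination e1' - e1
  -- the nilpotent lines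
  have hl1 : InH (bv (.inl 1) : IJ → F) := by simp [InH, Pi.single_apply]
  have hr1 : InH (bv (.inr 1) : IJ → F) := by simp [InH, Pi.single_apply]
  have xl : ap (Xs 1) (bv (.inl 1) : IJ → F) = bv (.inl 1) := by
    apply ext8 <;> simp [ap_Xs, Pi.single_apply]
  have yr : ap (Ys 1) (bv (.inr 1) : IJ → F) = bv (.inr 1) := by
    apply ext8 <;> simp [ap_Ys, Pi.single_apply]
  obtain ⟨va, hva⟩ : ∃ v, T (bv (.inl 1)) = v := ⟨_, rfl⟩
  obtain ⟨vb, hvb⟩ : ∃ v, T (bv (.inr 1)) = v := ⟨_, rfl⟩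
  have qa := Q_zero a (τ := τ) (x := bv (.inl 1)) (by simp [Q4_apply, Pi.single_apply])
  have qb := Q_zero a (τ := τ) (x := bv (.inr 1)) (by simp [Q4_apply, Pi.single_apply])
  change Q4 F (T _) = 0 at qa qb
  have haH := hH _ hl1
  have hbH := hH _ hr1
  have g1 := fix1 hX xl
  have g2 := fix1 hY yr
  rw [hva] at haH g1 qa
  rw [hvb] at hbH g2 qb
  obtain ⟨a2, a3, a6, a7⟩ := haH
  obtain ⟨b2, b3, b6, b7⟩ := hbH
  have g10 := congrFun g1 (.inl 0)
  have g11 := congrFun g1 (.inl 1)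
  have g20 := congrFun g2 (.inl 0)
  have g21 := congrFun g2 (.inr 1)
  simp [ap_Xs] at g10 g11
  simp [ap_Ys] at g20 g21
  rw [g10] at g11
  rw [g20] at g21
  simp [Q4_apply, a2, a3, g10] at qa
  simp [Q4_apply, b2, b3, g20] at qb
  set k := va (.inl 1) with hk
  set k' := vb (.inr 1) with hk'
  have ea : T (bv (.inl 1)) = k • bv (.inl 1) := by
    rw [hva]
    have hsq : va (.inl 0) * va (.inl 0) = 0 := by grind
    have h0 := mul_self_eq_zero.1 hsq
    apply ext8 <;> simp [Pi.single_apply, hk, h0, a2, a3, a6, a7, g10]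
    linear_combination g11 + h0
  have eb : T (bv (.inr 1)) = k' • bv (.inr 1) := by
    rw [hvb]
    have hsq : vb (.inl 0) * vb (.inl 0) = 0 := by grind
    have h0 := mul_self_eq_zero.1 hsq
    apply ext8 <;> simp [Pi.single_apply, hk', h0, b2, b3, b6, b7, g20]
    linear_combination g21 + h0
  -- the idempotent
  have hl0 : InH (bv (.inl 0) : IJ → F) := by simp [InH, Pi.single_apply]
  obtain ⟨p2, p3, p6, p7⟩ := hH _ hl0
  have hmove : ∀ t, σ t = t →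
      (ap (Xs t) (T (bv (.inl 0))) = T (bv (.inl 0)) - (τ t * k) • bv (.inl 1)) ∧
      (ap (Ys t) (T (bv (.inl 0))) = T (bv (.inl 0)) - (τ t * k') • bv (.inr 1)) := by
    intro t ht
    have hX' : ap (Xs t) (bv (.inl 0) : IJ → F) = bv (.inl 0) + (-t) • bv (.inl 1) := by
      apply ext8 <;> simp [ap_Xs, Pi.single_apply]
    have hY' : ap (Ys t) (bv (.inl 0) : IJ → F) = bv (.inl 0) + (-t) • bv (.inr 1) := by
      apply ext8 <;> simp [ap_Ys, Pi.single_apply]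
    constructor
    · rw [show ap (Xs t) (T (bv (.inl 0))) = T (ap (Xs t) (bv (.inl 0))) from (hXY t ht).1 _, hX', hadd,
        hsmul, ea, smul_smul, map_neg, neg_mul, neg_smul, ← sub_eq_add_neg]
    · rw [show ap (Ys t) (T (bv (.inl 0))) = T (ap (Ys t) (bv (.inl 0))) from (hXY t ht).2 _, hY', hadd,
        hsmul, eb, smul_smul, map_neg, neg_mul, neg_smul, ← sub_eq_add_neg]
  set u := T (bv (.inl 0))
  obtain ⟨m1, m2⟩ := hmove 1 (map_one σ)
  have u5 := congrFun m1 (.inl 0)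
  have m11 := congrFun m1 (.inl 1)
  have u1 := congrFun m2 (.inl 0)
  have m21 := congrFun m2 (.inr 1)
  simp [ap_Xs, Pi.single_apply] at u5 m11
  simp [ap_Ys, Pi.single_apply] at u1 m21
  rw [u5] at m11
  rw [u1] at m21
  have hu4 : u (.inr 0) = u (.inl 0) - k := by linear_combination m11
  have hkk : k' = k := by linear_combination m21 - hu4
  have hTinj : ∀ {x : IJ → F}, T x = 0 → x = 0 := fun {x} hx => by
    have h0 : τ ∘ x = 0 := sap_injective a (hx.trans (map_zero _).symm)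
    funext i
    exact τ.injective ((congrFun h0 i).trans (map_zero τ).symm)
  have hk0 : k ≠ 0 := fun h0 => by
    have := congrFun (hTinj (x := bv (.inl 1)) (by rw [ea, h0, zero_smul])) (.inl 1)
    simp at this
  have hτ : ∀ t, σ t = t → τ t = t := fun t ht => by
    have := congrFun (hmove t ht).1 (.inl 1)
    simp [ap_Xs, Pi.single_apply, u5, hu4] at this
    exact mul_right_cancel₀ hk0 (show τ t * k = t * k by linear_combination this)
  have hr0 : T (bv (.inr 0)) = c • oOne - u := by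
    rw [← hone, eq_sub_iff_add_eq, ← hadd]
    congr 1
    apply ext8 <;> simp [oOne, Pi.single_apply]
  have qu := Q_zero a (τ := τ) (x := bv (.inl 0)) (by simp [Q4_apply, Pi.single_apply])
  have qv := Q_zero a (τ := τ) (x := bv (.inr 0)) (by simp [Q4_apply, Pi.single_apply])
  change Q4 F u = 0 at qu
  change Q4 F (T (bv (.inr 0))) = 0 at qv
  rw [hr0] at qv
  simp [Q4_apply, oOne, p2, p3, p6, p7, u5, u1, hu4] at qu qv
  have hdec : ∀ x : IJ → F, InH x → x = x (.inl 0) • bv (.inl 0) + x (.inl 1) • bv (.inl 1) +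
      x (.inr 0) • bv (.inr 0) + x (.inr 1) • bv (.inr 1) := fun x hx => by
    obtain ⟨q2, q3, q6, q7⟩ := hx
    apply ext8 <;> simp [Pi.single_apply, q2, q3, q6, q7]
  have hcomb : ∀ x : IJ → F, InH x → T x = τ (x (.inl 0)) • u + (τ (x (.inl 1)) * k) • bv (.inl 1) +
      τ (x (.inr 0)) • (c • oOne - u) + (τ (x (.inr 1)) * k) • bv (.inr 1) := fun x hx => by
    conv_lhs => rw [hdec x hx]
    rw [hadd, hadd, hadd, hsmul, hsmul, hsmul, hsmul, hr0, ea, eb, hkk, smul_smul, smul_smul]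
  have hc0 : c ≠ 0 := fun h0 => by
    have := congrFun (hTinj (x := oOne) (by rw [hone, h0, zero_smul])) (.inl 0)
    simp [oOne] at this
  refine ⟨c, hc0, hτ, ?_⟩
  rcases qu with hu0 | hu0
  · right
    intro x hx
    show T x = _
    have hck : k = -c := by
      rcases qv with hv | hv
      · exact absurd (by linear_combination hv + hu0) hc0
      · linear_combination hv + hu0
    obtain ⟨q2, q3, q6, q7⟩ := id hx
    rw [hcomb x hx, hck]
    apply ext8 <;>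
      (simp [oOne, oConj, Pi.single_apply, p2, p3, p6, p7, u5, u1, hu4, hu0, hck, q2, q3, q6, q7]; try ring)
  · left
    intro x hx
    show T x = _
    have hck : k = c := by
      rcases qv with hv | hv
      · linear_combination -hu0 - hv
      · exact absurd (by linear_combination hv + hu0) hc0
    have hu0' : u (.inl 0) = c := by linear_combination hu0 + hck
    obtain ⟨q2, q3, q6, q7⟩ := id hx
    rw [hcomb x hx, hck]
    apply ext8 <;>
      (simp [oOne, Pi.single_apply, p2, p3, p6, p7, u5, u1, hu4, hu0', hck, q2, q3, q6, q7]; try ring)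

theorem scalar_of_plain (h3 : (3 : F) ≠ 0) {a : Sim (Q4 F)} {τ σ : F ≃+* F} (h : Base3 a τ σ) {c : F}
    (hc : c ≠ 0) (hH : ∀ x, InH x → sap a (τ ∘ x) = c • (τ ∘ x)) {v w : IJ → F} (hv : InH v)
    (hw : w (.inl 0) = 0 ∧ w (.inl 1) = 0 ∧ w (.inl 2) = 1 ∧ w (.inr 0) = 0 ∧ w (.inr 1) = 0)
    (hτw : τ ∘ w = w) (hN : w (.inl 3) = -1 ∨ w (.inl 3) = 2)
    (hvw : sap a (τ ∘ (v + w)) = c • (τ ∘ (v + w))) : a = OrthOuter.scal (Q4 F) (Units.mk0 c hc) := by
  obtain ⟨hg, hXY⟩ := h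
  obtain ⟨hX, hY⟩ := hXY 1 (map_one σ)
  set T : (IJ → F) → IJ → F := fun x => sap a (τ ∘ x) with hTdef
  have hadd : ∀ x y, T (x + y) = T x + T y := fun x y => by simp only [hTdef, gal_add, map_add]
  have hsub : ∀ x y, T (x - y) = T x - T y := fun x y => by
    rw [eq_sub_iff_add_eq, ← hadd, sub_add_cancel]
  have hsmul : ∀ (k : F) x, T (k • x) = τ k • T x := fun k x => by simp only [hTdef, gal_smul, map_smul]
  have hw' : T w = c • w := by
    have := hvw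
    change T (v + w) = _ at this
    rw [hadd, show T v = _ from hH v hv, gal_add, smul_add, add_right_inj, hτw] at this
    exact this
  have hWz : ∀ y : IJ → F, T (ap (gA F) y - y) (.inl 0) = 0 ∧ T (ap (gA F) y - y) (.inl 1) = 0 ∧
      T (ap (gA F) y - y) (.inr 0) = 0 ∧ T (ap (gA F) y - y) (.inr 1) = 0 := fun y => by
    rw [hsub, show T (ap (gA F) y) = ap (gA F) (T y) from (hg y).symm]
    simp [ap_gA]
  have h3' : τ (3 : F) = 3 := by exact_mod_cast map_natCast τ 3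
  have hl : T (bv (.inl 2)) (.inl 0) = 0 ∧ T (bv (.inl 2)) (.inl 1) = 0 ∧ T (bv (.inl 2)) (.inr 0) = 0 ∧
      T (bv (.inl 2)) (.inr 1) = 0 := by
    have e : ap (gA F) (mk8 0 0 (-2) (-1) 0 0 0 0) - mk8 0 0 (-2) (-1) 0 0 0 0 =
        (3 : F) • bv (.inl 2) := by
      apply ext8 <;> simp [ap_gA, Pi.single_apply] <;> ring
    have h4 := hWz (mk8 0 0 (-2) (-1) 0 0 0 0)
    rw [e, hsmul, h3'] at h4
    simpa [h3] using h4
  obtain ⟨z0, z1, z4, z5⟩ := hl
  have fy : ap (Ys 1) (T (bv (.inl 2))) = T (bv (.inl 2)) := by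
    show ap _ (sap a _) = _
    rw [hY, show ap (Ys 1) (bv (.inl 2) : IJ → F) = bv (.inl 2) by
      apply ext8 <;> simp [ap_Ys, Pi.single_apply]]
  have z7 := congrFun fy (.inl 2)
  have z6 := congrFun fy (.inl 3)
  simp [ap_Ys] at z7 z6
  set p := T (bv (.inl 2)) (.inl 2)
  set q := T (bv (.inl 2)) (.inl 3)
  have t2 : T (bv (.inl 2)) = mk8 0 0 p q 0 0 0 0 := by
    apply ext8 <;> simp [p, q, z0, z1, z4, z5, z6, z7]
  have t3 : T (bv (.inl 3)) = mk8 0 0 (-q) (p - q) 0 0 0 0 := by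
    rw [show (bv (.inl 3) : IJ → F) = ap (gA F) (bv (.inl 2)) by
      apply ext8 <;> simp [ap_gA, Pi.single_apply],
      show T (ap (gA F) _) = ap (gA F) (T _) from (hg _).symm, t2]
    apply ext8 <;> simp [ap_gA]
  have s3 : T (bv (.inr 3)) = mk8 0 0 0 0 0 0 (-q) p := by
    rw [show (bv (.inr 3) : IJ → F) = ap (Xs 1) (bv (.inl 2)) - bv (.inl 2) by
      apply ext8 <;> simp [ap_Xs, Pi.single_apply],
      hsub, show T (ap (Xs 1) _) = ap (Xs 1) (T _) from (hX _).symm, t2]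
    apply ext8 <;> simp [ap_Xs]
  have s2 : T (bv (.inr 2)) = mk8 0 0 0 0 0 0 (p - q) q := by
    rw [show (bv (.inr 2) : IJ → F) = bv (.inl 3) - ap (Xs 1) (bv (.inl 3)) by
      apply ext8 <;> simp [ap_Xs, Pi.single_apply],
      hsub, show T (ap (Xs 1) _) = ap (Xs 1) (T _) from (hX _).symm, t3]
    apply ext8 <;> simp [ap_Xs]
  obtain ⟨w0, w1, w2, w4, w5⟩ := hw
  have hwd : w = bv (.inl 2) + w (.inl 3) • bv (.inl 3) + w (.inr 2) • bv (.inr 2) +
      w (.inr 3) • bv (.inr 3) := by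
    apply ext8 <;> simp [Pi.single_apply, w0, w1, w2, w4, w5]
  have hWeq := hw'
  conv_lhs at hWeq => rw [hwd]
  have hfix : ∀ i, τ (w i) = w i := fun i => congrFun hτw i
  rw [hadd, hadd, hadd, hsmul, hsmul, hsmul, hfix, hfix, hfix, t2, t3, s2, s3] at hWeq
  have k2 := congrFun hWeq (.inl 2)
  have k3 := congrFun hWeq (.inl 3)
  simp [w2] at k2 k3
  have hpq : q = 0 ∧ p = c := by
    rcases hN with hn | hn <;> rw [hn] at k2 k3
    · have : q = 0 := (mul_eq_zero.1 (show (3 : F) * q = 0 by linear_combination k2 + k3)).resolve_left h3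
      exact ⟨this, by linear_combination k2 - this⟩
    · have : q = 0 := (mul_eq_zero.1 (show (3 : F) * q = 0 by linear_combination k3 - 2 * k2)).resolve_left h3
      exact ⟨this, by linear_combination k2 + 2 * this⟩
  refine OrthOuter.ext_sap fun y => ?_
  obtain ⟨x, rfl⟩ : ∃ x : IJ → F, τ ∘ x = y := ⟨τ.symm ∘ y, funext fun i => by simp⟩
  rw [OrthOuter.sap_scal]
  show T x = c • (τ ∘ x)
  have hx : x = mk8 (x (.inl 0)) (x (.inl 1)) 0 0 (x (.inr 0)) (x (.inr 1)) 0 0 + x (.inl 2) • bv (.inl 2) +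
      x (.inl 3) • bv (.inl 3) + x (.inr 2) • bv (.inr 2) + x (.inr 3) • bv (.inr 3) := by
    apply ext8 <;> simp [Pi.single_apply]
  conv_lhs => rw [hx]
  rw [hadd, hadd, hadd, hadd, hsmul, hsmul, hsmul, hsmul, t2, t3, s2, s3, hpq.1, hpq.2,
    show T (mk8 _ _ 0 0 _ _ 0 0) = _ from hH _ (by simp [InH])]
  apply ext8 <;> simp <;> ring

/-! ### automorphisms fixing the fixed points -/

theorem triConj_mem {g g' : IsoGrp (Q4 F)} {σ : F ≃+* F} {T1 T2 T3 : Sim (Q4 F)} (hT : TriSim T1 T2 T3)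
    (h12 : ∀ x, Sg g σ (sap T2 x) = sap T1 (Sg g' σ x))
    (h23 : ∀ x, Sg g σ (sap T3 x) = sap T2 (Sg g' σ x))
    (h31 : ∀ x, Sg g σ (sap T1 x) = sap T3 (Sg g' σ x)) {e : IsoGrp (Q4 F)} (he : e ∈ Au F)
    (ho : e ∈ Omega F ⇑(Q4 F)) (hc : ∀ x, ap e (Sg g' σ x) = Sg g' σ (ap e x)) :
    triConj T1 T2 T3 e ∈ GF g σ := by
  refine ⟨⟨⟨isoConj_mem_omega _ ho, isoConj_mem_omega _ ho, isoConj_mem_omega _ ho⟩, ?_⟩, fun x => ?_⟩
  · obtain ⟨lam, hlam, hl⟩ := id hT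
    intro x y z
    obtain ⟨x, rfl⟩ : ∃ v, sap T1 v = x := ⟨_, OrthOuter.sap_sap_inv T1 x⟩
    obtain ⟨y, rfl⟩ : ∃ v, sap T2 v = y := ⟨_, OrthOuter.sap_sap_inv T2 y⟩
    obtain ⟨z, rfl⟩ : ∃ v, sap T3 v = z := ⟨_, OrthOuter.sap_sap_inv T3 z⟩
    show tri (ap (isoConj (Q4 F) T1 e) _) (ap (isoConj (Q4 F) T2 e) _) (ap (isoConj (Q4 F) T3 e) _) = _
    rw [ap_conjS, ap_conjS, ap_conjS, hl, hl, he.1]
  · have key : ∀ {A B : Sim (Q4 F)}, (∀ x, Sg g σ (sap B x) = sap A (Sg g' σ x)) → ∀ x,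
        ap (isoConj (Q4 F) A e) (Sg g σ x) = Sg g σ (ap (isoConj (Q4 F) B e) x) := fun {A B} h x => by
      obtain ⟨x, rfl⟩ : ∃ v, sap B v = x := ⟨_, OrthOuter.sap_sap_inv B x⟩
      rw [h, ap_conjS, hc, ap_conjS, h]
    exact ⟨key h12 x, key h23 x, key h31 x⟩

theorem Xs_add (s t : F) : Xs s * Xs t = Xs (s + t) := ext_ap fun x => by
  rw [ap_mul]; apply ext8 <;> (simp [ap_Xs]; try ring)

theorem Ys_add (s t : F) : Ys s * Ys t = Ys (s + t) := ext_ap fun x => by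
  rw [ap_mul]; apply ext8 <;> (simp [ap_Ys]; try ring)

/-- What fixing the fixed points gives. -/
theorem cm_of_fix {a : Sim (Q4 F)} {τ : F ≃+* F} {q : IsoGrp (Q4 F)}
    (hq : q ∈ Omega F ⇑(Q4 F)) (hfix : (conjAut (Q4 F) a * galHom 4 F τ) (om q) = om q) :
    ∃ s : F, s * s = 1 ∧ ∀ x, sap a (τ ∘ ap q x) = s • ap q (sap a (τ ∘ x)) := by
  obtain ⟨q', hq', e, f⟩ := galHom_om τ hq
  rw [MulAut.mul_apply, e, conjAut_om _ hq'] at hfix
  obtain ⟨s, hs, hx⟩ := (om_eq_iff base4 hq (isoConj_mem_omega _ hq')).1 hfix.symm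
  exact ⟨s, hs, fun x => by rw [← hx, ap_conjS, f]⟩

theorem half_fix {σ : F ≃+* F} {t : F} (ht : σ t = t) : σ (t / 2) = t / 2 := by
  rw [map_div₀, ht, show σ (2 : F) = 2 from by exact_mod_cast map_natCast σ 2]

theorem base3_of_fix {a : Sim (Q4 F)} {τ σ : F ≃+* F} {g : IsoGrp (Q4 F)} (hg : g ∈ Au F)
    (hfix : ∀ k ∈ fixK (triAut g σ), (conjAut (Q4 F) a * galHom 4 F τ) k = k) {A : Sim (Q4 F)}
    (hA : ∀ m, m = gA F ∨ (∃ t, σ t = t ∧ (m = Xs t ∨ m = Ys t)) →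
      ∃ P ∈ GF g σ, P.1 = isoConj (Q4 F) A m) :
    Cm a τ (isoConj (Q4 F) A (gA F)) ∧ ∀ t, σ t = t →
      Cm a τ (isoConj (Q4 F) A (Xs t)) ∧ Cm a τ (isoConj (Q4 F) A (Ys t)) := by
  have hs : ∀ m, m = gA F ∨ (∃ t, σ t = t ∧ (m = Xs t ∨ m = Ys t)) → ∃ s : F, s * s = 1 ∧
      ∀ x, sap a (τ ∘ ap (isoConj (Q4 F) A m) x) = s • ap (isoConj (Q4 F) A m) (sap a (τ ∘ x)) := by
    intro m hm
    obtain ⟨P, hP, e⟩ := hA m hm
    have ho : P.1 ∈ Omega F ⇑(Q4 F) := hP.1.1.1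
    have hk : (conjAut (Q4 F) a * galHom 4 F τ) (om P.1) = om P.1 :=
      hfix _ (fstG hg σ ⟨P, hP⟩).2
    rw [← e]
    exact cm_of_fix ho hk
  have sq : ∀ m, m = gA F ∨ (∃ t, σ t = t ∧ (m = Xs t ∨ m = Ys t)) →
      Cm a τ (isoConj (Q4 F) A (m * m)) := by
    intro m hm x
    obtain ⟨s, hs2, hx⟩ := hs m hm
    rw [map_mul, ap_mul, ap_mul, hx, hx, map_smul, smul_smul, hs2, one_smul]
  refine ⟨?_, fun t ht => ?_⟩
  · intro x
    have e : gA F = gA F * gA F * (gA F * gA F) := by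
      rw [show gA F * gA F * (gA F * gA F) = gA F * gA F * gA F * gA F by simp only [mul_assoc],
        ← _root_.sq, ← pow_succ, gA_cube, one_mul]
    have h2 := sq _ (.inl rfl)
    rw [e, map_mul, ap_mul, ap_mul, h2, h2]
  · by_cases h2 : (2 : F) = 0
    · have one : ∀ m, m = gA F ∨ (∃ t, σ t = t ∧ (m = Xs t ∨ m = Ys t)) →
          Cm a τ (isoConj (Q4 F) A m) := fun m hm x => by
        obtain ⟨s, hs2, hx⟩ := hs m hm
        have : s = 1 := by
          rcases mul_self_eq_one_iff.1 hs2 with h | h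
          · exact h
          · linear_combination h - h2
        rw [hx, this, one_smul]
      exact ⟨one _ (.inr ⟨t, ht, .inl rfl⟩), one _ (.inr ⟨t, ht, .inr rfl⟩)⟩
    · haveI : NeZero (2 : F) := ⟨h2⟩
      have e1 : Xs t = Xs (t / 2) * Xs (t / 2) := by rw [Xs_add, add_halves]
      have e2 : Ys t = Ys (t / 2) * Ys (t / 2) := by rw [Ys_add, add_halves]
      rw [e1, e2]
      exact ⟨sq _ (.inr ⟨_, half_fix ht, .inl rfl⟩), sq _ (.inr ⟨_, half_fix ht, .inr rfl⟩)⟩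

/-- The switch by `uH` followed by `hAu`. -/
theorem exists_tripleA (h3 : (3 : F) ≠ 0) :
    ∃ T1 T2 T3 : Sim (Q4 F), TriSim T1 T2 T3 ∧
      (∀ x, Sg (gA F) 1 (sap T2 x) = sap T1 (Sg (gA F * gA F) 1 x)) ∧
      (∀ x, Sg (gA F) 1 (sap T3 x) = sap T2 (Sg (gA F * gA F) 1 x)) ∧
      (∀ x, Sg (gA F) 1 (sap T1 x) = sap T3 (Sg (gA F * gA F) 1 x)) ∧
      ∀ x, sap T1 x = omul (ap (hAu h3) x) (uH F) := by
  have hInu : InH (uH F) := by simp [InH, uH]
  obtain ⟨A1, A2, A3, hA, a12, a23, a31, -, -, -, a1x, -, -, -, -⟩ :=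
    exists_switch_triple (g := gA F) (g' := gA F * gA F) (σ := (1 : F ≃+* F)) gA_mem Q_uH uH_sq
      (ap_gA_of_InH hInu) (rfl) (hAu_mem h3) (fun x => by
        show ap (gA F) (ap (hAu h3) x) = ap _ (ap (hAu h3) (ap (gA F * gA F) x))
        rw [eU_uH, ← ap_mul, ← ap_mul, ← ap_mul]
        congr 2
        have h := hAu_conj h3
        rw [mul_inv_eq_iff_eq_mul] at h
        have h' : gA F * e0 F * e0 F * hAu h3 = hAu h3 * (gA F * gA F) := by
          calc gA F * e0 F * e0 F * hAu h3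
              = hAu h3 * (hAu h3 * (gA F * e0 F * e0 F)) * hAu h3 := by
                rw [← mul_assoc (hAu h3) (hAu h3), hAu_mul_self, one_mul]
            _ = _ := by rw [h]; simp only [mul_assoc, hAu_mul_self, mul_one]
        calc gA F * hAu h3 = gA F * (e0 F * e0 F * e0 F) * hAu h3 := by
              rw [← sq, ← pow_succ, e0_cube, mul_one]
          _ = (gA F * e0 F) * (e0 F * e0 F * hAu h3) := by simp only [mul_assoc]
          _ = e0 F * gA F * (e0 F * e0 F * hAu h3) := congrArg (· * _) e0_gA.eq.symm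
          _ = e0 F * (gA F * e0 F * e0 F * hAu h3) := by simp only [mul_assoc]
          _ = _ := by rw [h', mul_assoc])
  exact ⟨A1, A2, A3, hA, a12, a23, a31, a1x⟩

theorem gal_bv (τ : F ≃+* F) (i : IJ) : τ ∘ (bv i : IJ → F) = bv i := by
  funext j; simp [Pi.single_apply, apply_ite τ]

theorem sap_galSim_fix {τ : F ≃+* F} (A : Sim (Q4 F)) {x : IJ → F} (hx : τ ∘ x = x)
    (hAx : τ ∘ sap A x = sap A x) : sap (galSim τ A) x = sap A x := by
  conv_lhs => rw [← hx]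
  rw [sap_galSim, hAx]

theorem galSim_hAu (h3 : (3 : F) ≠ 0) (τ : F ≃+* F) :
    galSim τ (toSim _ (hAu h3)) = toSim _ (hAu h3) := OrthOuter.ext_sap fun y => by
  obtain ⟨x, rfl⟩ : ∃ x : IJ → F, τ ∘ x = y := ⟨τ.symm ∘ y, funext fun i => by simp⟩
  rw [sap_galSim, OrthOuter.sap_toSim, OrthOuter.sap_toSim, (hAu_CR h3 τ).2]

theorem iOut_not_scal {a : Sim (Q4 F)} (ha : a ∈ Trip F) {t : Fˣ}
    (h : a * toSim _ (cIso F) = OrthOuter.scal (Q4 F) t) : False := by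
  refine iOut_not_mem (F := F) ?_
  have h1 := congrArg (oc (Q4 F)) h
  rw [map_mul, oc_cIso, oc_scal] at h1
  rw [eq_inv_of_mul_eq_one_right h1]
  exact inv_mem (oc_mem_D ha)

theorem scalar_one (h3 : (3 : F) ≠ 0) {a : Sim (Q4 F)} (ha : a ∈ Trip F) {τ σ : F ≃+* F}
    (hfix : ∀ k ∈ fixK (triAut (1 : IsoGrp (Q4 F)) σ), (conjAut (Q4 F) a * galHom 4 F τ) k = k) :
    (∃ t, a = OrthOuter.scal (Q4 F) t) ∧ ∀ t, σ t = t → τ t = t := by
  have hS : ∀ x : IJ → F, Sg (1 : IsoGrp (Q4 F)) σ x = σ ∘ x := fun x => by rw [Sg, ap_one]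
  set H := hAu h3
  have hH := hAu_mem h3
  have hm : ∀ m, m = gA F ∨ (∃ t, σ t = t ∧ (m = Xs t ∨ m = Ys t)) →
      m ∈ Au F ∧ m ∈ Omega F ⇑(Q4 F) ∧ ∀ x : IJ → F, ap m (σ ∘ x) = σ ∘ ap m x := by
    rintro m (rfl | ⟨t, ht, rfl | rfl⟩)
    · exact ⟨gA_mem, gA_omega, (gA_CR σ).2⟩
    · exact ⟨Xs_mem t, Xs_omega t, (mem_CA.1 (Xs_CA ht)).1.2⟩
    · exact ⟨Ys_mem t, Ys_omega t, (mem_CA.1 (Ys_CA ht)).1.2⟩
  have hB : ∀ {A : IsoGrp (Q4 F)}, A ∈ CR σ → Base3 ((toSim (Q4 F) A)⁻¹ * a * galSim τ (toSim _ A)) τ σ ∧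
      ∀ m, m = gA F ∨ (∃ t, σ t = t ∧ (m = Xs t ∨ m = Ys t)) →
        isoConj (Q4 F) (toSim _ A) m ∈ Au F := by
    intro A hA
    have hau : ∀ m ∈ Au F, isoConj (Q4 F) (toSim _ A) m = A * m * A⁻¹ := fun m _ => ext_ap fun x => by
      rw [ap_isoConj, OrthOuter.sap_toSim, ← map_inv, OrthOuter.sap_toSim, ap_mul, ap_mul]
    have hsim : ∀ x, Sg (1 : IsoGrp (Q4 F)) σ (sap (toSim _ A) x) = sap (toSim _ A) (Sg 1 σ x) :=
      fun x => by rw [hS, hS, OrthOuter.sap_toSim, OrthOuter.sap_toSim, hA.2]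
    obtain ⟨hg, hXY⟩ := base3_of_fix (one_mem _) hfix (A := toSim _ A) fun m hm' => by
      obtain ⟨m1, m2, m3⟩ := hm m hm'
      exact ⟨_, triConj_mem (au_triSim hA.1) hsim hsim hsim m1 m2 (fun x => by rw [hS, hS, m3]), rfl⟩
    exact ⟨⟨hg.conj, fun t ht => ⟨(hXY t ht).1.conj, (hXY t ht).2.conj⟩⟩, fun m hm' =>
      hau m (hm m hm').1 ▸ mul_mem (mul_mem hA.1 (hm m hm').1) (inv_mem hA.1)⟩
  obtain ⟨hB1, -⟩ := hB (one_mem (CR σ))
  have hB1 : Base3 a τ σ := by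
    have e : (toSim (Q4 F) (1 : IsoGrp (Q4 F)))⁻¹ * a * galSim τ (toSim _ 1) = a :=
      OrthOuter.ext_sap fun y => by
        obtain ⟨x, rfl⟩ : ∃ x : IJ → F, τ ∘ x = y := ⟨τ.symm ∘ y, funext fun i => by simp⟩
        simp [sap_galSim]
    rwa [e] at hB1
  obtain ⟨hB2, hB2'⟩ := hB (hAu_CR h3 σ)
  have main : ∀ b : Sim (Q4 F), Base3 b τ σ →
      Base3 ((toSim (Q4 F) H)⁻¹ * b * galSim τ (toSim _ H)) τ σ →
      ∀ c : F, c ≠ 0 → (∀ x, InH x → sap b (τ ∘ x) = c • (τ ∘ x)) →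
      ∃ t, b = OrthOuter.scal (Q4 F) t := by
    intro b hb hb' c hc hP
    obtain ⟨c', hc', -, hor⟩ := plain_or_conj h3 hb'
    have ev : ∀ z, τ ∘ z = z → sap ((toSim (Q4 F) H)⁻¹ * b * galSim τ (toSim _ H)) (τ ∘ z) =
        ap H (sap b (τ ∘ ap H z)) := fun z hz => by
      rw [galSim_hAu, hz, OrthOuter.sap_mul, OrthOuter.sap_mul, OrthOuter.sap_toSim, ← map_inv,
        OrthOuter.sap_toSim, inv_eq_of_mul_eq_one_right (hAu_mul_self h3), ← (hAu_CR h3 τ).2, hz]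
    have hIn1 : InH (oOne : IJ → F) := by simp [InH, oOne]
    have hInu : InH (uH F) := by simp [InH, uH]
    have hcc : c' = c := by
      have h := ev oOne (gal_oOne τ)
      rw [hH.2, hP _ hIn1, gal_oOne, map_smul, hH.2] at h
      rcases hor with ho | ho <;>
        (have h' := ho _ hIn1
         rw [gal_oOne, h] at h'
         have h0 := congrFun h' (.inl 0)
         simpa [oOne, oConj] using h0.symm)
    subst hcc
    have hplain : ∀ x, InH x → sap ((toSim (Q4 F) H)⁻¹ * b * galSim τ (toSim _ H)) (τ ∘ x) =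
        c' • (τ ∘ x) := by
      refine hor.resolve_right fun ho => ?_
      have hz : τ ∘ ap H (uH F) = ap H (uH F) := by rw [← (hAu_CR h3 τ).2, uH_CR]
      have h := ho _ (hAu_uH h3).1
      rw [ev _ hz, ← ap_mul, hAu_mul_self, ap_one, hP _ hInu, hz, uH_CR, map_smul,
        ← au_conj hH] at h
      have h' := congrFun (ap_inj H (smul_right_injective (IJ → F) hc h)) (.inl 0)
      simp [uH, oConj] at h'
    have h0 := hplain (bv (.inl 0)) (by simp [InH, Pi.single_apply])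
    rw [ev _ (gal_bv τ _), gal_bv] at h0
    have h1 : sap b (τ ∘ ap H (bv (.inl 0))) = c' • ap H (bv (.inl 0)) :=
      ap_inj H (by rw [h0, map_smul, ← ap_mul, hAu_mul_self, ap_one])
    have hz0 : τ ∘ ap H (bv (.inl 0)) = ap H (bv (.inl 0)) := by rw [← (hAu_CR h3 τ).2, gal_bv]
    refine ⟨_, scalar_of_plain h3 hb hc' hP (v := mk8 1 1 0 0 2 1 0 0) (w := mk8 0 0 1 (-1) 0 0 (-1) 2)
      (by simp [InH]) (by simp) ?_ (by simp) ?_⟩
    · have e2 : τ (2 : F) = 2 := by exact_mod_cast map_natCast τ 2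
      apply ext8 <;> simp [e2]
    · have e : mk8 1 1 0 0 2 1 0 0 + mk8 0 0 1 (-1) 0 0 (-1) 2 = (3 : F) • ap H (bv (.inl 0)) := by
        rw [ap_hAu]; apply ext8 <;> simp [hLin, Pi.single_apply] <;> field_simp
      rw [e, gal_smul, map_smul, h1, hz0, smul_comm]
  obtain ⟨c, hc, hτ, hp | hcj⟩ := plain_or_conj h3 hB1
  · exact ⟨main a hB1 hB2 c hc hp, hτ⟩
  exfalso
  set G := toSim (Q4 F) (cIso F)
  have hb1 : Base3 (a * G) τ σ :=
    ⟨hB1.1.graph gA_mem, fun t ht => ⟨(hB1.2 t ht).1.graph (Xs_mem t), (hB1.2 t ht).2.graph (Ys_mem t)⟩⟩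
  have hb2 : Base3 ((toSim (Q4 F) H)⁻¹ * (a * G) * galSim τ (toSim _ H)) τ σ := by
    have e : (toSim (Q4 F) H)⁻¹ * (a * G) * galSim τ (toSim _ H) =
        (toSim (Q4 F) H)⁻¹ * a * galSim τ (toSim _ H) * G := OrthOuter.ext_sap fun y => by
      rw [galSim_hAu]
      simp only [OrthOuter.sap_mul, G, OrthOuter.sap_toSim, ap_cIso, au_conj hH]
    rw [e]
    exact ⟨hB2.1.graph gA_mem, fun t ht =>
      ⟨(hB2.2 t ht).1.graph (Xs_mem t), (hB2.2 t ht).2.graph (Ys_mem t)⟩⟩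
  obtain ⟨t, ht⟩ := main (a * G) hb1 hb2 c hc fun x hx => by
    have hx' : InH (oConj x) := by
      obtain ⟨q2, q3, q6, q7⟩ := hx
      simp [InH, oConj, q2, q3, q6, q7]
    rw [OrthOuter.sap_mul, OrthOuter.sap_toSim, ap_cIso, ← gal_oConj, hcj _ hx', gal_oConj, oConj_oConj]
  exact iOut_not_scal ha ht

theorem scalar_gA (h3 : (3 : F) ≠ 0) {a : Sim (Q4 F)} {τ : F ≃+* F}
    (hfix : ∀ k ∈ fixK (triAut (gA F) 1), (conjAut (Q4 F) a * galHom 4 F τ) k = k) :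
    (∃ t, a = OrthOuter.scal (Q4 F) t) ∧ ∀ t : F, τ t = t := by
  have hS : ∀ (k : IsoGrp (Q4 F)) (x : IJ → F), Sg k 1 x = ap k x := fun k x => rfl
  have hm : ∀ m, m = gA F ∨ (∃ t, (1 : F ≃+* F) t = t ∧ (m = Xs t ∨ m = Ys t)) →
      m ∈ Au F ∧ m ∈ Omega F ⇑(Q4 F) ∧ Commute m (gA F) := by
    rintro m (rfl | ⟨t, -, rfl | rfl⟩)
    · exact ⟨gA_mem, gA_omega, Commute.refl _⟩
    · exact ⟨Xs_mem t, Xs_omega t, Xs_gA t⟩
    · exact ⟨Ys_mem t, Ys_omega t, Ys_gA t⟩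
  obtain ⟨hg, hXY⟩ := base3_of_fix gA_mem hfix (A := 1) fun m hm' => by
    obtain ⟨m1, m2, m3⟩ := hm m hm'
    refine ⟨(m, m, m), diag_mem_GF m1 m2 (fun x => by rw [hS, hS, ← ap_mul, m3.eq, ap_mul]), ?_⟩
    rw [map_one, MulAut.one_apply]
  simp only [map_one, MulAut.one_apply] at hg hXY
  have hB1 : Base3 a τ 1 := ⟨hg, hXY⟩
  obtain ⟨A1, A2, A3, hA, a12, a23, a31, a1x⟩ := exists_tripleA h3
  obtain ⟨hg', hXY'⟩ := base3_of_fix gA_mem hfix (A := A1) fun m hm' => by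
    obtain ⟨m1, m2, m3⟩ := hm m hm'
    exact ⟨_, triConj_mem hA a12 a23 a31 m1 m2 (fun x => by
      rw [hS, hS, ← ap_mul, (m3.mul_right m3).eq, ap_mul]), rfl⟩
  have hB2 : Base3 (A1⁻¹ * a * galSim τ A1) τ 1 :=
    ⟨hg'.conj, fun t ht => ⟨(hXY' t ht).1.conj, (hXY' t ht).2.conj⟩⟩
  obtain ⟨c, hc, hτ, hor⟩ := plain_or_conj h3 hB1
  obtain ⟨c', hc', -, hor'⟩ := plain_or_conj h3 hB2
  have hτ' : ∀ t : F, τ t = t := fun t => hτ t rfl
  have hid : ∀ x : IJ → F, τ ∘ x = x := fun x => funext fun i => hτ' _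
  simp only [hid] at hor hor'
  have hA1 : galSim τ A1 = A1 := OrthOuter.ext_sap fun x => sap_galSim_fix A1 (hid _) (hid _)
  have k : ∀ z, sap a (sap A1 z) = sap A1 (sap (A1⁻¹ * a * galSim τ A1) z) := fun z => by
    rw [hA1, OrthOuter.sap_mul, OrthOuter.sap_mul, OrthOuter.sap_sap_inv]
  have hH := hAu_mem h3
  have hIn1 : InH (oOne : IJ → F) := by simp [InH, oOne]
  have hInu : InH (uH F) := by simp [InH, uH]
  have e1 : sap A1 oOne = uH F := by rw [a1x, hH.2, one_omul]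
  have hu1 : (uH F : IJ → F) (.inl 1) = -1 := by simp [uH]
  have h1c : sap (A1⁻¹ * a * galSim τ A1) oOne = c' • oOne := by
    rcases hor' with ho | ho
    · exact ho _ hIn1
    · rw [ho _ hIn1, oConj_oOne]
  have hu := k oOne
  rw [e1, h1c, map_smul, e1] at hu
  have hplain : ∀ x, InH x → sap a x = c • x := by
    refine hor.resolve_right fun ho => ?_
    rw [ho _ hInu] at hu
    have := congrFun hu (.inl 0)
    simp [uH, oConj] at this
    exact hc this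
  rw [hplain _ hInu] at hu
  obtain rfl : c' = c := by
    have := congrFun hu (.inl 1)
    simpa [uH] using this.symm
  have hplain' : ∀ x, InH x → sap (A1⁻¹ * a * galSim τ A1) x = c' • x := by
    refine hor'.resolve_right fun ho => ?_
    set z := ap (hAu h3) (oConj (uH F))
    have hz1 : sap A1 z = oOne := by
      rw [a1x, show ap (hAu h3) z = oConj (uH F) by rw [← ap_mul, hAu_mul_self, ap_one], conj_self_omul,
        Q_uH, one_smul]
    have hz2 : sap A1 (oConj z) = oConj (uH F) := by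
      rw [a1x, au_conj hH, show ap (hAu h3) z = oConj (uH F) by rw [← ap_mul, hAu_mul_self, ap_one],
        oConj_oConj, uH_sq]
    have h := k z
    rw [ho _ (hAu_uH h3).2, hz1, hplain _ hIn1, map_smul, hz2] at h
    have := congrFun (smul_right_injective (IJ → F) hc h) (.inl 1)
    simp [uH, oConj, oOne] at this
  have h0 := k (bv (.inl 0))
  rw [hplain' _ (by simp [InH, Pi.single_apply]), map_smul] at h0
  refine ⟨⟨_, scalar_of_plain h3 hB1 hc' (fun x hx => by rw [hid, hplain x hx])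
    (v := mk8 1 (-2) 0 0 (-1) (-2) 0 0) (w := mk8 0 0 1 2 0 0 (-1) (-1)) (by simp [InH]) (by simp)
    (hid _) (by simp) ?_⟩, hτ'⟩
  have e : mk8 1 (-2) 0 0 (-1) (-2) 0 0 + mk8 0 0 1 2 0 0 (-1) (-1) = (3 : F) • sap A1 (bv (.inl 0)) := by
    rw [a1x, ap_hAu]; apply ext8 <;> simp [hLin, omul, uH, Pi.single_apply] <;> field_simp <;> ring
  rw [hid, e, map_smul, h0, smul_comm]

/-- Rigidity for the models. -/
theorem rigid_model (h3 : (3 : F) ≠ 0) {g : IsoGrp (Q4 F)} {σ : F ≃+* F} (hm : IsModel g σ)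
    (hx3 : triAut g σ ^ 3 = 1) (β : MulAut P8) (hβ : β * triAut g σ = triAut g σ * β)
    (hk : ∀ k ∈ fixK (triAut g σ), β k = k) : β ^ 3 = 1 := by
  set x := triAut g σ with hx
  set y : Out P8 := QuotientGroup.mk β
  obtain ⟨d₁, hd₁, hxd⟩ : ∃ d₁ ∈ DGrp F, (QuotientGroup.mk x : Out P8) = d₁ * tOut F := by
    refine ⟨oc (Q4 F) (toSim _ g) * galOut F σ, ⟨_, ⟨_, _, au_triSim hm.au⟩, σ, rfl⟩, ?_⟩
    rw [mul_assoc, (galOut_tOut σ).eq, ← mul_assoc, hx, triAut, QuotientGroup.mk_mul, QuotientGroup.mk_mul]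
    rfl
  obtain ⟨c, e, hd⟩ := exists_coset y
  set w := tOut F ^ c * iOut F ^ e with hw
  set d := y * w⁻¹ with hddef
  have hcomm : d * w * (d₁ * tOut F) = d₁ * tOut F * (d * w) := by
    rw [hddef, inv_mul_cancel_right, ← hxd, ← QuotientGroup.mk_mul, ← QuotientGroup.mk_mul, hβ]
  have hwD : ∀ z ∈ DGrp F, w * z * w⁻¹ ∈ DGrp F := fun z hz => by
    rw [hw, show tOut F ^ c * iOut F ^ e * z * (tOut F ^ c * iOut F ^ e)⁻¹ =
      tOut F ^ c * (iOut F ^ e * z * (iOut F ^ e)⁻¹) * (tOut F ^ c)⁻¹ by group]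
    exact pow_conj_D _ (fun _ => t_conj_D) c (pow_conj_D _ (fun _ => i_conj_D) e hz)
  have h1 : w * tOut F * w⁻¹ * (tOut F)⁻¹ ∈ DGrp F := by
    have h2 : w * tOut F * w⁻¹ * (tOut F)⁻¹ =
        (w * d₁ * w⁻¹)⁻¹ * d⁻¹ * d₁ * (tOut F * d * (tOut F)⁻¹) := by
      calc w * tOut F * w⁻¹ * (tOut F)⁻¹
          = (w * d₁ * w⁻¹)⁻¹ * d⁻¹ * (d * w * (d₁ * tOut F)) * w⁻¹ * (tOut F)⁻¹ := by group
        _ = _ := by rw [hcomm]; group
    rw [h2]
    exact mul_mem (mul_mem (mul_mem (inv_mem (hwD _ hd₁)) (inv_mem hd)) hd₁) (t_conj_D hd)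
  have hi2 : iOut F ^ 2 = 1 := by rw [sq, iOut_sq]
  have hey : e % 2 = 0 := (Nat.mod_two_eq_zero_or_one e).resolve_right fun he => by
    rw [hw, pow_eq_pow_mod e hi2, he, pow_one] at h1
    have e2 : tOut F ^ c * iOut F * tOut F * (tOut F ^ c * iOut F)⁻¹ * (tOut F)⁻¹ = tOut F := by
      rw [_root_.mul_inv_rev, show tOut F ^ c * iOut F * tOut F * ((iOut F)⁻¹ * (tOut F ^ c)⁻¹) =
        tOut F ^ c * (iOut F * tOut F * (iOut F)⁻¹) * (tOut F ^ c)⁻¹ by group, iOut_tOut,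
        mul_inv_cancel_right, ((Commute.pow_self (tOut F) c).mul_right (Commute.pow_self (tOut F) c)).eq,
        mul_inv_cancel_right, mul_inv_cancel_right]
    rw [e2] at h1
    exact absurd (semiCls_tOut_pow (F := F) (c := 1) (by rw [pow_one]; exact DGrp.semi h1)) (by norm_num)
  have hyd : y = d * tOut F ^ c := by
    have : w = tOut F ^ c := by rw [hw, pow_eq_pow_mod e hi2, hey, pow_zero, mul_one]
    rw [← this, hddef, inv_mul_cancel_right]
  have hxc : ∀ n : ℕ, ∃ d' ∈ DGrp F, (QuotientGroup.mk x : Out P8) ^ n = d' * tOut F ^ n := by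
    intro n
    induction n with
    | zero => exact ⟨1, one_mem _, by simp⟩
    | succ n ih =>
      obtain ⟨d', hd', ih⟩ := ih
      refine ⟨d' * (tOut F ^ n * d₁ * (tOut F ^ n)⁻¹),
        mul_mem hd' (pow_conj_D _ (fun _ => t_conj_D) n hd₁), ?_⟩
      rw [pow_succ, ih, hxd, pow_succ]
      group
  set β' := β * (x ^ c)⁻¹ with hβ'
  have hD : (QuotientGroup.mk β' : Out P8) ∈ DGrp F := by
    obtain ⟨d', hd', e'⟩ := hxc c
    rw [hβ', QuotientGroup.mk_mul, QuotientGroup.mk_inv, QuotientGroup.mk_pow, e']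
    show y * _ ∈ _
    rw [hyd, _root_.mul_inv_rev, mul_assoc, mul_inv_cancel_left]
    exact mul_mem hd (inv_mem hd')
  obtain ⟨a, ha, τ, he'⟩ := hD
  obtain ⟨_, ⟨o, ho, rfl⟩, hoe⟩ : β' * (conjAut (Q4 F) a * galHom 4 F τ)⁻¹ ∈
      (OrthOuter.omegaS (Q4 F)).map (conjAut (Q4 F)) := by
    rw [← OrthOuter.inn_eq, ← QuotientGroup.eq_one_iff, QuotientGroup.mk_mul, QuotientGroup.mk_inv,
      QuotientGroup.mk_mul]
    show (QuotientGroup.mk β' : Out P8) * _ = 1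
    rw [he']
    exact mul_inv_cancel _
  have hb : β' = conjAut (Q4 F) (toSim (Q4 F) o * a) * galHom 4 F τ := by rw [map_mul, hoe]; group
  have hxk : ∀ n : ℕ, ∀ k ∈ fixK x, (x ^ n) k = k := fun n k hk' => by
    induction n with
    | zero => simp
    | succ n ih => rw [pow_succ, MulAut.mul_apply, mem_fixK.1 hk', ih]
  have hfix : ∀ k ∈ fixK x, (conjAut (Q4 F) (toSim (Q4 F) o * a) * galHom 4 F τ) k = k := fun k hk' => by
    rw [← hb, hβ', MulAut.mul_apply]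
    conv_lhs => arg 2; rw [← hxk c k hk', MulAut.inv_apply_self]
    exact hk k hk'
  have hta : toSim (Q4 F) o * a ∈ Trip F := mul_mem (omega_mem_trip ho) ha
  have hres : (∃ t, toSim (Q4 F) o * a = OrthOuter.scal (Q4 F) t) ∧ τ ^ 3 = 1 := by
    rcases hm with ⟨rfl, hσ⟩ | ⟨rfl, rfl⟩
    · obtain ⟨hs, hτ⟩ := scalar_one h3 hta hfix
      obtain ⟨n, rfl⟩ := mem_zpowers_of_fix hτ
      refine ⟨hs, ?_⟩
      show (σ ^ n) ^ (3 : ℕ) = 1
      rw [← zpow_natCast, ← _root_.zpow_mul, mul_comm, _root_.zpow_mul, zpow_natCast,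
        show σ ^ 3 = 1 from RingEquiv.ext fun t => hσ t, _root_.one_zpow]
    · obtain ⟨hs, hτ⟩ := scalar_gA h3 hfix
      exact ⟨hs, by rw [show τ = 1 from RingEquiv.ext hτ, one_pow]⟩
  obtain ⟨⟨t, ht⟩, hτ3⟩ := hres
  rw [ht, conjAut_scal, one_mul] at hb
  have hb3 : β' ^ 3 = 1 := by rw [hb, ← map_pow, hτ3, map_one]
  have hcom : Commute β' (x ^ c) := by
    refine Commute.mul_left ?_ (Commute.refl (x ^ c)).inv_left
    exact (show Commute β x from hβ).pow_right c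
  have : β = β' * x ^ c := by rw [hβ', inv_mul_cancel_right]
  rw [this, hcom.mul_pow, hb3, one_mul, ← pow_mul, mul_comm, pow_mul, hx3, one_pow]

end Cfsg.Agent.LocalBalance
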