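import Cfsg.Agent.Lib.LocalBalance.TriGL

/-!
# The split `G₂(q₀)` has trivial core prime to three

* `hAu_conj`, `kap'` : conjugators of the elements of order three
* `trivial_of_core` : a subgroup of order prime to three of `CR σ` normalised by `CR σ ∩ Ω` is trivial
-/

set_option autoImplicit false
set_option linter.unusedSectionVars false

namespace Cfsg.Agent.LocalBalance

open Cfsg Matrix Cfsg.Agent.Orth Cfsg.Agent.AutPOmega Cfsg.Agent.Triality
open Cfsg.Agent.OrthOuter (Sim sap toSim isoConj)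

variable {F : Type*} [Field F] [Fintype F]

theorem hAu_mul_self (h3 : (3 : F) ≠ 0) : hAu h3 * hAu h3 = 1 := ext_ap fun x => by
  rw [ap_mul, ap_one, ap_hAu, ap_hAu]
  apply ext8 <;> (simp [hLin]; field_simp; ring)

theorem hAu_mem (h3 : (3 : F) ≠ 0) : hAu h3 ∈ Au F := by
  refine mem_Au_of_mul ?_ fun x y => ?_
  · rw [ap_hAu]; apply ext8 <;> (simp [hLin, oOne]; try (field_simp; ring))
  · simp only [ap_hAu]
    apply ext8 <;> (simp [hLin, omul]; field_simp; ring)

theorem hAu_CR (h3 : (3 : F) ≠ 0) (σ : F ≃+* F) : hAu h3 ∈ CR σ :=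
  ⟨hAu_mem h3, fun x => by
    have e : σ (3 : F) = 3 := by exact_mod_cast map_natCast σ 3
    have e2 : σ (2 : F) = 2 := by exact_mod_cast map_natCast σ 2
    rw [ap_hAu, ap_hAu]
    apply ext8 <;> simp [hLin, map_add, map_sub, map_mul, map_inv₀, e, e2]⟩

theorem hAu_conj (h3 : (3 : F) ≠ 0) :
    hAu h3 * (gA F * e0 F * e0 F) * (hAu h3)⁻¹ = gA F * gA F := by
  rw [inv_eq_of_mul_eq_one_right (hAu_mul_self h3)]
  refine ext_ap fun x => ?_
  simp only [ap_mul, ap_hAu, ap_gA, ap_e0']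
  apply ext8 <;> (simp [hLin]; field_simp; ring)

theorem uH_CR (σ : F ≃+* F) : σ ∘ uH F = uH F := by apply ext8 <;> simp [uH]

theorem hAu_uH (h3 : (3 : F) ≠ 0) : InH (ap (hAu h3) (uH F)) ∧ InH (ap (hAu h3) (oConj (uH F))) := by
  rw [ap_hAu, ap_hAu]
  refine ⟨⟨?_, ?_, ?_, ?_⟩, ⟨?_, ?_, ?_, ?_⟩⟩ <;> simp [hLin, uH, oConj] <;> (right; ring)

theorem exists_norm_neg_one (h3 : (3 : F) ≠ 0) (σ : F ≃+* F) :
    ∃ a b : F, σ a = a ∧ σ b = b ∧ a * a - a * b + b * b = -1 := by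
  classical
  let k := σ.toRingHom.eqLocusField (RingHom.id F)
  letI : Fintype k := Fintype.ofFinite k
  let t : Fin 4 → F := ![1, -1, 1, 1]
  let e : Fin 4 → Fin 2 → Fin 3 := ![![0, 0], ![0, 1], ![1, 1], ![2, 2]]
  have hexp : ∀ c : Fin 3 → k, ∑ s, algebraMap k F (∏ i, c (e s i)) * t s =
      (c 0 : F) * c 0 - c 0 * c 1 + c 1 * c 1 + c 2 * c 2 := fun c => by
    simp [Fin.sum_univ_four, Fin.prod_univ_two, t, e]
    rw [sub_eq_add_neg]; rfl
  obtain ⟨c, hc0, hc⟩ := exists_zero_form (k := k) (n := 3) (d := 2) (by norm_num) (by norm_num) t e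
    (fun c => ⟨c 0 * c 0 - c 0 * c 1 + c 1 * c 1 + c 2 * c 2, by rw [hexp]; rfl⟩)
  rw [hexp] at hc
  have hfix : ∀ i, σ (c i : F) = c i := fun i => (c i).2
  by_cases h2 : (c 2 : F) = 0
  · rw [h2, mul_zero, add_zero] at hc
    have h1 : (c 1 : F) ≠ 0 := fun h1 => hc0 (by
      rw [h1] at hc
      have h0 : (c 0 : F) = 0 := mul_self_eq_zero.1 (by linear_combination hc)
      funext i
      fin_cases i <;> exact Subtype.ext (by assumption))
    set w := -((c 0 : F) / c 1) with hw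
    have hww : w * w + w + 1 = 0 := by
      rw [hw]; field_simp; linear_combination hc
    have hσw : σ w = w := by rw [hw, map_neg, map_div₀, hfix, hfix]
    have hd : 2 * w + 1 ≠ 0 := fun hd => h3 (by linear_combination 4 * hww - (2 * w + 1) * hd)
    have e2 : σ (2 : F) = 2 := by exact_mod_cast map_natCast σ 2
    set d := 2 / (2 * w + 1) with hd'
    have hdd : d * (2 * w + 1) = 2 := by rw [hd', div_mul_cancel₀ _ hd]
    have hσd : σ d = d := by rw [hd', map_div₀, map_add, map_mul, e2, hσw, map_one]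
    exact ⟨1 - w * d, d, by rw [map_sub, map_mul, map_one, hσw, hσd], hσd,
      by linear_combination (d * d) * hww - hdd⟩
  · refine ⟨c 0 / c 2, c 1 / c 2, by rw [map_div₀, hfix, hfix], by rw [map_div₀, hfix, hfix], ?_⟩
    field_simp
    linear_combination hc

theorem kap_facts (h3 : (3 : F) ≠ 0) {σ : F ≃+* F} {a b : F} (ha : σ a = a) (hb : σ b = b)
    (h : a * a - a * b + b * b = -1) :
    hAu h3 * (kap a b h)⁻¹ ∈ CR σ ∧
      hAu h3 * (kap a b h)⁻¹ * (gA F * e0 F) * (hAu h3 * (kap a b h)⁻¹)⁻¹ = gA F * gA F ∧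
      InH (ap (hAu h3 * (kap a b h)⁻¹) (uH F)) := by
  set K := kap a b h
  have hK : K ∈ CR σ := by
    refine ⟨mem_Au_of_mul ?_ fun x y => ?_, fun x => ?_⟩
    · rw [ap_kap]; apply ext8 <;> simp [kapLin, oOne]
    · simp only [K, ap_kap]
      apply ext8 <;> simp [kapLin, omul] <;> grind
    · simp only [K, ap_kap]; apply ext8 <;> simp [kapLin, ha, hb]
  refine ⟨mul_mem (hAu_CR h3 σ) (inv_mem hK), ?_, ?_⟩
  · have e : K⁻¹ * (gA F * e0 F) * K = gA F * e0 F * e0 F := by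
      have h1 : K * gA F = gA F * K := (kap_gA a b h).eq
      have h3' : e0 F * e0 F * (e0 F * e0 F) = e0 F := by
        rw [show e0 F * e0 F * (e0 F * e0 F) = e0 F * e0 F * e0 F * e0 F by simp only [mul_assoc], ← sq,
          ← pow_succ, e0_cube, one_mul]
      have h4 : K * e0 F * e0 F = e0 F * K := by
        rw [kap_e0 a b h, mul_assoc, kap_e0 a b h, ← mul_assoc, h3']
      rw [mul_assoc, inv_mul_eq_iff_eq_mul]
      calc gA F * e0 F * K = gA F * (K * e0 F * e0 F) := by rw [h4, mul_assoc]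
        _ = K * (gA F * e0 F * e0 F) := by
          simp only [← mul_assoc]
          rw [h1]
    rw [_root_.mul_inv_rev, inv_inv, show hAu h3 * K⁻¹ * (gA F * e0 F) * (K * (hAu h3)⁻¹) =
      hAu h3 * (K⁻¹ * (gA F * e0 F) * K) * (hAu h3)⁻¹ by group, e]
    exact hAu_conj h3
  · rw [ap_mul]
    have e : ap K⁻¹ (uH F) = oConj (uH F) := ap_inj K (by
      rw [ap_ap_inv]; simp only [K, ap_kap]; apply ext8 <;> simp [kapLin, uH, oConj])
    rw [e]
    exact (hAu_uH h3).2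

theorem fix_e0 (h3 : (3 : F) ≠ 0) {x : IJ → F} (h : ap (e0 F) x = x) :
    ∃ a b : F, x = a • oOne + b • uH F := by
  rw [ap_e0'] at h
  have e0' := congrFun h (.inl 0)
  have e1 := congrFun h (.inl 1)
  have e2 := congrFun h (.inl 2)
  have e3 := congrFun h (.inl 3)
  have e6 := congrFun h (.inr 2)
  have e7 := congrFun h (.inr 3)
  simp at e0' e1 e2 e3 e6 e7
  have h2 : x (.inl 2) = 0 :=
    (mul_eq_zero.1 (show (3 : F) * x (.inl 2) = 0 by linear_combination -e2 - e7)).resolve_left h3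
  have h3' : x (.inl 3) = 0 :=
    (mul_eq_zero.1 (show (3 : F) * x (.inl 3) = 0 by linear_combination -e3 + e6)).resolve_left h3
  refine ⟨x (.inl 0), -x (.inr 1), ?_⟩
  rw [h2, neg_zero] at e7
  rw [h3'] at e6
  apply ext8 <;> simp [oOne, uH, h2, h3', ← e6, ← e7, ← e1]
  linear_combination e0'

theorem ap_fix_uH (h3 : (3 : F) ≠ 0) {p : IsoGrp (Q4 F)} (hp : p ∈ Au F) (hc : Commute p (e0 F)) :
    ap p (uH F) = uH F := by
  have hu : ap (e0 F) (uH F) = uH F := by rw [ap_e0']; apply ext8 <;> simp [uH]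
  obtain ⟨a, b, e⟩ := fix_e0 h3 (x := ap p (uH F)) (by rw [← ap_mul, ← hc.eq, ap_mul, hu])
  have hn := Q_ap p (uH F)
  rw [e, Q_uH] at hn
  simp [Q4_apply, oOne, uH] at hn
  have hb : b = 2 * a + 1 := by
    have h1 := polar_ap p (uH F) oOne
    rw [hp.2, polar_eq_oB, polar_eq_oB, oConj_oOne, e] at h1
    simp [oB, oOne, uH] at h1
    linear_combination -h1
  subst hb
  have : a * (a + 1) = 0 :=
    (mul_eq_zero.1 (show (3 : F) * (a * (a + 1)) = 0 by linear_combination hn)).resolve_left h3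
  have hab : (a = 0 ∧ 2 * a + 1 = 1) ∨ (a = -1 ∧ 2 * a + 1 = -1) := by
    rcases mul_eq_zero.1 this with ha | ha
    · exact .inl ⟨ha, by rw [ha]; ring⟩
    · exact .inr ⟨eq_neg_of_add_eq_zero_left ha, by rw [eq_neg_of_add_eq_zero_left ha]; ring⟩
  rcases hab with ⟨ha0, hb0⟩ | ⟨ha0, hb0⟩ <;> rw [hb0, ha0] at e
  · rw [e, zero_smul, one_smul, zero_add]
  · exfalso
    have he : ap p (uH F) = oConj (uH F) := by
      rw [e]; apply ext8 <;> simp [oOne, uH, oConj]
    have hec : ap p (oConj (uH F)) = uH F := by rw [au_conj hp, he, oConj_oConj]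
    obtain ⟨y, hy⟩ : ∃ y, ap p y = bv (.inl 2) := ⟨_, ap_ap_inv p _⟩
    have h1 : ap (e0 F) (bv (.inl 2)) = omul (omul (oConj (uH F)) (bv (.inl 2))) (uH F) := by
      rw [← hy, ← ap_mul, ← hc.eq, ap_mul, ap_e0, au_omul hp, au_omul hp, he, hec]
    rw [ap_e0'] at h1
    have := congrFun h1 (.inl 2)
    simp [omul, oConj, uH, Pi.single_apply] at this

theorem fixes_all {p : IsoGrp (Q4 F)} (hp : p ∈ Au F) (h2 : ap p (bv (.inl 2)) = bv (.inl 2))
    (h3 : ap p (bv (.inl 3)) = bv (.inl 3)) (h6 : ap p (bv (.inr 2)) = bv (.inr 2))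
    (h7 : ap p (bv (.inr 3)) = bv (.inr 3)) : p = 1 := by
  have hr : ∀ {u v w : IJ → F} {k : F}, k ≠ 0 → omul u v = k • w → ap p u = u → ap p v = v → ap p w = w := by
    intro u v w k hk e eu ev
    have h := au_omul hp u v
    rw [eu, ev, e, map_smul] at h
    exact smul_right_injective (IJ → F) hk h
  have h5 : ap p (bv (.inr 1)) = bv (.inr 1) :=
    hr (k := -1) (by simp) (by apply ext8 <;> simp [omul, Pi.single_apply]) h2 h3
  have h1 : ap p (bv (.inl 1)) = bv (.inl 1) :=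
    hr (k := -1) (by simp) (by apply ext8 <;> simp [omul, Pi.single_apply]) h6 h7
  have h0 : ap p (bv (.inl 0)) = bv (.inl 0) :=
    hr (k := -1) (by simp) (by apply ext8 <;> simp [omul, Pi.single_apply]) h2 h6
  have h4 : ap p (bv (.inr 0)) = bv (.inr 0) :=
    hr (k := -1) (by simp) (by apply ext8 <;> simp [omul, Pi.single_apply]) h6 h2
  refine ext_ap fun x => ?_
  have hx : x = x (.inl 0) • bv (.inl 0) + x (.inl 1) • bv (.inl 1) + x (.inl 2) • bv (.inl 2)
      + x (.inl 3) • bv (.inl 3) + x (.inr 0) • bv (.inr 0) + x (.inr 1) • bv (.inr 1)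
      + x (.inr 2) • bv (.inr 2) + x (.inr 3) • bv (.inr 3) := by
    apply ext8 <;> simp [Pi.single_apply]
  rw [ap_one, hx]
  simp only [map_add, map_smul, h0, h1, h2, h3, h4, h5, h6, h7]

/-- Restriction of a conjugation to a subgroup it normalises. -/
noncomputable def conjOn (M : Subgroup (IsoGrp (Q4 F))) (e : IsoGrp (Q4 F))
    (h : ∀ m ∈ M, e * m * e⁻¹ ∈ M) (h' : ∀ m ∈ M, e⁻¹ * m * e ∈ M) : MulAut M where
  toFun m := ⟨e * m.1 * e⁻¹, h m.1 m.2⟩
  invFun m := ⟨e⁻¹ * m.1 * e, h' m.1 m.2⟩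
  left_inv m := Subtype.ext (by group)
  right_inv m := Subtype.ext (by group)
  map_mul' m n := Subtype.ext (by simp [mul_assoc])

theorem piece_of_core (h3 : (3 : F) ≠ 0) {σ : F ≃+* F} (M : Subgroup (IsoGrp (Q4 F))) (hM : M ≤ CR σ)
    (hcop : (Nat.card M).Coprime 3)
    (hn : ∀ e ∈ CR σ, e ∈ Omega F ⇑(Q4 F) → ∀ m ∈ M, e * m * e⁻¹ ∈ M)
    {h G1 : IsoGrp (Q4 F)} (hh : h ∈ CR σ) (hG : h * G1 * h⁻¹ = gA F * gA F)
    (hu : InH (ap h (uH F))) {m : IsoGrp (Q4 F)} (hm : m ∈ M) (hc : Commute m G1) :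
    Commute m (e0 F) := by
  set cH := (isoConj (Q4 F) (toSim _ h) : MulAut (IsoGrp (Q4 F))) with hcH
  have hcH' : ∀ p, cH p = h * p * h⁻¹ := fun p => Subtype.ext rfl
  set M2 := (M ⊓ Subgroup.centralizer {G1}).map cH.toMonoidHom with hM2
  have hgg : ∀ {p : IsoGrp (Q4 F)}, Commute p (gA F * gA F) → Commute p (gA F) := fun {p} hp => by
    have e : gA F = gA F * gA F * (gA F * gA F) := by
      rw [show gA F * gA F * (gA F * gA F) = gA F * gA F * gA F * gA F by simp only [mul_assoc], ← sq,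
        ← pow_succ, gA_cube, one_mul]
    rw [e]; exact hp.mul_right hp
  have hle : M2 ≤ CA σ := by
    rintro _ ⟨p, ⟨hp, hpG⟩, rfl⟩
    show cH p ∈ _
    rw [hcH']
    refine mem_CA.2 ⟨mul_mem (mul_mem hh (hM hp)) (inv_mem hh), hgg ?_⟩
    rw [← hG]
    exact Commute.conj_iff _ |>.2 (Subgroup.mem_centralizer_singleton_iff.1 hpG)
  have hcop2 : (Nat.card M2).Coprime 3 := by
    refine Nat.Coprime.coprime_dvd_left ?_ hcop
    rw [← Nat.card_congr (Subgroup.equivMapOfInjective (M ⊓ Subgroup.centralizer {G1}) cH.toMonoidHom cH.injective).toEquiv]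
    exact Subgroup.card_dvd_of_le inf_le_left
  have hfix := fixH_of_core h3 σ M2 hle hcop2 (by
    rintro e he heo _ ⟨p, ⟨hp, hpG⟩, rfl⟩
    have he2 : h⁻¹ * e * h ∈ CR σ := mul_mem (mul_mem (inv_mem hh) (mem_CA.1 he).1) hh
    have heo2 : h⁻¹ * e * h ∈ Omega F ⇑(Q4 F) := by
      have e' : h⁻¹ * e * h = isoConj (Q4 F) (toSim _ h)⁻¹ e := by
        refine Subtype.ext ?_
        rw [← map_inv]
        show _ = (h⁻¹ : IsoGrp (Q4 F)).1 * e.1 * ((h⁻¹ : IsoGrp (Q4 F)).1)⁻¹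
        simp
      rw [e']; exact isoConj_mem_omega _ heo
    have heG : Commute (h⁻¹ * e * h) G1 := by
      rw [← Commute.conj_iff h]
      have e1 : h * (h⁻¹ * e * h) * h⁻¹ = e := by group
      rw [e1, hG]
      exact (mem_CA.1 he).2.mul_right (mem_CA.1 he).2
    refine ⟨h⁻¹ * e * h * p * (h⁻¹ * e * h)⁻¹, ⟨hn _ he2 heo2 p hp,
      Subgroup.mem_centralizer_singleton_iff.2 ?_⟩, ?_⟩
    · exact (heG.mul_left (Subgroup.mem_centralizer_singleton_iff.1 hpG)).mul_left heG.inv_left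
    · show cH _ = e * cH p * e⁻¹
      rw [hcH', hcH']; group)
  have hmu : ap m (uH F) = uH F := by
    have h1 := hfix (cH m) ⟨m, ⟨hm, Subgroup.mem_centralizer_singleton_iff.2 hc⟩, rfl⟩ _ hu
    rw [hcH', ap_mul, ap_mul, ap_inv_ap] at h1
    exact ap_inj h h1
  refine ext_ap fun x => ?_
  rw [ap_mul, ap_mul, ap_e0, ap_e0, au_omul (hM hm).1, au_omul (hM hm).1, au_conj (hM hm).1, hmu]

theorem trivial_of_core (h3 : (3 : F) ≠ 0) {σ : F ≃+* F} (M : Subgroup (IsoGrp (Q4 F))) (hM : M ≤ CR σ)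
    (hcop : (Nat.card M).Coprime 3)
    (hn : ∀ e ∈ CR σ, e ∈ Omega F ⇑(Q4 F) → ∀ m ∈ M, e * m * e⁻¹ ∈ M) :
    ∀ m ∈ M, m = 1 := by
  have hn' : ∀ e ∈ CR σ, e ∈ Omega F ⇑(Q4 F) → ∀ m ∈ M, e⁻¹ * m * e ∈ M := fun e he heo m hm => by
    simpa using hn e⁻¹ (inv_mem he) (inv_mem heo) m hm
  set α := conjOn M (gA F) (hn _ (gA_CR σ) gA_omega) (hn' _ (gA_CR σ) gA_omega) with hα
  set β := conjOn M (e0 F) (hn _ (e0_CR σ) e0_omega) (hn' _ (e0_CR σ) e0_omega) with hβ
  have hcu : ∀ {γ : MulAut M} {g : IsoGrp (Q4 F)}, (∀ m, (γ m).1 = g * m.1 * g⁻¹) → g ^ 3 = 1 → γ ^ 3 = 1 := by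
    intro γ g hγ hg
    refine MulEquiv.ext fun m => Subtype.ext ?_
    rw [pow_succ, sq, MulAut.mul_apply, MulAut.mul_apply, hγ, hγ, hγ, MulAut.one_apply]
    calc g * (g * (g * m.1 * g⁻¹) * g⁻¹) * g⁻¹ = g * g * g * m.1 * (g * g * g)⁻¹ := by group
      _ = _ := by rw [← sq, ← pow_succ, hg, one_mul, inv_one, mul_one]
  have hab : Commute α β := MulEquiv.ext fun m => Subtype.ext (by
    show gA F * (e0 F * m.1 * (e0 F)⁻¹) * (gA F)⁻¹ = e0 F * (gA F * m.1 * (gA F)⁻¹) * (e0 F)⁻¹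
    calc _ = gA F * e0 F * m.1 * (gA F * e0 F)⁻¹ := by group
      _ = _ := by rw [e0_gA.symm.eq]; group)
  have hcomm : ∀ {g : IsoGrp (Q4 F)} {m : IsoGrp (Q4 F)}, g * m * g⁻¹ = m → Commute m g := fun h =>
    (mul_inv_eq_iff_eq_mul.1 h).symm
  obtain ⟨a, b, ha, hb, hk⟩ := exists_norm_neg_one h3 σ
  obtain ⟨k1, k2, k3⟩ := kap_facts h3 ha hb hk
  have key : ∀ m ∈ M, Commute m (e0 F) := by
    intro m hm
    refine mem_of_aut_pair α β hab (hcu (fun _ => rfl) gA_cube) (hcu (fun _ => rfl) e0_cube) hcop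
      ((Subgroup.centralizer {e0 F}).subgroupOf M) ?_ ?_ ?_ ?_ ⟨m, hm⟩ |> fun h =>
        Subgroup.mem_centralizer_singleton_iff.1 h
    · intro v hv
      refine Subgroup.mem_centralizer_singleton_iff.2 ?_
      refine piece_of_core h3 M hM hcop hn (one_mem _) (h := 1) (G1 := gA F * gA F) (by group) ?_ v.2
        ((hcomm (congrArg Subtype.val hv)).mul_right (hcomm (congrArg Subtype.val hv)))
      rw [ap_one]; simp [uH, InH]
    · intro v hv
      exact Subgroup.mem_centralizer_singleton_iff.2 (hcomm (congrArg Subtype.val hv))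
    · intro v hv
      refine Subgroup.mem_centralizer_singleton_iff.2 (piece_of_core h3 M hM hcop hn k1 k2 k3 v.2 (hcomm ?_))
      have h : gA F * (e0 F * v.1 * (e0 F)⁻¹) * (gA F)⁻¹ = v.1 := congrArg Subtype.val hv
      rw [Subgroup.coe_subtype]
      refine Eq.trans ?_ h
      group
    · intro v hv
      refine Subgroup.mem_centralizer_singleton_iff.2 (piece_of_core h3 M hM hcop hn (hAu_CR h3 σ)
        (hAu_conj h3) (hAu_uH h3).1 v.2 (hcomm ?_))
      have h : gA F * (e0 F * (e0 F * v.1 * (e0 F)⁻¹) * (e0 F)⁻¹) * (gA F)⁻¹ = v.1 := congrArg Subtype.val hv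
      rw [Subgroup.coe_subtype]
      refine Eq.trans ?_ h
      group
  have hu : ∀ m ∈ M, ap m (uH F) = uH F := fun m hm => ap_fix_uH h3 (hM hm).1 (key m hm)
  have hconjfix : ∀ e ∈ CR σ, e ∈ Omega F ⇑(Q4 F) → ∀ m ∈ M, ap m (ap e (uH F)) = ap e (uH F) := by
    intro e he heo m hm
    have h := hu _ (hn' e he heo m hm)
    rw [ap_mul, ap_mul] at h
    exact ap_inj e⁻¹ (by rw [h, ap_inv_ap])
  intro m hm
  refine fixes_all (hM hm).1 ?_ ?_ ?_ ?_
  all_goals
    obtain ⟨⟨h21, h31⟩, h12, h13⟩ := roots_mem (1 : F)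
  · have h := hconjfix _ ⟨h21, fun x => by
      simp only [root21]; rw [rt_ap (by decide), rt_ap (by decide)]; apply ext8 <;> simp⟩
      (base4.eich_mem _ _) m hm
    rw [show ap (root21 (1 : F)) (uH F) = uH F - bv (.inl 2) by
      simp only [root21]; rw [rt_ap (by decide)]; apply ext8 <;> simp [uH, Pi.single_apply],
      map_sub, hu m hm, sub_right_inj] at h
    exact h
  · have h := hconjfix _ ⟨h31, fun x => by
      simp only [root31]; rw [rt_ap (by decide), rt_ap (by decide)]; apply ext8 <;> simp⟩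
      (base4.eich_mem _ _) m hm
    rw [show ap (root31 (1 : F)) (uH F) = uH F - bv (.inl 3) by
      simp only [root31]; rw [rt_ap (by decide)]; apply ext8 <;> simp [uH, Pi.single_apply],
      map_sub, hu m hm, sub_right_inj] at h
    exact h
  · have h := hconjfix _ ⟨h12, fun x => by
      simp only [root12]; rw [rt_ap (by decide), rt_ap (by decide)]; apply ext8 <;> simp⟩
      (base4.eich_mem _ _) m hm
    rw [show ap (root12 (1 : F)) (uH F) = uH F - bv (.inr 2) by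
      simp only [root12]; rw [rt_ap (by decide)]; apply ext8 <;> simp [uH, Pi.single_apply],
      map_sub, hu m hm, sub_right_inj] at h
    exact h
  · have h := hconjfix _ ⟨h13, fun x => by
      simp only [root13]; rw [rt_ap (by decide), rt_ap (by decide)]; apply ext8 <;> simp⟩
      (base4.eich_mem _ _) m hm
    rw [show ap (root13 (1 : F)) (uH F) = uH F - bv (.inr 3) by
      simp only [root13]; rw [rt_ap (by decide)]; apply ext8 <;> simp [uH, Pi.single_apply],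
      map_sub, hu m hm, sub_right_inj] at h
    exact h

end Cfsg.Agent.LocalBalance
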