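import Cfsg.Agent.Lib.LocalBalance.Lift
import Cfsg.Agent.Lib.GraphPSU.Basic
import Cfsg.Agent.Lib.AutPSU.Main

/-!
# Automorphisms of `PSU_n(q)` : tools for local balance

* `uSemi g τ` : the automorphism induced by `conj g ∘ τ`; `exists_uSemi`, `uSemi_eq`
* `uLift`, `uLift_fix`, `u_fix_unipotent`
* `psuConj_injective`, `u_pow_center`, `not_center_su`
-/

set_option autoImplicit false
set_option linter.unusedSectionVars false

namespace Cfsg.Agent.LocalBalance

open scoped MatrixGroups Matrix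
open Cfsg.Agent.FieldAut (galGL scal scal_coe suMat keep indAut liftAut)
open Cfsg.Agent.GraphPSU (uconj phiU)

variable {F : Type*} [Field F] [Fintype F] {m q : ℕ}

local notation "SUg" => Cfsg.SU (m + 2) F q
local notation "PU" => Cfsg.PSU (m + 2) F q
local notation "G2" => GL (Fin (m + 2)) F
local notation "M2" => Matrix (Fin (m + 2)) (Fin (m + 2)) F

theorem keep_semi (g : Cfsg.GU (m + 2) F q) (τ : F ≃+* F) :
    MulAut.conj (g : G2) * galGL τ ∈ keep (suMat (m + 2) F q) :=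
  mul_mem (FieldAut.conj_mem_suMat g.2) (FieldAut.keep_gal_su τ)

/-- The lift to `SU` of `uconj g * phiU τ`. -/
noncomputable def uLift (g : Cfsg.GU (m + 2) F q) (τ : F ≃+* F) : MulAut SUg :=
  liftAut FieldAut.suMat_injective ⟨_, keep_semi g τ⟩

theorem uSemi_eq (g : Cfsg.GU (m + 2) F q) (τ : F ≃+* F) :
    (uconj g * phiU τ : MulAut PU) = indAut FieldAut.suMat_injective ⟨_, keep_semi g τ⟩ := by
  rw [uconj, FieldAut.conjAut_apply, phiU, ← map_mul]
  rfl

theorem uSemi_mk (g : Cfsg.GU (m + 2) F q) (τ : F ≃+* F) (h : SUg) :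
    (uconj g * phiU τ : MulAut PU) (QuotientGroup.mk h : PU) = QuotientGroup.mk (uLift g τ h) := by
  rw [uSemi_eq]; rfl

theorem uLift_coe (g : Cfsg.GU (m + 2) F q) (τ : F ≃+* F) (h : SUg) :
    suMat (m + 2) F q (uLift g τ h) = (g : G2) * galGL τ (suMat (m + 2) F q h) * (g : G2)⁻¹ :=
  FieldAut.mat_liftAut _ _ h

theorem uLift_fix (g : Cfsg.GU (m + 2) F q) (τ : F ≃+* F) (h : SUg) :
    uLift g τ h = h ↔ (g : G2) * galGL τ (suMat (m + 2) F q h) * (g : G2)⁻¹ = suMat (m + 2) F q h := by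
  rw [← uLift_coe]
  exact ⟨fun e => by rw [e], fun e => FieldAut.suMat_injective e⟩

theorem scalar_of_center (hF : Fintype.card F = q ^ 2) {z : SUg} (hz : z ∈ Subgroup.center SUg) :
    ∃ c : Fˣ, suMat (m + 2) F q z = scal c := by
  obtain ⟨c, hc⟩ := FieldAut.center_scalar (FieldAut.suRigid hF (by omega)) hz
  exact ⟨c, hc.symm⟩

theorem center_of_scalar' (hF : Fintype.card F = q ^ 2) {z : SUg} {c : Fˣ}
    (hc : suMat (m + 2) F q z = scal c) : z ∈ Subgroup.center SUg :=
  FieldAut.center_of_scalar (FieldAut.suRigid hF (by omega)) ⟨c, hc.symm⟩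

theorem u_pow_center (hF : Fintype.card F = q ^ 2) {z : SUg} (hz : z ∈ Subgroup.center SUg) :
    z ^ (m + 2) = 1 := by
  obtain ⟨c, hc⟩ := scalar_of_center hF hz
  have hd := z.1.2
  have e : ((z : Matrix.SpecialLinearGroup (Fin (m + 2)) F) : M2) = (c : F) • 1 := by
    rw [← FieldAut.suMat_coe, hc, scal_coe]
  rw [e, Matrix.det_smul, Matrix.det_one, mul_one, Fintype.card_fin] at hd
  refine FieldAut.suMat_injective ?_
  rw [map_pow, hc, ← map_pow, map_one,
    (Units.ext (by rw [Units.val_pow_eq_pow_val, hd, Units.val_one]) : c ^ (m + 2) = 1), map_one]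

theorem u_fix_unipotent (hF : Fintype.card F = q ^ 2) {g : Cfsg.GU (m + 2) F q} {τ : F ≃+* F} {h : SUg}
    (hu : IsNilpotent ((suMat (m + 2) F q h : M2) - 1))
    (hfix : (uconj g * phiU τ : MulAut PU) (QuotientGroup.mk h : PU) = QuotientGroup.mk h) :
    (g : G2) * galGL τ (suMat (m + 2) F q h) * (g : G2)⁻¹ = suMat (m + 2) F q h := by
  rw [uSemi_mk, eq_comm, QuotientGroup.eq] at hfix
  obtain ⟨c, hc⟩ := scalar_of_center hF hfix
  rw [map_mul, map_inv, uLift_coe, inv_mul_eq_iff_eq_mul, ← FieldAut.scal_comm] at hc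
  have hv := congrArg Units.val hc
  have hc1 : (c : F) = 1 := FieldAut.eq_one_of_smul_unipotent
    (R := (τ.mapMatrix).trans (FieldAut.conjRing (g : G2))) hu (by
      rw [Units.val_mul (scal c), scal_coe, Matrix.smul_mul, one_mul] at hv
      exact hv)
  rw [hc, (Units.ext hc1 : c = 1), map_one, one_mul]

theorem psuConj_injective (hF : Fintype.card F = q ^ 2) :
    Function.Injective (MulAut.conj : PU →* MulAut PU) := by
  refine (injective_iff_map_eq_one _).2 fun k hk => ?_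
  obtain ⟨s, rfl⟩ := QuotientGroup.mk_surjective k
  rw [← FieldAut.inn_eq_conjAut FieldAut.suMat_injective (Cfsg.GU (m + 2) F q)
    (fun _ => FieldAut.conj_mem_suMat) s (FieldAut.suMat_mem s), FieldAut.conjAut_apply,
    FieldAut.conjAut_eq_one_iff (FieldAut.suRigid hF (by omega))] at hk
  exact (QuotientGroup.eq_one_iff _).2 (FieldAut.center_of_scalar (FieldAut.suRigid hF (by omega)) hk)

theorem exists_uSemi (hF : Fintype.card F = q ^ 2) (hm : 1 ≤ m) (hs : ¬(m + 2 = 3 ∧ q = 2))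
    (β : MulAut PU) : ∃ (g : Cfsg.GU (m + 2) F q) (τ : F ≃+* F), β = uconj g * phiU τ := by
  obtain ⟨X, hX, τ, rfl⟩ := AutPSU.exists_factor hF (by omega) hs β
  exact ⟨⟨X, hX⟩, τ, AutPSU.twistAut_eq_mul hX τ⟩

theorem not_center_su (hF : Fintype.card F = q ^ 2) (hm : 1 ≤ m) {t : F} (ht : t ^ (q + 1) = -1) {c : F}
    (hc0 : c ≠ 0) (hc : c + c ^ q = 0) :
    Unitary.suTransvection hF _ (FieldAut.isotropic_pair hF (show (0 : Fin (m + 2)) ≠ 1 by simp [Fin.ext_iff]) ht)
      c hc ∉ Subgroup.center SUg := by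
  intro hcen
  obtain ⟨d, hd⟩ := scalar_of_center hF hcen
  have e := congrArg Units.val hd
  rw [scal_coe, FieldAut.suMat_coe] at e
  change Cfsg.unitaryTransvection (m + 2) q _ c = _ at e
  let i2 : Fin (m + 2) := ⟨2, by omega⟩
  have h20 : i2 ≠ 0 := Fin.ne_of_val_ne (show (2 : ℕ) ≠ 0 by omega)
  have h21 : i2 ≠ 1 := Fin.ne_of_val_ne (show (2 : ℕ) ≠ 1 by omega)
  have h01 : (0 : Fin (m + 2)) ≠ 1 := by simp [Fin.ext_iff]
  have a2 := congrFun (congrFun e i2) i2
  have a0 := congrFun (congrFun e 0) 0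
  simp [Cfsg.unitaryTransvection, Matrix.vecMulVec_apply, h20, h21, h01] at a2 a0
  rw [← a2] at a0
  exact hc0 (by linear_combination a0)

end Cfsg.Agent.LocalBalance
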