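import Cfsg.Agent.Lib.Unitary.Small32
import Cfsg.Agent.Lib.Cores.Basic

/-!
# Normal subgroups of `PSU_3(2)`

* `psu32_eq_bot` : no non-trivial normal subgroup of order prime to `3`
-/

set_option autoImplicit false

namespace Cfsg.Agent.LocalBalance

open Cfsg.Agent.Unitary (GF4)
open Cfsg.Agent.Unitary.PSU32

theorem hMul_comm_mod : ∀ x y : Fin 3 × Fin 3 × Fin 3, ∃ c, hMul x y = hMul (hMul y x) (0, c, c) := by
  decide +kernel

theorem rMat_centralize : ∀ g : QuaternionGroup 2,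
    (∀ y : Fin 3 × Fin 3 × Fin 3, ∃ c,
      mmul (rMat g) (hMat y) = mmul (hMat (hMul y (0, c, c))) (rMat g)) → g = 1 := by
  decide +kernel

theorem central_hElt (c : Fin 3) : hElt (0, c, c) ∈ Subgroup.center (Cfsg.SU 3 GF4 2) :=
  (Unitary.mem_center_SU_iff GF4.card (by norm_num) _).2 ⟨wpow c, hMat_scalar c⟩

theorem exists_coords (s : Cfsg.SU 3 GF4 2) : ∃ g x, s = rElt g * hElt x := by
  haveI := H_normal
  obtain ⟨g, hg⟩ := (quatHom_bijective H_normal).2 (s : Cfsg.SU 3 GF4 2 ⧸ H)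
  obtain ⟨x, hx⟩ := (QuotientGroup.eq.1 hg : (rElt g)⁻¹ * s ∈ H)
  exact ⟨g, x, by rw [hx, mul_inv_cancel_left]⟩

theorem psu32_centralizer (a : Cfsg.PSU 3 GF4 2)
    (ha : ∀ b ∈ H.map (QuotientGroup.mk' (Subgroup.center (Cfsg.SU 3 GF4 2))), a * b = b * a) :
    a ∈ H.map (QuotientGroup.mk' (Subgroup.center (Cfsg.SU 3 GF4 2))) := by
  let π := QuotientGroup.mk' (Subgroup.center (Cfsg.SU 3 GF4 2))
  obtain ⟨s, rfl⟩ := QuotientGroup.mk'_surjective _ a
  obtain ⟨g, x, rfl⟩ := exists_coords s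
  have hz : ∀ (c : Fin 3) (y : Fin 3 × Fin 3 × Fin 3), π (hElt (hMul y (0, c, c))) = π (hElt y) :=
    fun c y => by
    rw [← hElt_mul, map_mul, show π (hElt (0, c, c)) = 1 from (QuotientGroup.eq_one_iff _).2 (central_hElt c),
      mul_one]
  obtain rfl : g = 1 := rMat_centralize g fun y => by
    obtain ⟨y', hy'⟩ := rMat_conj g y
    have e1 : rElt g * hElt y = hElt y' * rElt g :=
      su_ext ((mmul_eq _ _).symm.trans (hy'.trans (mmul_eq _ _)))
    have e2 : π (rElt g) * π (hElt y) = π (hElt y) * π (rElt g) := by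
      obtain ⟨c, hc⟩ := hMul_comm_mod x y
      have hxy : π (hElt x) * π (hElt y) = π (hElt y) * π (hElt x) := by
        rw [← map_mul, ← map_mul, hElt_mul, hElt_mul, hc, hz]
      have h := ha _ ⟨_, ⟨y, rfl⟩, rfl⟩
      rw [map_mul, mul_assoc] at h
      change π (rElt g) * (π (hElt x) * π (hElt y)) = π (hElt y) * (π (rElt g) * π (hElt x)) at h
      rw [hxy, ← mul_assoc, ← mul_assoc (π (hElt y))] at h
      exact mul_right_cancel h
    rw [← map_mul, e1, map_mul, mul_left_inj] at e2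
    obtain ⟨z, hzc, hyz⟩ := (QuotientGroup.mk'_eq_mk' _).1 e2.symm
    obtain ⟨w, hw⟩ := center_le hzc
    obtain ⟨v, hv⟩ := (Unitary.mem_center_SU_iff GF4.card (by norm_num) z).1 hzc
    have hv3 : v * v * v = 1 := by
      have := z.1.2
      rw [hv, Matrix.scalar_apply, Matrix.det_diagonal, Fin.prod_univ_three] at this
      exact this
    obtain ⟨c, hc⟩ := scalar_mem v hv3
    refine ⟨c, ?_⟩
    rw [hy', mmul_eq, mmul_eq, ← hMat_mul, mmul_eq, hc, ← hv]
    congr 1
    exact (congrArg (fun u : Cfsg.SU 3 GF4 2 =>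
      ((u : Matrix.SpecialLinearGroup (Fin 3) GF4) : Matrix (Fin 3) (Fin 3) GF4)) hyz).symm
  refine ⟨hElt x, ⟨x, rfl⟩, ?_⟩
  have h1 : rElt 1 = (1 : Cfsg.SU 3 GF4 2) := su_ext rfl
  rw [h1, one_mul]

theorem psu32_eq_bot {F : Type*} [Field F] [Fintype F] (hF : Fintype.card F = 4)
    (M : Subgroup (Cfsg.PSU 3 F 2)) [M.Normal] (hc : (Nat.card M).Coprime 3) : M = ⊥ := by
  let E := Unitary.psu32Equiv hF
  let π := QuotientGroup.mk' (Subgroup.center (Cfsg.SU 3 GF4 2))
  set M' := M.map E.toMonoidHom with hM'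
  haveI : M'.Normal := Subgroup.Normal.map inferInstance _ E.surjective
  haveI : (H.map π).Normal := H_normal.map π (QuotientGroup.mk'_surjective _)
  have hN : Nat.card (H.map π) ∣ 27 := by
    rw [← card_H]; exact Subgroup.card_map_dvd _ _
  have hc' : (Nat.card M').Coprime 27 := by
    rw [hM', ← Nat.card_congr (M.equivMapOfInjective E.toMonoidHom E.injective).toEquiv]
    exact hc.pow_right 3
  have hd : Disjoint M' (H.map π) := Subgroup.disjoint_of_coprime_natCard
    (Nat.Coprime.coprime_dvd_right hN hc')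
  have hle : M' ≤ H.map π := fun a ha => psu32_centralizer a fun b hb =>
    Subgroup.commute_of_normal_of_disjoint M' _ inferInstance inferInstance hd a b ha hb
  have hbot : M' = ⊥ := disjoint_self.1 (hd.mono_right hle)
  exact (Subgroup.map_eq_bot_iff_of_injective _ E.injective).1 hbot

end Cfsg.Agent.LocalBalance
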