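import Cfsg.Agent.Lib.LocalBalance.Linear
import Cfsg.Agent.Lib.LocalBalance.UnitaryBasic
import Cfsg.Agent.Lib.LocalBalance.UnitarySmall
import Cfsg.Agent.Lib.Unitary.Simple

/-!
# Local balance in `PSU_n(q)`: field automorphisms of odd prime order

* `crit_field_psu`
-/

set_option autoImplicit false
set_option linter.unusedSectionVars false

namespace Cfsg.Agent.LocalBalance

open scoped MatrixGroups Matrix
open Cfsg.Agent.FieldAut (galGL scal scal_coe suMat mapGL)
open Cfsg.Agent.GraphPSU (uconj phiU)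

variable {F : Type*} [Field F] [Fintype F] {m q : ℕ}

local notation "SUg" => Cfsg.SU (m + 2) F q
local notation "PU" => Cfsg.PSU (m + 2) F q
local notation "G2" => GL (Fin (m + 2)) F
local notation "M2" => Matrix (Fin (m + 2)) (Fin (m + 2)) F
local notation "I" => Fin (m + 2)

theorem phiU_pow (τ : F ≃+* F) (k : ℕ) : (phiU τ : MulAut PU) ^ k = phiU (τ ^ k) := by
  induction k with
  | zero => rw [pow_zero, pow_zero, GraphPSU.phiU_one]
  | succ k ih => rw [pow_succ, pow_succ, ih, GraphPSU.phiU_mul]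

theorem rad_small {K : Type*} [Group K] {F₀ : Type*} [Field F₀] [Fintype F₀] {n q₀ : ℕ} (hn3 : n = 3)
    (hq₀ : q₀ = 2) (h₀ : Fintype.card F₀ = q₀ ^ 2) (φ : Cfsg.SU n F₀ q₀ →* K)
    (hker : ∀ z, φ z = 1 ↔ z ∈ Subgroup.center (Cfsg.SU n F₀ q₀))
    {p : ℕ} [Fact p.Prime] (hodd : Odd p) (hd : p ∣ Nat.card φ.range) {M : Subgroup K} (hM : M ≤ φ.range)
    (hn : ∀ g ∈ φ.range, ∀ a ∈ M, g * a * g⁻¹ ∈ M) (hc : (Nat.card M).Coprime p) : M = ⊥ := by
  subst hn3 hq₀
  have hp : p.Prime := Fact.out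
  have h4 : Fintype.card F₀ = 4 := h₀
  let ψ : Cfsg.PSU 3 F₀ 2 →* K := QuotientGroup.lift _ φ fun z hz => (hker z).2 hz
  have hψ : Function.Injective ψ := (injective_iff_map_eq_one _).2 fun k hk => by
    obtain ⟨z, rfl⟩ := QuotientGroup.mk_surjective k
    exact (QuotientGroup.eq_one_iff _).2 ((hker z).1 hk)
  have hψr : ψ.range = φ.range := by
    ext y
    exact ⟨fun ⟨b, hb⟩ => by obtain ⟨b, rfl⟩ := QuotientGroup.mk_surjective b; exact ⟨b, hb⟩,
      fun ⟨b, hb⟩ => ⟨QuotientGroup.mk b, hb⟩⟩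
  have hp3 : p = 3 := by
    have h72 : Nat.card φ.range ∣ 72 := by
      rw [← hψr, ← Unitary.card_PSU_three_two h4]; exact Subgroup.card_range_dvd ψ
    have h2 : p ≠ 2 := fun h => absurd (h ▸ hodd) (by decide)
    have h23 : p ∣ 2 ^ 3 * 3 ^ 2 := (hd.trans h72).trans (by norm_num)
    rcases hp.dvd_mul.1 h23 with h | h
    · exact absurd ((Nat.prime_dvd_prime_iff_eq hp Nat.prime_two).1 (hp.dvd_of_dvd_pow h)) h2
    · exact (Nat.prime_dvd_prime_iff_eq hp Nat.prime_three).1 (hp.dvd_of_dvd_pow h)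
  subst hp3
  haveI : (M.comap ψ).Normal := ⟨fun b hb g => by
    show ψ (g * b * g⁻¹) ∈ M
    rw [map_mul, map_mul, map_inv]
    exact hn _ (hψr ▸ ⟨g, rfl⟩) _ hb⟩
  have hbot : M.comap ψ = ⊥ := psu32_eq_bot h4 _
    (Nat.Coprime.coprime_dvd_left (Subgroup.card_comap_dvd_of_injective M ψ hψ) hc)
  refine (Subgroup.eq_bot_iff_forall _).2 fun a ha => ?_
  obtain ⟨b, rfl⟩ : a ∈ ψ.range := hψr ▸ hM ha
  have hb : b ∈ M.comap ψ := ha
  rw [hbot, Subgroup.mem_bot] at hb
  rw [hb, map_one]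

theorem crit_field_psu (hF : Fintype.card F = q ^ 2) (hm : 1 ≤ m) (hs : ¬(m + 2 = 3 ∧ q = 2))
    {p : ℕ} [Fact p.Prime] (hodd : Odd p) {σ : F ≃+* F} (hσ : orderOf σ = p) {q₀ : ℕ}
    (hqq : q = q₀ ^ p) :
    Crit p (phiU σ : MulAut PU) := by
  classical
  have hp : p.Prime := Fact.out
  haveI : Finite (F ≃+* F) := Finite.of_injective (fun a : F ≃+* F => (a : F → F)) DFunLike.coe_injective
  set F₀ := FieldAut.fixF σ with hF₀
  haveI : Fintype F₀ := Fintype.ofFinite _
  have h₀ : Fintype.card F₀ = q₀ ^ 2 := by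
    refine Nat.pow_left_injective hp.ne_zero ?_
    show Fintype.card F₀ ^ p = (q₀ ^ 2) ^ p
    rw [← Nat.card_eq_fintype_card, hF₀, FieldAut.pow_card_fixed σ hσ, Nat.card_eq_fintype_card, hF, hqq,
      ← pow_mul, ← pow_mul, mul_comm]
  set e : F₀ →+* F := F₀.subtype
  have hef : ∀ c, σ (e c) = e c := fun c => (FieldAut.mem_fixF σ).1 c.2
  set Ψ : MulAut SUg := uLift 1 σ with hΨ
  have hfixiff : ∀ h : SUg, Ψ h = h ↔ ((h : Matrix.SpecialLinearGroup I F) : M2).map σ =
      ((h : Matrix.SpecialLinearGroup I F) : M2) := fun h => by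
    rw [hΨ, uLift_fix, OneMemClass.coe_one, one_mul, inv_one, mul_one, Units.ext_iff,
      FieldAut.galGL_apply_coe, FieldAut.suMat_coe]
  have hmapmem : ∀ s₀ : Matrix.SpecialLinearGroup I F₀,
      Matrix.SpecialLinearGroup.map e s₀ ∈ Cfsg.SU (m + 2) F q ↔ s₀ ∈ Cfsg.SU (m + 2) F₀ q₀ := by
    intro s₀
    show Matrix.SpecialLinearGroup.toGL (Matrix.SpecialLinearGroup.map e s₀) ∈ Cfsg.GU (m + 2) F q ↔
      Matrix.SpecialLinearGroup.toGL s₀ ∈ Cfsg.GU (m + 2) F₀ q₀
    rw [FieldAut.mem_GU_iff_matrix hF, FieldAut.mem_GU_iff_matrix h₀]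
    show ((s₀ : Matrix I I F₀).map e)ᵀ * ((s₀ : Matrix I I F₀).map e).map (Unitary.conjHom hF) = 1 ↔ _
    rw [FieldAut.map_conj_embed hF h₀ hqq hodd, ← Matrix.transpose_map, ← Matrix.map_mul,
      ← Matrix.map_one e (map_zero e) (map_one e)]
    exact ⟨fun h => Matrix.map_injective e.injective h, fun h => congrArg (fun X => X.map e) h⟩
  let ι₀ : Cfsg.SU (m + 2) F₀ q₀ →* SUg :=
    ((Matrix.SpecialLinearGroup.map e).comp (Subgroup.subtype _)).codRestrict _
      fun s => (hmapmem s.1).2 s.2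
  let φ : Cfsg.SU (m + 2) F₀ q₀ →* PU := (QuotientGroup.mk' _).comp ι₀
  have hι : ∀ s, Ψ (ι₀ s) = ι₀ s := fun s => (hfixiff _).2 (by
    ext i j; exact hef _)
  have hrange : fixS Ψ = φ.range := by
    ext y
    constructor
    · rintro ⟨s, hs, rfl⟩
      have hent : ∀ i j, ((s : Matrix.SpecialLinearGroup I F) : M2) i j ∈ F₀ := fun i j =>
        (FieldAut.mem_fixF σ).2 (congrFun (congrFun ((hfixiff s).1 hs) i) j)
      let M : Matrix I I F₀ := fun i j => ⟨_, hent i j⟩
      have hM : M.det = 1 := e.injective (by rw [RingHom.map_det, map_one]; exact s.1.2)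
      exact ⟨⟨⟨M, hM⟩, (hmapmem ⟨M, hM⟩).1 s.2⟩, rfl⟩
    · rintro ⟨s₀, rfl⟩
      exact ⟨_, hι s₀, rfl⟩
  obtain ⟨t, -, -, ht, -⟩ := FieldAut.exists_three_norm_neg_one (F := F₀) (q := q₀) h₀
  obtain ⟨c, hc0, hc⟩ := Unitary.exists_skew h₀
  have hc' : c + c ^ q₀ = 0 := by rw [hc, add_neg_cancel]
  have hT : ∀ (i j : I) (hij : i ≠ j) (a : F₀) (ha : a ^ (q₀ + 1) = -1),
      ∃ (s : Cfsg.SU (m + 2) F₀ q₀) (ha' : (e a) ^ (q + 1) = -1) (hc'' : e c + e c ^ q = 0),
        ι₀ s = Unitary.suTransvection hF _ (FieldAut.isotropic_pair hF hij ha') (e c) hc'' := by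
    intro i j hij a ha
    have hq : ∀ x, e x ^ q = e (x ^ q₀) := fun x => FieldAut.embed_conj hF h₀ hqq hodd x
    refine ⟨Unitary.suTransvection h₀ _ (FieldAut.isotropic_pair h₀ hij ha) c hc',
      by rw [pow_succ, hq, ← map_mul, ← pow_succ, ha, map_neg, map_one],
      by rw [hq, ← map_add, hc', map_zero], Subtype.ext (Subtype.ext (Matrix.ext fun r s => ?_))⟩
    show e (Cfsg.unitaryTransvection (m + 2) q₀ _ c r s) = Cfsg.unitaryTransvection (m + 2) q _ (e c) r s
    simp only [Cfsg.unitaryTransvection, Matrix.add_apply, Matrix.smul_apply, Matrix.vecMulVec_apply,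
      smul_eq_mul, map_add, map_mul, map_pow]
    congr 1
    · simp [Matrix.one_apply, apply_ite e]
    · congr 1
      have e1 : ∀ x : I, (Pi.single i 1 + e a • Pi.single j 1 : I → F) x =
          e ((Pi.single i 1 + a • Pi.single j 1 : I → F₀) x) := fun x => by
        simp [Pi.single_apply, apply_ite e]
      rw [e1, e1, hq, ← map_pow]
  have hne : ∃ h, Ψ h = h ∧ h ∉ Subgroup.center SUg := by
    obtain ⟨s, ha', hc'', es⟩ := hT 0 1 (by simp [Fin.ext_iff]) t ht
    refine ⟨ι₀ s, hι s, ?_⟩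
    rw [es]
    exact not_center_su hF hm ha' (fun h => hc0 (e.injective (h.trans (map_zero e).symm))) hc''
  have hcen : ∀ z ∈ Subgroup.center (Cfsg.SU (m + 2) F₀ q₀), φ z = 1 := fun z hz => by
    obtain ⟨d, hd⟩ := (Unitary.mem_center_SU_iff h₀ (by omega) z).1 hz
    refine (QuotientGroup.eq_one_iff _).2 ((Unitary.mem_center_SU_iff hF (by omega) _).2 ⟨e d, ?_⟩)
    show (((z : Matrix.SpecialLinearGroup I F₀) : Matrix I I F₀)).map e = _
    rw [hd]
    ext i j; by_cases hij : i = j <;> simp [hij]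
  have hrad : p ∣ Nat.card (fixS Ψ) → ∀ M ≤ fixS Ψ, (∀ g ∈ fixS Ψ, ∀ a ∈ M, g * a * g⁻¹ ∈ M) →
      (Nat.card M).Coprime p → ∀ a ∈ M, ∀ s ∈ fixS Ψ, a * s * a⁻¹ = s := by
    intro hd M hM hn hc a ha s hs'
    rw [hrange] at hd hM hn
    by_cases hsmall : m = 1 ∧ q₀ = 2
    · have hker : ∀ z, φ z = 1 ↔ z ∈ Subgroup.center (Cfsg.SU (m + 2) F₀ q₀) := fun z => by
        refine ⟨fun hk => ?_, hcen z⟩
        obtain ⟨d, hd⟩ := (Unitary.mem_center_SU_iff hF (by omega) _).1
          ((QuotientGroup.eq_one_iff (ι₀ z)).1 hk)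
        change (((z : Matrix.SpecialLinearGroup I F₀) : Matrix I I F₀)).map e = _ at hd
        have hd0 : d = e (((z : Matrix.SpecialLinearGroup I F₀) : Matrix I I F₀) 0 0) := by
          have := congrFun (congrFun hd 0) 0
          simpa using this.symm
        refine (Unitary.mem_center_SU_iff h₀ (by omega) _).2
          ⟨((z : Matrix.SpecialLinearGroup I F₀) : Matrix I I F₀) 0 0, Matrix.map_injective e.injective ?_⟩
        beta_reduce
        rw [hd, hd0]
        ext i j; by_cases hij : i = j <;> simp [hij]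
      rw [show a = 1 from Subgroup.mem_bot.1 (rad_small (n := m + 2) (by omega) hsmall.2 h₀ φ hker hodd hd hM hn hc ▸ ha),
        one_mul, inv_one, mul_one]
    · haveI : IsSimpleGroup (Cfsg.SU (m + 2) F₀ q₀ ⧸ Subgroup.center (Cfsg.SU (m + 2) F₀ q₀)) := by
        refine Unitary.isSimpleGroup_PSU h₀ ?_
        by_cases h1 : 2 ≤ m
        · exact Or.inl (by omega)
        · refine Or.inr ⟨by omega, ?_⟩
          have := Unitary.two_le_q h₀
          have : q₀ ≠ 2 := fun h => hsmall ⟨by omega, h⟩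
          omega
      haveI : IsSimpleGroup φ.range := by
        refine isSimpleGroup_range φ (fun z hz => hcen z hz) fun h0 => ?_
        obtain ⟨h, hh, hhc⟩ := hne
        have h1 : (QuotientGroup.mk h : PU) ∈ φ.range := hrange ▸ mk_mem_fixS hh
        rw [h0, Subgroup.mem_bot, QuotientGroup.eq_one_iff] at h1
        exact hhc h1
      rw [show a = 1 from Subgroup.mem_bot.1 (rad_of_simple hd hM hn hc ▸ ha), one_mul, inv_one, mul_one]
  refine (crit_lift (p := p) Ψ (phiU σ) (fun h => ?_) (N := m + 2) (fun z hz => u_pow_center hF hz)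
    (psuConj_injective hF) hne (fun hd => ?_) hrad fun β _ hk => ?_).1
  · rw [← one_mul (phiU σ : MulAut PU), ← map_one (uconj : Cfsg.GU (m + 2) F q →* _)]
    exact uSemi_mk 1 σ h
  · obtain ⟨π, hπ, hsign⟩ := exists_perm_prime (p := p) hodd (Nat.le_of_dvd (by omega) hd)
    have hu : Unitary.IsUnitary q (Matrix.permMatrixHom π : M2) := Unitary.isUnitary_permMatrix π⁻¹
    have hdet : (Matrix.permMatrixHom π : M2).det = 1 := by
      show (π⁻¹.permMatrix F).det = 1
      rw [Matrix.det_permutation, map_inv, hsign]; simp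
    refine ⟨Unitary.suOfUnitary _ hu hdet, (hfixiff _).2 ?_, ?_, fun hc => ?_⟩
    · show (Matrix.permMatrixHom π : M2).map σ = _
      ext i j; simp [Equiv.Perm.permMatrix, PEquiv.toMatrix_apply, apply_ite σ]
    · have h1 : (Unitary.suOfUnitary _ hu hdet : SUg) ^ p = 1 := by
        refine Subtype.ext (Subtype.ext ?_)
        show (Matrix.permMatrixHom π : M2) ^ p = 1
        rw [← map_pow, ← hπ, pow_orderOf_eq_one, map_one]
      rw [h1]; exact one_mem _
    · obtain ⟨d, hd⟩ := (Unitary.mem_center_SU_iff hF (by omega) _).1 hc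
      have hπ1 : π⁻¹ = 1 := by
        refine permMatrix_inj (F := F) (c := d) ?_
        rw [Matrix.permMatrix_one, Matrix.smul_one_eq_diagonal, ← Matrix.scalar_apply]
        exact hd
      rw [inv_eq_one] at hπ1
      rw [hπ1, orderOf_one] at hπ
      exact hp.ne_one hπ.symm
  · obtain ⟨g, τ, rfl⟩ := exists_uSemi hF hm hs β
    obtain ⟨hτ, a, ha⟩ := fix_of_eigen_herm (F := F) (q₀ := q₀) h₀ (by omega : 3 ≤ m + 2) e (g : G2) τ
      fun i j hij b hb => by
        obtain ⟨s, ha', hc'', es⟩ := hT i j hij b hb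
        have hk' := hk _ (hι s)
        rw [es] at hk'
        have hnil : IsNilpotent ((suMat (m + 2) F q
            (Unitary.suTransvection hF _ (FieldAut.isotropic_pair hF hij ha') (e c) hc'') : M2) - 1) :=
          FieldAut.unipotent_suTransv hF _ _ _ hc''
        obtain ⟨l, hl⟩ := eigen_of_fix (u_fix_unipotent hF hnil hk')
          (v := Pi.single i 1 + e b • Pi.single j 1)
          (w := e c • fun k => (Pi.single i 1 + e b • Pi.single j 1 : I → F) k ^ q)
          (fun h0 => hc0 (e.injective (by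
            have h1 := congrFun h0 i
            simpa [hij, Unitary.zero_pow_q hF] using h1)))
          (by
            show Cfsg.unitaryTransvection (m + 2) q _ (e c) = _
            rw [Cfsg.unitaryTransvection, Matrix.vecMulVec_smul])
        refine ⟨l, ?_⟩
        have hτv : τ ∘ (Pi.single i 1 + e b • Pi.single j 1 : I → F) =
            Pi.single i 1 + τ (e b) • Pi.single j 1 := by
          funext k; simp [Pi.single_apply, apply_ite τ]
        rw [hτv] at hl
        exact hl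
    obtain ⟨i, rfl⟩ := mem_powers_iff_mem_zpowers.2 (mem_zpowers_of_fix (σ := σ) (τ := τ)
      fun d hd => hτ ⟨d, (FieldAut.mem_fixF σ).2 hd⟩)
    have hg1 : uconj g = (1 : MulAut PU) := by
      rw [uconj, FieldAut.conjAut_apply, FieldAut.conjAut_eq_one_iff (FieldAut.suRigid hF (by omega))]
      exact ⟨a, ha.symm⟩
    rw [hg1, one_mul, phiU_pow]
    show phiU ((σ ^ i) ^ p) = 1
    rw [← pow_mul, mul_comm, pow_mul, ← hσ, pow_orderOf_eq_one, one_pow, GraphPSU.phiU_one]

end Cfsg.Agent.LocalBalance
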