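import Cfsg.Agent.Lib.LocalBalance.UnitaryBasic
import Cfsg.Agent.Lib.LocalBalance.FormsRad
import Cfsg.Agent.Lib.GraphPSU.Desc

/-!
# Local balance in `PSU_n(q)`: involutions inducing the field automorphism

* `crit_ugam`
-/

set_option autoImplicit false
set_option linter.unusedSectionVars false

namespace Cfsg.Agent.LocalBalance

open scoped MatrixGroups Matrix
open Cfsg.Agent.FieldAut (galGL scal scal_coe suMat mapGL)
open Cfsg.Agent.GraphPSU (uconj phiU ugam Ctx)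
open Cfsg.Agent.AutPSL (isoMat mem_isoMat)

variable {F : Type*} [Field F] [Fintype F] {F₀ : Type*} [Field F₀] [Fintype F₀] {m q : ℕ}
  {σ : F ≃+* F} {e : F₀ →+* F}

local notation "SUg" => Cfsg.SU (m + 2) F q
local notation "PU" => Cfsg.PSU (m + 2) F q
local notation "G2" => GL (Fin (m + 2)) F
local notation "M2" => Matrix (Fin (m + 2)) (Fin (m + 2)) F
local notation "G0" => GL (Fin (m + 2)) F₀
local notation "M0" => Matrix (Fin (m + 2)) (Fin (m + 2)) F₀

theorem galGL_ιGL (C : Ctx q σ e) (k : G2) (a₀ : G0) :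
    galGL σ (ιGL k e a₀) = galGL σ k * mapGL e a₀ * (galGL σ k)⁻¹ := by
  rw [ιGL_apply, map_mul, map_mul, map_inv, FieldAut.galGL_mapGL e C.fix]

/-- The isometries of the descended form are unitary. -/
theorem ιGL_mem_GU (C : Ctx q σ e) {k : G2} {d : F} {H : G0}
    (hH : (k : M2)ᵀ * (k : M2).map σ = d • (H : M0).map e) {a₀ : G0}
    (ha : a₀ ∈ isoMat (H : M0)) : ιGL k e a₀ ∈ Cfsg.GU (m + 2) F q := by
  rw [C.mem_GU]
  have h1 : (a₀ : M0).map e = (mapGL e a₀ : G2).1 := rfl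
  have hσ : ((ιGL k e a₀ : G2) : M2).map σ =
      (k : M2).map σ * (a₀ : M0).map e * ((galGL σ k)⁻¹ : G2).1 := by
    have := congrArg Units.val (galGL_ιGL C k a₀)
    rw [FieldAut.galGL_apply_coe, Units.val_mul, Units.val_mul, FieldAut.galGL_apply_coe] at this
    rw [this]
    rfl
  have e1 : ((a₀ : M0).map e)ᵀ * (H : M0).map e * (a₀ : M0).map e = (H : M0).map e := by
    conv_rhs => rw [← mem_isoMat.1 ha, Matrix.map_mul, Matrix.map_mul, Matrix.transpose_map]
  rw [hσ, ιGL_apply, Units.val_mul, Units.val_mul, Matrix.transpose_mul, Matrix.transpose_mul, ← h1]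
  calc ((k⁻¹ : G2) : M2)ᵀ * (((a₀ : M0).map e)ᵀ * (k : M2)ᵀ) *
        ((k : M2).map σ * (a₀ : M0).map e * ((galGL σ k)⁻¹ : G2).1) =
      ((k⁻¹ : G2) : M2)ᵀ * (((a₀ : M0).map e)ᵀ * ((k : M2)ᵀ * (k : M2).map σ) * (a₀ : M0).map e) *
        ((galGL σ k)⁻¹ : G2).1 := by simp only [mul_assoc]
    _ = ((k⁻¹ : G2) : M2)ᵀ * ((k : M2)ᵀ * (k : M2).map σ) * ((galGL σ k)⁻¹ : G2).1 := by
      rw [hH, Matrix.mul_smul, Matrix.smul_mul, e1]
    _ = ((k : M2) * ((k⁻¹ : G2) : M2))ᵀ * ((galGL σ k).1 * ((galGL σ k)⁻¹ : G2).1) := by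
      rw [Matrix.transpose_mul, FieldAut.galGL_apply_coe]; simp only [mul_assoc]
    _ = 1 := by rw [Units.mul_inv, Units.mul_inv, Matrix.transpose_one, one_mul]

theorem exists_mapGL_of_fixed (C : Ctx q σ e) {X : G2} (hX : galGL σ X = X) :
    ∃ x₀ : G0, X = mapGL e x₀ := by
  have hent : ∀ i j, ∃ c, e c = (X : M2) i j := fun i j => (C.range _).2 (by
    have := congrArg Units.val hX
    rw [FieldAut.galGL_apply_coe] at this
    exact congrFun (congrFun this i) j)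
  choose f hf using hent
  have hmap : (Matrix.of f).map e = (X : M2) := Matrix.ext hf
  have hd : (Matrix.of f).det ≠ 0 := fun h0 => X.det_ne_zero (by
    rw [← hmap, ← RingHom.mapMatrix_apply, ← RingHom.map_det, h0, map_zero])
  exact ⟨Matrix.GeneralLinearGroup.mkOfDetNeZero _ hd, Units.ext hmap.symm⟩

theorem crit_ugam [Fact (Nat.Prime 2)] (C : Ctx q σ e) (hm : 1 ≤ m) (hs : ¬(m + 2 = 3 ∧ q = 2))
    (h2 : (2 : F₀) ≠ 0) {B : Cfsg.GU (m + 2) F q}
    (hB : ((B : G2) : M2)ᵀ = ((B : G2) : M2) ∨ ((B : G2) : M2)ᵀ = -((B : G2) : M2)) :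
    Crit 2 (ugam σ B : MulAut PU) ∧ ¬ Nat.Coprime 2 (Nat.card (fixK (ugam σ B : MulAut PU))) := by
  classical
  have hF := C.card
  haveI : Finite (F ≃+* F) := Finite.of_injective (fun a : F ≃+* F => (a : F → F)) DFunLike.coe_injective
  obtain ⟨H, ⟨k, a, d, D⟩, hH⟩ := GraphPSU.exists_desc C hB
  set Ψ : MulAut SUg := uLift B⁻¹ σ with hΨ
  have hBi : ∀ g : G2, ((B⁻¹ : Cfsg.GU (m + 2) F q) : G2) * galGL σ g * ((B⁻¹ : Cfsg.GU (m + 2) F q) : G2)⁻¹
      = k * galGL σ (k⁻¹ * g * k) * k⁻¹ := fun g => by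
    rw [map_mul, map_mul, map_inv, InvMemClass.coe_inv, inv_inv, D.hB, _root_.mul_inv_rev,
      _root_.mul_inv_rev, inv_inv]
    set K := galGL σ k
    set S := galGL σ g
    rw [← mul_assoc (k * K⁻¹ * (scal a)⁻¹ * S), mul_assoc (k * K⁻¹) (scal a)⁻¹ S,
      ← map_inv scal, FieldAut.scal_comm a⁻¹ S, ← mul_assoc (k * K⁻¹) S, mul_assoc _ (scal a⁻¹) (scal a),
      ← map_mul, inv_mul_cancel, map_one, mul_one]
    simp only [mul_assoc]
  have hfix : ∀ h : SUg, Ψ h = h ↔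
      ∃ o : isoMat (H : M0), ((o : G0) : M0).det = 1 ∧ suMat (m + 2) F q h = ιGL k e o := by
    intro h
    rw [hΨ, uLift_fix, hBi]
    constructor
    · intro hh
      have hX : galGL σ (k⁻¹ * suMat (m + 2) F q h * k) = k⁻¹ * suMat (m + 2) F q h * k := by
        conv_rhs => rw [← hh]
        group
      obtain ⟨x₀, hx₀⟩ := exists_mapGL_of_fixed C hX
      have hval : suMat (m + 2) F q h = ιGL k e x₀ := by
        rw [ιGL_apply, ← hx₀]; group
      have hdet : (x₀ : M0).det = 1 := e.injective (by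
        rw [map_one, ← ιGL_det k e x₀, ← hval, FieldAut.suMat_coe]; exact h.1.2)
      refine ⟨⟨x₀, ?_⟩, hdet, hval⟩
      have hgu := (C.mem_GU _).1 (hval ▸ FieldAut.suMat_mem h)
      have hk' : ((ιGL k e x₀ : G2) : M2) * (k : M2) = (k : M2) * (x₀ : M0).map e := by
        rw [ιGL_apply, ← Units.val_mul, inv_mul_cancel_right]; rfl
      have h3 : (((ιGL k e x₀ : G2) : M2) * (k : M2))ᵀ * (((ιGL k e x₀ : G2) : M2) * (k : M2)).map σ =
          (k : M2)ᵀ * (k : M2).map σ := by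
        rw [Matrix.transpose_mul, Matrix.map_mul, mul_assoc, ← mul_assoc ((ιGL k e x₀ : G2) : M2)ᵀ, hgu,
          one_mul]
      rw [hk', Matrix.transpose_mul, Matrix.map_mul, GraphPSU.map_map_fix C,
        show ((x₀ : M0).map e)ᵀ * (k : M2)ᵀ * ((k : M2).map σ * (x₀ : M0).map e) =
          ((x₀ : M0).map e)ᵀ * ((k : M2)ᵀ * (k : M2).map σ) * (x₀ : M0).map e by simp only [mul_assoc],
        D.hH, Matrix.mul_smul, Matrix.smul_mul, ← Matrix.transpose_map, ← Matrix.map_mul, ← Matrix.map_mul]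
        at h3
      exact Matrix.map_injective e.injective (smul_right_injective _ d.ne_zero h3)
    · rintro ⟨o, -, ho⟩
      rw [ho, ιGL_apply,
        show k⁻¹ * (k * mapGL e (o : G0) * k⁻¹) * k = mapGL e (o : G0) by group,
        FieldAut.galGL_mapGL e C.fix]
  have hsu : ∀ o : isoMat (H : M0), ((o : G0) : M0).det = 1 →
      ∃ h : SUg, suMat (m + 2) F q h = ιGL k e o := fun o ho => by
    obtain ⟨h, hh⟩ := FieldAut.mem_suMat_range.2
      (⟨ιGL_mem_GU C D.hH o.2, by rw [ιGL_det, ho, map_one]⟩ :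
        ιGL k e (o : G0) ∈ Cfsg.GU (m + 2) F q ∧ (ιGL k e (o : G0) : M2).det = 1)
    exact ⟨h, hh⟩
  let cι : isoMat (H : M0) →* Cfsg.GU (m + 2) F q :=
    ((ιGL k e).comp (Subgroup.subtype _)).codRestrict _ fun o => ιGL_mem_GU C D.hH o.2
  let c : isoMat (H : M0) →* MulAut PU := uconj.comp cι
  have hconj : ∀ (o : isoMat (H : M0)) (h : SUg), suMat (m + 2) F q h = ιGL k e o →
      c o = MulAut.conj (QuotientGroup.mk h : PU) := fun o h hh => by
    rw [← FieldAut.inn_eq_conjAut FieldAut.suMat_injective (Cfsg.GU (m + 2) F q)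
      (fun _ => FieldAut.conj_mem_suMat) h (FieldAut.suMat_mem h)]
    show uconj (cι o) = uconj _
    congr 1
    exact Subtype.ext hh.symm
  have hker : ∀ o, c o = 1 ↔ ∃ u : F₀ˣ, (o : G0) = scal u := fun o => by
    show uconj (cι o) = 1 ↔ _
    rw [GraphPSU.uconj_eq_one_iff C]
    constructor
    · rintro ⟨u, hu⟩
      exact exists_scal_of_ιGL k e hu
    · rintro ⟨u, hu⟩
      refine ⟨Units.map e.toMonoidHom u, ?_⟩
      show ιGL k e (o : G0) = _
      rw [hu, ιGL_scal]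
  have hinj := psuConj_injective (m := m) hF
  have hS : ∀ z : PU, z ∈ fixS Ψ ↔ ∃ o : isoMat (H : M0), ((o : G0) : M0).det = 1 ∧ c o = MulAut.conj z := by
    intro z
    constructor
    · rintro ⟨h, hh, rfl⟩
      obtain ⟨o, ho, hv⟩ := (hfix h).1 hh
      exact ⟨o, ho, hconj o h hv⟩
    · rintro ⟨o, ho, hco⟩
      obtain ⟨h, hh⟩ := hsu o ho
      rw [hconj o h hh] at hco
      exact hinj hco ▸ mk_mem_fixS ((hfix h).2 ⟨o, ho, hh⟩)
  obtain ⟨w, hw, hwd, hw2, hwn⟩ := exists_invol_forms hm h2 hH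
  obtain ⟨s, hs'⟩ := hsu ⟨w, hw⟩ hwd
  have hsc : s ∉ Subgroup.center SUg := fun hc => by
    obtain ⟨u, hu⟩ := scalar_of_center hF hc
    rw [hs'] at hu
    obtain ⟨u₀, hu₀⟩ := exists_scal_of_ιGL k e hu
    exact hwn u₀ hu₀
  have hs2 : s ^ 2 = 1 := FieldAut.suMat_injective (by
    rw [map_pow, map_one, hs', ← map_pow]
    show ιGL k e (w ^ 2) = 1
    rw [hw2, map_one])
  have hsf : Ψ s = s := (hfix s).2 ⟨⟨w, hw⟩, hwd, hs'⟩
  obtain ⟨hc, he⟩ := crit_lift (p := 2) Ψ (ugam σ B) (fun h => uSemi_mk B⁻¹ σ h) (N := (m + 2) * 2)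
    (fun z hz => by rw [pow_mul, u_pow_center hF hz, one_pow]) hinj ⟨s, hsf, hsc⟩
    (fun _ => ⟨s, hsf, by rw [hs2]; exact one_mem _, hsc⟩)
    (fun hd M hM hn hc a ha z hz => by
      rw [show a = 1 from Subgroup.mem_bot.1 (rad_forms hm h2 hH hinj c hker _ hS hd hM hn hc ▸ ha),
        one_mul, inv_one, mul_one])
    fun β _ hk => by
      obtain ⟨g, τ, rfl⟩ := exists_uSemi hF hm hs β
      have hfx : ∀ o ∈ isoMat (H : M0), (o : M0).det = 1 → IsNilpotent ((o : M0) - 1) →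
          (g : G2) * galGL τ (ιGL k e o) * (g : G2)⁻¹ = ιGL k e o := fun o ho hd hn => by
        obtain ⟨h, hh⟩ := hsu ⟨o, ho⟩ hd
        change suMat (m + 2) F q h = ιGL k e o at hh
        rw [← hh]
        exact u_fix_unipotent hF (by rw [hh]; exact ιGL_unipotent k e hn)
          (hk h ((hfix h).2 ⟨⟨o, ho⟩, hd, hh⟩))
      obtain ⟨hτ, b, hb⟩ : (∀ c, τ (e c) = e c) ∧ ∃ b : Fˣ, (g : G2) = scal b * (k * (galGL τ k)⁻¹) := by
        rcases hH with hsym | hskew
        · exact fix_of_symm hsym h2 k e (by omega) hfx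
        · exact fix_of_alt (AutPSL.alt_of_skew h2 hskew) k e hfx
      have hτ2 : τ = 1 ∨ τ = σ := by
        obtain ⟨i, hi⟩ := mem_powers_iff_mem_zpowers.2 (mem_zpowers_of_fix (σ := σ) (τ := τ) fun x hx => by
          obtain ⟨c, rfl⟩ := (C.range x).2 hx
          exact hτ c)
        change σ ^ i = τ at hi
        rw [← hi, ← pow_mod_orderOf, C.ord]
        rcases Nat.mod_two_eq_zero_or_one i with h | h <;> rw [h]
        · exact Or.inl (pow_zero σ)
        · exact Or.inr (pow_one σ)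
      rcases hτ2 with rfl | rfl
      · rw [show uconj g = (1 : MulAut PU) from (GraphPSU.uconj_eq_one_iff C g).2
          ⟨b, by rw [hb, map_one, MulAut.one_apply, mul_inv_cancel, mul_one]⟩, one_mul, GraphPSU.phiU_one,
          one_pow]
      · have hg : uconj g = (uconj B⁻¹ : MulAut PU) := by
          rw [GraphPSU.uconj_eq_iff C]
          refine ⟨b * a, ?_⟩
          rw [InvMemClass.coe_inv, D.hB, _root_.mul_inv_rev, _root_.mul_inv_rev, inv_inv, hb,
            map_mul, mul_assoc (scal b)]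
          congr 1
          rw [← map_inv scal, ← FieldAut.scal_comm a⁻¹, ← mul_assoc (scal a), ← map_mul scal a,
            mul_inv_cancel, map_one, one_mul]
        rw [hg]
        exact orderOf_dvd_iff_pow_eq_one.1 ((GraphPSU.orderOf_ugam_iff C hm B).2 hB).dvd
  exact ⟨hc, he (dvd_mul_left 2 _)⟩

end Cfsg.Agent.LocalBalance
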