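import Cfsg.Agent.Lib.LocalBalance.UnitaryField
import Cfsg.Agent.Lib.LocalBalance.UnitaryGraph

/-!
# Local balance in `PSU_n(q)`

`psu_local_balance` : the criterion for automorphisms which are not inner-diagonal
-/

set_option autoImplicit false
set_option linter.unusedSectionVars false

namespace Cfsg.Agent.LocalBalance

open scoped MatrixGroups Matrix
open Cfsg.Agent.FieldAut (galGL scal suMat)
open Cfsg.Agent.GraphPSU (uconj phiU ugam)

variable {F : Type*} [Field F] [Fintype F] {m q : ℕ}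

local notation "PU" => Cfsg.PSU (m + 2) F q
local notation "G2" => GL (Fin (m + 2)) F

theorem crit_of_eq_conj {K : Type*} [Group K] {x y k : MulAut K} {p : ℕ} (hy : x = k * y * k⁻¹)
    (h : Crit p y) : Crit p x := by
  refine Crit.of_conj (α := k⁻¹) ?_
  rwa [hy, show k⁻¹ * (k * y * k⁻¹) * k⁻¹⁻¹ = y by group]

theorem not_three_two (hF : Fintype.card F = q ^ 2) (hK : IsSimpleGroup PU) :
    ¬(m + 2 = 3 ∧ q = 2) := by
  rintro ⟨h1, h2⟩
  obtain rfl : m = 1 := by omega
  subst h2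
  obtain ⟨N, hN, hc, -, -⟩ := Unitary.psu_three_two_normal_nine (F := F) hF
  have h72 := Unitary.card_PSU_three_two (F := F) hF
  rcases hN.eq_bot_or_eq_top with h | h
  · rw [h, Subgroup.card_bot] at hc; omega
  · rw [h, Subgroup.card_top, h72] at hc; omega

theorem psu_local_balance {r : ℕ} [Fact r.Prime] [CharP F r] (hF : Fintype.card F = q ^ 2) (hm : 1 ≤ m)
    (hK : IsSimpleGroup PU) {p : ℕ} [Fact p.Prime] (hpr : p ≠ r)
    (A : Subgroup (MulAut PU)) (hinn : ∀ k : PU, MulAut.conj k ∈ A) (β : MulAut PU)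
    (hord : orderOf β = p) (hnot : ¬ Cfsg.IsInnerDiagonalAutPSU β) :
    Cfsg.pPrimeCore p ↥(A ⊓ Subgroup.centralizer {β}) ≠ ⊥ ↔
      ((∃ γ φ : MulAut PU, Cfsg.IsInnerDiagonalAutPSU γ ∧ (∃ σ : F ≃+* F, Cfsg.IsFieldAutPSUOf σ φ) ∧
          β = φ.trans γ) ∧
        Nat.Coprime p (Nat.card (fixK β))) := by
  classical
  have hp : p.Prime := Fact.out
  haveI : Finite (F ≃+* F) := Finite.of_injective (fun a : F ≃+* F => (a : F → F)) DFunLike.coe_injective
  have hs := not_three_two hF hK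
  obtain ⟨g, τ, rfl⟩ := exists_uSemi hF hm hs β
  suffices key : Crit p (uconj g * phiU τ : MulAut PU) by
    rw [core_ne_bot_iff key A hinn]
    exact ⟨fun h => ⟨⟨uconj g, phiU τ, (GraphPSU.isInnerDiag_iff _).2 ⟨g, rfl⟩,
      ⟨τ, (GraphPSU.isFieldAutOf_iff _ _).2 rfl⟩, rfl⟩, h⟩, fun h => h.2⟩
  -- the subfield of order `q`
  let σq : F ≃+* F := RingEquiv.ofBijective (Unitary.conjHom hF)
    (Finite.injective_iff_bijective.1 (Unitary.conjHom hF).injective)
  haveI : Fintype (FieldAut.fixF σq) := Fintype.ofFinite _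
  have hσqo : orderOf σq = 2 := by
    refine orderOf_eq_prime ?_ fun h => ?_
    · refine RingEquiv.ext fun x => ?_
      rw [pow_two, RingAut.mul_apply]
      exact Unitary.pow_q_pow_q hF x
    · obtain ⟨d, hd0, hd⟩ := Unitary.exists_skew hF
      obtain ⟨t, ht⟩ := Unitary.exists_trace_eq hF (one_pow q : (1 : F) ^ q = 1)
      have h1 : ∀ x : F, x ^ q = x := fun x => RingEquiv.congr_fun h x
      rw [h1] at hd ht
      exact hd0 (by linear_combination (-d) * ht + t * hd)
  have hcard₀ : Fintype.card (FieldAut.fixF σq) = q := by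
    refine Nat.pow_left_injective two_ne_zero ?_
    show Fintype.card (FieldAut.fixF σq) ^ 2 = q ^ 2
    rw [← Nat.card_eq_fintype_card, FieldAut.pow_card_fixed σq hσqo, Nat.card_eq_fintype_card, hF]
  obtain ⟨σ, e, C⟩ := GraphPSU.exists_ctx hF hcard₀
  have hτ1 : τ ≠ 1 := fun h => hnot ((GraphPSU.isInnerDiag_iff _).2 ⟨g, by rw [h, GraphPSU.phiU_one, mul_one]⟩)
  have hpow : ∀ j : ℕ, ∃ g' : Cfsg.GU (m + 2) F q,
      (uconj g * phiU τ : MulAut PU) ^ j = uconj g' * phiU (τ ^ j) := by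
    intro j
    induction j with
    | zero => exact ⟨1, by rw [pow_zero, pow_zero, map_one, one_mul, GraphPSU.phiU_one]⟩
    | succ j ih =>
      obtain ⟨g', hg'⟩ := ih
      refine ⟨g' * GraphPSU.galU (τ ^ j) g, ?_⟩
      rw [pow_succ, hg', mul_assoc, ← mul_assoc (phiU (τ ^ j)), GraphPSU.phiU_uconj, mul_assoc, GraphPSU.phiU_mul,
        ← mul_assoc, ← map_mul, ← pow_succ]
  obtain ⟨g', hg'⟩ := hpow p
  rw [← hord, pow_orderOf_eq_one, hord] at hg'
  have hτ : orderOf τ = p := orderOf_eq_prime (GraphPSU.faithful C hm hg'.symm) hτ1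
  rcases hp.eq_two_or_odd' with rfl | hodd
  · obtain rfl : τ = σ := RingEquiv.ext fun x => by rw [AutPSL.sigma_eq_pow hτ hF, C.spow]
    have h2 : (2 : FieldAut.fixF σq) ≠ 0 := fun h => by
      have h' : ((2 : ℕ) : F) = 0 := by
        have := congrArg (Subfield.subtype (FieldAut.fixF σq)) h
        rw [map_ofNat, map_zero] at this
        exact_mod_cast this
      rw [CharP.cast_eq_zero_iff F r] at h'
      exact hpr ((Nat.prime_dvd_prime_iff_eq Fact.out Nat.prime_two).1 h').symm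
    have heg : (uconj g * phiU τ : MulAut PU) = ugam τ g⁻¹ := by rw [GraphPSU.ugam, inv_inv]
    rw [heg] at hord ⊢
    exact (crit_ugam C hm hs h2 ((GraphPSU.orderOf_ugam_iff C hm g⁻¹).1 hord)).1
  · obtain ⟨fF, -, hfF⟩ := FiniteField.card F r
    obtain ⟨f, -, hq⟩ := (Nat.dvd_prime_pow (Fact.out : r.Prime)).1
      (show q ∣ r ^ (fF : ℕ) by rw [← hfF, hF, pow_two]; exact dvd_mul_right q q)
    obtain ⟨-, -, hqq⟩ := FieldAut.psu_order_data Fact.out hq hF hτ hp hodd
    set q₀ := r ^ (f / p)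
    haveI : Fintype (FieldAut.fixF τ) := Fintype.ofFinite _
    have h₀ : Fintype.card (FieldAut.fixF τ) = q₀ ^ 2 := by
      refine Nat.pow_left_injective hp.ne_zero ?_
      show Fintype.card (FieldAut.fixF τ) ^ p = (q₀ ^ 2) ^ p
      rw [← Nat.card_eq_fintype_card, FieldAut.pow_card_fixed τ hτ, Nat.card_eq_fintype_card, hF, hqq]
      simp only [q₀, ← pow_mul]
      ring_nf
    let D : FieldAut.Setup (suMat (m + 2) F q) (Cfsg.GU (m + 2) F q) τ p :=
      ⟨FieldAut.suRigid hF (by omega), inferInstance, fun _ => FieldAut.conj_mem_suMat, FieldAut.keep_gal_su τ,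
        fun _ => FieldAut.galGL_GU τ, hτ, hp.pos⟩
    have hconj : Cfsg.IsConjUnder D.G D.phi (uconj g * D.phi) := D.coset_conj
      (fun k hk => FieldAut.psu_desc hF h₀ hqq hodd hτ (e := (FieldAut.fixF τ).subtype)
        (fun x => (FieldAut.mem_fixF τ).1 x.2) (fun x hx => ⟨⟨x, (FieldAut.mem_fixF τ).2 hx⟩, rfl⟩)
        (by omega) hk) ⟨g, rfl⟩ hord
    obtain ⟨δ, -, hδ⟩ := hconj
    exact crit_of_eq_conj hδ (crit_field_psu hF hm hs hodd hτ hqq)

end Cfsg.Agent.LocalBalance
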